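import Cfsg.Agent.H9.M24
set_option autoImplicit false

/-! Linear action on the code words (indexed by their low 12 bits) and orbit certificates. -/

namespace Cfsg.Agent.H9
open Cfsg
open scoped Pointwise

/-- xor of `f i` for `i < n`. -/
noncomputable def xorB (f : ℕ → ℕ) (n : ℕ) : ℕ :=
  @Nat.rec (fun _ => ℕ) 0 (fun i acc => Nat.xor acc (f i)) n

theorem xorB_xor (f g : ℕ → ℕ) (n : ℕ) : xorB (fun i => f i ^^^ g i) n = xorB f n ^^^ xorB g n := by
  induction n with
  | zero => simp [xorB]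
  | succ n ih =>
    have h1 : ∀ f : ℕ → ℕ, xorB f (n+1) = xorB f n ^^^ f n := fun _ => rfl
    rw [h1, h1, h1, ih]; ac_rfl

theorem bt_xor_mul (r a b i : ℕ) : Nat.mul r (bt (a ^^^ b) i) = Nat.mul r (bt a i) ^^^ Nat.mul r (bt b i) := by
  have hm : ∀ x y, Nat.mul x y = x * y := fun _ _ => rfl
  simp only [hm, bt_eq, Nat.testBit_xor]
  cases a.testBit i <;> cases b.testBit i <;> simp

/-- table lookup of the action: generator `g`, chunk entry `c` -/
def lookA (A g c : ℕ) : ℕ := Nat.land (Nat.shiftRight A (Nat.mul (Nat.add (Nat.mul g 128) c) 12)) 4095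

theorem lookA_lt (A g c : ℕ) : lookA A g c < 4096 := land_mask_lt _ 12

/-- action of generator `g` on the word index `k` -/
def act (A g k : ℕ) : ℕ := Nat.xor (lookA A g (Nat.land k 63)) (lookA A g (Nat.add 64 (Nat.shiftRight k 6)))

theorem act_lt (A g k : ℕ) : act A g k < 4096 := Nat.xor_lt_two_pow (n := 12) (lookA_lt _ _ _) (lookA_lt _ _ _)

/-- packed permutation number `g` -/
def pk (PP g : ℕ) : ℕ := lookW 120 1329227995784915872903807060280344575 PP g

/-- validity of the generator tables -/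
noncomputable def genOK (PP A g : ℕ) : Bool :=
  @Bool.rec (fun _ => Bool) false
    (@Bool.rec (fun _ => Bool) false
      (@Bool.rec (fun _ => Bool) false
        (allN (fun i => Nat.beq (imgM (pk PP g) (enc (Nat.pow 2 i))) (enc (act A g (Nat.pow 2 i)))) 12)
        (allN (fun c => Nat.beq (lookA A g (Nat.add 64 c))
          (xorB (fun i => Nat.mul (lookA A g (Nat.add 64 (Nat.pow 2 i))) (bt c i)) 6)) 64))
      (allN (fun c => Nat.beq (lookA A g c) (xorB (fun i => Nat.mul (lookA A g (Nat.pow 2 i)) (bt c i)) 6)) 64))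
    (isPerm (pk PP g))

theorem xor_induction {Q : ℕ → Prop} (h0 : Q 0) (h1 : ∀ i < 12, Q (2 ^ i))
    (hx : ∀ j < 4096, ∀ k < 4096, Q j → Q k → Q (j ^^^ k)) : ∀ k < 4096, Q k := by
  intro k
  induction k using Nat.strong_induction_on with
  | _ k ih =>
    intro hk
    rcases Nat.eq_zero_or_pos k with rfl | hpos
    · exact h0
    · set i := Nat.log2 k with hi
      have hk0 : k ≠ 0 := by omega
      have h1' : 2 ^ i ≤ k := Nat.log2_self_le hk0
      have h2 : k < 2 ^ (i+1) := Nat.lt_log2_self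
      have hd : k - 2 ^ i < 2 ^ i := by rw [pow_succ] at h2; omega
      have e1 : k = 2 ^ i ^^^ (k - 2 ^ i) := by
        have := Nat.two_pow_add_eq_or_of_lt hd 1
        have h5 : 2 ^ i * 1 + (k - 2 ^ i) = 2 ^ i ^^^ (k - 2 ^ i) := by
          apply Nat.eq_of_testBit_eq
          intro j
          rw [mul_one] at this ⊢
          rw [this, Nat.testBit_or, Nat.testBit_xor, Nat.testBit_two_pow]
          by_cases hj : i = j
          · subst hj
            rw [Nat.testBit_lt_two_pow hd]; simp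
          · simp [hj]
        rw [← h5]; omega
      have hi12 : i < 12 := by
        by_contra hc
        have : 2 ^ 12 ≤ 2 ^ i := Nat.pow_le_pow_right (by norm_num) (by omega)
        omega
      have h4 : k - 2 ^ i < k := lt_of_lt_of_le hd h1'
      have := hx (2 ^ i) (by omega) (k - 2 ^ i) (by omega) (h1 i hi12) (ih _ h4 (by omega))
      rwa [← e1] at this

theorem shiftRight_xor' (j k s : ℕ) : Nat.shiftRight (j ^^^ k) s = Nat.shiftRight j s ^^^ Nat.shiftRight k s :=
  Nat.shiftRight_xor_distrib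

theorem land63_xor (j k : ℕ) : Nat.land (j ^^^ k) 63 = Nat.land j 63 ^^^ Nat.land k 63 := by
  rw [land63, land63, land63, mod64_xor]

theorem land63_lt (k : ℕ) : Nat.land k 63 < 64 := by rw [land63]; exact Nat.mod_lt _ (by norm_num)

theorem shr6_lt {k : ℕ} (hk : k < 4096) : Nat.shiftRight k 6 < 64 := by
  have : Nat.shiftRight k 6 = k / 2 ^ 6 := Nat.shiftRight_eq_div_pow _ _
  rw [this]; omega

theorem act_xor {PP A g : ℕ} (h : genOK PP A g = true) {j k : ℕ} (hj : j < 4096) (hk : k < 4096) :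
    act A g (j ^^^ k) = act A g j ^^^ act A g k := by
  obtain ⟨-, h⟩ := (brec_false _ _).1 h
  obtain ⟨h1, h⟩ := (brec_false _ _).1 h
  obtain ⟨h2, -⟩ := (brec_false _ _).1 h
  have k1 : ∀ a < 64, ∀ b < 64, lookA A g (a ^^^ b) = lookA A g a ^^^ lookA A g b := by
    intro a ha b hb
    have hab : a ^^^ b < 64 := Nat.xor_lt_two_pow (n := 6) ha hb
    rw [Nat.eq_of_beq_eq_true ((allN_iff _ _).1 h1 _ hab), Nat.eq_of_beq_eq_true ((allN_iff _ _).1 h1 _ ha),
      Nat.eq_of_beq_eq_true ((allN_iff _ _).1 h1 _ hb), ← xorB_xor]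
    congr 1; funext i; exact bt_xor_mul _ _ _ _
  have k2 : ∀ a < 64, ∀ b < 64, lookA A g (Nat.add 64 (a ^^^ b)) =
      lookA A g (Nat.add 64 a) ^^^ lookA A g (Nat.add 64 b) := by
    intro a ha b hb
    have hab : a ^^^ b < 64 := Nat.xor_lt_two_pow (n := 6) ha hb
    rw [Nat.eq_of_beq_eq_true ((allN_iff _ _).1 h2 _ hab), Nat.eq_of_beq_eq_true ((allN_iff _ _).1 h2 _ ha),
      Nat.eq_of_beq_eq_true ((allN_iff _ _).1 h2 _ hb), ← xorB_xor]
    congr 1; funext i; exact bt_xor_mul _ _ _ _
  have hX : ∀ x y, Nat.xor x y = x ^^^ y := fun _ _ => rfl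
  unfold act
  rw [hX, hX, hX, land63_xor, shiftRight_xor', k1 _ (land63_lt _) _ (land63_lt _),
    k2 _ (shr6_lt hj) _ (shr6_lt hk)]
  ac_rfl

theorem gen_isPerm {PP A g : ℕ} (h : genOK PP A g = true) : isPerm (pk PP g) = true :=
  ((brec_false _ _).1 h).1

theorem gen_act_wd {PP A g : ℕ} (h : genOK PP A g = true) {k : ℕ} (hk : k < 4096) :
    (fun p => wd (enc k) ((toPerm (pk PP g)).symm p)) = wd (enc (act A g k)) := by
  have hp := gen_isPerm h
  refine xor_induction (Q := fun k => (fun p => wd (enc k) ((toPerm (pk PP g)).symm p)) = wd (enc (act A g k)))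
    ?_ ?_ ?_ k hk
  · have h0 := act_xor h (j := 0) (k := 0) (by norm_num) (by norm_num)
    rw [Nat.xor_self, Nat.xor_self] at h0
    show (fun p => wd (enc 0) ((toPerm (pk PP g)).symm p)) = wd (enc (act A g 0))
    rw [h0, enc_zero, wd_zero]; rfl
  · intro i hi
    obtain ⟨-, h⟩ := (brec_false _ _).1 h
    obtain ⟨-, h⟩ := (brec_false _ _).1 h
    obtain ⟨-, h3⟩ := (brec_false _ _).1 h
    have := Nat.eq_of_beq_eq_true ((allN_iff _ _).1 h3 i hi)
    show (fun p => wd (enc (2 ^ i)) ((toPerm (pk PP g)).symm p)) = wd (enc (act A g (2 ^ i)))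
    rw [wd_comp hp]
    exact congrArg wd this
  · intro j hj k hk h1 h2
    show (fun p => wd (enc (j ^^^ k)) ((toPerm (pk PP g)).symm p)) = wd (enc (act A g (j ^^^ k)))
    rw [act_xor h hj hk, enc_xor, enc_xor, wd_xor, wd_xor, ← h1, ← h2]; rfl

theorem gen_memM24 {PP A g : ℕ} (h : genOK PP A g = true) : toPerm (pk PP g) ∈ M24 := by
  rw [mem_M24_iff]
  intro w hw
  obtain ⟨k, hk, rfl⟩ := mem_golay_iff.1 hw
  rw [gen_act_wd h hk]
  exact enc_mem (act_lt _ _ _)

theorem gen_smul {PP A g : ℕ} (h : genOK PP A g = true) {k : ℕ} (hk : k < 4096) :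
    toPerm (pk PP g) • S (enc k) = S (enc (act A g k)) := by
  rw [← support_wd, ← support_comp, gen_act_wd h hk, support_wd]

/-- the subgroup generated by the first `n` packed permutations -/
noncomputable def genG (PP n : ℕ) : Subgroup (Equiv.Perm GolayPt) :=
  Subgroup.closure {g | ∃ i < n, g = toPerm (pk PP i)}

theorem gen_mem_genG {PP n i : ℕ} (hi : i < n) : toPerm (pk PP i) ∈ genG PP n :=
  Subgroup.subset_closure ⟨i, hi, rfl⟩

theorem genG_le {PP n : ℕ} {H : Subgroup (Equiv.Perm GolayPt)} (h : ∀ i < n, toPerm (pk PP i) ∈ H) :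
    genG PP n ≤ H := by
  rw [genG, Subgroup.closure_le]
  rintro g ⟨i, hi, rfl⟩; exact h i hi

/-- rank and generator data -/
def dR (D k : ℕ) : ℕ := Nat.shiftRight (lookW 8 255 D k) 3
/-- generator index data -/
def dG (D k : ℕ) : ℕ := Nat.land (lookW 8 255 D k) 7

/-- orbit certificate on code word indices -/
noncomputable def bfsOK (A n : ℕ) (f : ℕ → Bool) (col : ℕ → ℕ) (root : ℕ → ℕ) (D : ℕ) : Bool :=
  allR (fun k => @Bool.rec (fun _ => Bool) true
    (@Bool.rec (fun _ => Bool)
      (@Bool.rec (fun _ => Bool) false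
        (@Bool.rec (fun _ => Bool) false
          (@Bool.rec (fun _ => Bool) false
            (Nat.beq (col (act A (dG D k) k)) (col k))
            (Nat.blt (dR D (act A (dG D k) k)) (dR D k)))
          (f (act A (dG D k) k)))
        (Nat.blt (dG D k) n))
      (Nat.beq k (root (col k)))
      (Nat.beq (dR D k) 0))
    (f k)) 12 0

theorem bfs_spec {PP A n : ℕ} (hg : ∀ i < n, genOK PP A i = true) {f : ℕ → Bool} {col root : ℕ → ℕ} {D : ℕ}
    (h : bfsOK A n f col root D = true) : ∀ k < 4096, f k = true →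
      ∃ g ∈ genG PP n, g • S (enc k) = S (enc (root (col k))) := by
  have key : ∀ r, ∀ k < 4096, dR D k = r → f k = true →
      ∃ g ∈ genG PP n, g • S (enc k) = S (enc (root (col k))) := by
    intro r
    induction r using Nat.strong_induction_on with
    | _ r ih =>
      intro k hk hr hf
      have h1 := allR_spec h k (Nat.zero_le _) (by simpa using hk)
      rw [hf] at h1
      cases h2 : Nat.beq (dR D k) 0
      · rw [h2] at h1
        obtain ⟨h3, h1⟩ := (brec_false _ _).1 h1
        obtain ⟨h4, h1⟩ := (brec_false _ _).1 h1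
        obtain ⟨h5, h6⟩ := (brec_false _ _).1 h1
        have hn : dG D k < n := by simpa [Nat.blt] using h3
        have hlt : dR D (act A (dG D k) k) < r := by
          rw [← hr]; simpa [Nat.blt] using h5
        obtain ⟨g, hg1, hg2⟩ := ih _ hlt (act A (dG D k) k) (act_lt _ _ _) rfl h4
        refine ⟨g * toPerm (pk PP (dG D k)), (genG PP n).mul_mem hg1 (gen_mem_genG hn), ?_⟩
        rw [mul_smul, gen_smul (hg _ hn) hk, hg2, Nat.eq_of_beq_eq_true h6]
      · rw [h2] at h1
        refine ⟨1, (genG PP n).one_mem, ?_⟩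
        have h3 : Nat.beq k (root (col k)) = true := h1
        rw [one_smul]
        conv_lhs => rw [Nat.eq_of_beq_eq_true h3]
  intro k hk hf
  exact key _ k hk rfl hf

theorem bfs_pair {PP A n : ℕ} (hg : ∀ i < n, genOK PP A i = true) {f : ℕ → Bool} {col root : ℕ → ℕ} {D : ℕ}
    (h : bfsOK A n f col root D = true) {j k : ℕ} (hj : j < 4096) (hk : k < 4096) (fj : f j = true)
    (fk : f k = true) (hc : col j = col k) : ∃ g ∈ genG PP n, g • S (enc j) = S (enc k) := by
  obtain ⟨g1, h1, h2⟩ := bfs_spec hg h j hj fj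
  obtain ⟨g2, h3, h4⟩ := bfs_spec hg h k hk fk
  refine ⟨g2⁻¹ * g1, (genG PP n).mul_mem ((genG PP n).inv_mem h3) h1, ?_⟩
  rw [mul_smul, h2, hc, ← h4, inv_smul_smul]

end Cfsg.Agent.H9
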