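import Mathlib
set_option autoImplicit false

/-! Orbit-stabilizer chains, simplicity and maximality from orbit data. -/

namespace Cfsg.Agent.H9

open scoped Pointwise

theorem card_inf_stab {G X : Type*} [Group G] [MulAction G X] (H : Subgroup G) (a : X) :
    Nat.card H = (MulAction.orbit H a).ncard * Nat.card ↥(H ⊓ MulAction.stabilizer G a) := by
  have h1 := Subgroup.card_mul_index (MulAction.stabilizer H a)
  rw [MulAction.index_stabilizer] at h1
  have h2 : MulAction.stabilizer H a = (MulAction.stabilizer G a).subgroupOf H := by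
    ext x; rfl
  have h3 : Nat.card (MulAction.stabilizer H a) = Nat.card ↥(H ⊓ MulAction.stabilizer G a) := by
    rw [h2, inf_comm, ← Subgroup.subgroupOf_map_subtype]
    exact (Nat.card_congr (Subgroup.equivMapOfInjective _ _ H.subtype_injective).toEquiv)
  rw [← h1, h3, mul_comm]

/-- chain step with an explicit orbit -/
theorem card_step {G X : Type*} [Group G] [MulAction G X] (H : Subgroup G) (a : X) (O : Finset X)
    (h1 : ∀ q ∈ O, ∃ g ∈ H, g • a = q) (h2 : ∀ g ∈ H, g • a ∈ O) :
    Nat.card H = O.card * Nat.card ↥(H ⊓ MulAction.stabilizer G a) := by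
  rw [card_inf_stab H a]
  have : MulAction.orbit H a = (O : Set X) := by
    ext q
    rw [MulAction.mem_orbit_iff, Finset.mem_coe]
    constructor
    · rintro ⟨⟨g, hg⟩, rfl⟩; exact h2 g hg
    · intro hq
      obtain ⟨g, hg, h⟩ := h1 q hq
      exact ⟨⟨g, hg⟩, h⟩
  rw [this, Set.ncard_coe_finset]

/-- A normal subgroup whose index is prime to `p` contains the elements of `p`-power order. -/
theorem mem_of_pow_prime {G : Type*} [Group G] (N : Subgroup G) [N.Normal] {p k : ℕ} (hp : p.Prime)
    (hi : ¬ p ∣ N.index) {s : G} (hs : s ^ (p ^ k) = 1) : s ∈ N := by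
  have h1 : (QuotientGroup.mk s : G ⧸ N) ^ (p ^ k) = 1 := by
    rw [← QuotientGroup.mk_pow, hs]; rfl
  have h2 : (QuotientGroup.mk s : G ⧸ N) ^ N.index = 1 := by
    rw [Subgroup.index]; exact pow_card_eq_one'
  have h3 : Nat.Coprime (p ^ k) N.index := Nat.Coprime.pow_left _ ((Nat.Prime.coprime_iff_not_dvd hp).2 hi)
  have h4 := orderOf_dvd_of_pow_eq_one h1
  have h5 := orderOf_dvd_of_pow_eq_one h2
  have h6 : orderOf (QuotientGroup.mk s : G ⧸ N) = 1 := Nat.eq_one_of_dvd_coprimes h3 h4 h5
  rw [orderOf_eq_one_iff] at h6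
  exact (QuotientGroup.eq_one_iff s).1 h6

/-- Simplicity criterion: a faithful primitive action whose degree carries the full `p`-part of the
order, and generation by elements of `p`-power order. -/
theorem simple_of_primitive {G X : Type*} [Group G] [Finite G] [MulAction G X] [FaithfulSMul G X]
    [Finite X] [MulAction.IsPreprimitive G X] (p : ℕ) (hp : p.Prime) (hpX : p ∣ Nat.card X)
    (hfull : ¬ p ∣ Nat.card G / Nat.card X) (s : Set G) (hs : Subgroup.closure s = ⊤)
    (hsp : ∀ x ∈ s, ∃ k, x ^ (p ^ k) = 1) : IsSimpleGroup G := by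
  have hXpos : 0 < Nat.card X := by
    rcases Nat.eq_zero_or_pos (Nat.card X) with h | h
    · rw [h] at hfull; simp at hfull
    · exact h
  haveI : Nonempty X := (Nat.card_pos_iff.1 hXpos).1
  haveI hnt : Nontrivial X := by
    rw [← Finite.one_lt_card_iff_nontrivial]
    have := Nat.le_of_dvd hXpos hpX
    exact lt_of_lt_of_le hp.one_lt this
  haveI : Nontrivial G := by
    obtain ⟨x, y, hxy⟩ := exists_pair_ne X
    obtain ⟨g, hg⟩ := MulAction.exists_smul_eq G x y
    refine ⟨⟨g, 1, ?_⟩⟩
    rintro rfl
    rw [one_smul] at hg; exact hxy hg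
  refine ⟨fun N hN => ?_⟩
  by_cases hbot : N = ⊥
  · exact Or.inl hbot
  right
  have hfix : MulAction.fixedPoints N X ≠ Set.univ := by
    intro h
    apply hbot
    rw [eq_bot_iff]
    intro n hn
    rw [Subgroup.mem_bot]
    apply FaithfulSMul.eq_of_smul_eq_smul (α := X)
    intro x
    have : x ∈ MulAction.fixedPoints N X := by rw [h]; trivial
    rw [one_smul]
    exact this ⟨n, hn⟩
  haveI : MulAction.IsPretransitive N X := MulAction.IsQuasiPreprimitive.isPretransitive_of_normal hfix
  have h1 : Nat.card X ∣ Nat.card N := by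
    obtain ⟨x⟩ := ‹Nonempty X›
    have := MulAction.index_stabilizer N x
    rw [MulAction.orbit_eq_univ, Set.ncard_univ] at this
    rw [← this]
    exact Subgroup.index_dvd_card _
  have h2 : ¬ p ∣ N.index := by
    intro h
    apply hfull
    obtain ⟨m, hm⟩ := h1
    have h3 := Subgroup.card_mul_index N
    rw [← h3, hm, mul_assoc, Nat.mul_div_cancel_left _ hXpos]
    exact dvd_mul_of_dvd_right h _
  rw [eq_top_iff, ← hs, Subgroup.closure_le]
  intro x hx
  obtain ⟨k, hk⟩ := hsp x hx
  exact mem_of_pow_prime N hp h2 hk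

/-- Maximality of a point stabilizer from suborbit data: `c` is an invariant colouring separating the
suborbits. -/
theorem coatom_of_suborbits {G X : Type*} [Group G] [Finite G] [MulAction G X] [DecidableEq X] (a : X)
    (O : Finset X) (hO : ∀ x, x ∈ O ↔ x ∈ MulAction.orbit G a) (c : X → ℕ) (K : Finset ℕ)
    (hK : ∀ x ∈ O, x ≠ a → c x ∈ K)
    (hc : ∀ x ∈ O, ∀ y ∈ O, x ≠ a → y ≠ a → c x = c y → ∃ g ∈ MulAction.stabilizer G a, g • x = y)
    (hdiv : ∀ C ⊆ K, (1 + ∑ i ∈ C, (O.filter fun x => x ≠ a ∧ c x = i).card) ∣ O.card → C = ∅ ∨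
      (1 + ∑ i ∈ C, (O.filter fun x => x ≠ a ∧ c x = i).card) = O.card)
    (hne : 1 < O.card) : IsCoatom (MulAction.stabilizer G a) := by
  classical
  have hidx : (MulAction.stabilizer G a).index = O.card := by
    rw [MulAction.index_stabilizer, ← Set.ncard_coe_finset]
    congr 1
    ext x; exact (hO x).symm
  have haO : a ∈ O := (hO a).2 (MulAction.mem_orbit_self a)
  refine ⟨?_, fun H hH => ?_⟩
  · intro h
    rw [h, Subgroup.index_top] at hidx
    omega
  · -- T = orbit of a under H
    set T : Finset X := O.filter fun x => ∃ h ∈ H, h • a = x with hT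
    have hTmem : ∀ x, x ∈ T ↔ ∃ h ∈ H, h • a = x := by
      intro x
      rw [hT, Finset.mem_filter]
      refine ⟨fun h => h.2, fun h => ⟨?_, h⟩⟩
      obtain ⟨h, _, rfl⟩ := h
      exact (hO _).2 ⟨h, rfl⟩
    have hle : MulAction.stabilizer G a ≤ H := hH.le
    have haT : a ∈ T := (hTmem a).2 ⟨1, H.one_mem, one_smul _ _⟩
    -- card of T divides card of O
    have hTcard : Nat.card H = T.card * Nat.card ↥(H ⊓ MulAction.stabilizer G a) := by
      apply card_step
      · intro q hq; exact (hTmem q).1 hq
      · intro g hg; exact (hTmem _).2 ⟨g, hg, rfl⟩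
    have hinf : H ⊓ MulAction.stabilizer G a = MulAction.stabilizer G a := inf_eq_right.2 hle
    rw [hinf] at hTcard
    have hGcard : Nat.card G = O.card * Nat.card (MulAction.stabilizer G a) := by
      rw [← hidx, mul_comm]; exact (Subgroup.card_mul_index _).symm
    have hHdvd : Nat.card H ∣ Nat.card G := Subgroup.card_subgroup_dvd_card H
    have hpos : 0 < Nat.card (MulAction.stabilizer G a) := Nat.card_pos
    have hdvd : T.card ∣ O.card := by
      rw [hTcard, hGcard] at hHdvd
      exact Nat.dvd_of_mul_dvd_mul_right hpos hHdvd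
    -- T is a union of colour classes
    set C : Finset ℕ := (T.erase a).image c with hC
    have hTO : T ⊆ O := Finset.filter_subset _ _
    have hCK : C ⊆ K := by
      intro i hi
      rw [hC, Finset.mem_image] at hi
      obtain ⟨x, hx, rfl⟩ := hi
      rw [Finset.mem_erase] at hx
      exact hK x (hTO hx.2) hx.1
    have hTunion : T = insert a (C.biUnion fun i => O.filter fun x => x ≠ a ∧ c x = i) := by
      ext y
      rw [Finset.mem_insert, Finset.mem_biUnion]
      constructor
      · intro hy
        by_cases hya : y = a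
        · exact Or.inl hya
        · right
          refine ⟨c y, ?_, ?_⟩
          · rw [hC, Finset.mem_image]; exact ⟨y, Finset.mem_erase.2 ⟨hya, hy⟩, rfl⟩
          · rw [Finset.mem_filter]; exact ⟨hTO hy, hya, rfl⟩
      · rintro (rfl | ⟨i, hi, hy⟩)
        · exact haT
        · rw [Finset.mem_filter] at hy
          rw [hC, Finset.mem_image] at hi
          obtain ⟨x, hx, hxi⟩ := hi
          rw [Finset.mem_erase] at hx
          obtain ⟨g, hg, hgx⟩ := hc x (hTO hx.2) y hy.1 hx.1 hy.2.1 (by rw [hxi, hy.2.2])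
          obtain ⟨h, hh, rfl⟩ := (hTmem x).1 hx.2
          rw [hTmem]
          exact ⟨g * h, H.mul_mem (hle hg) hh, by rw [mul_smul]; exact hgx⟩
    have hTc : T.card = 1 + ∑ i ∈ C, (O.filter fun x => x ≠ a ∧ c x = i).card := by
      rw [hTunion, Finset.card_insert_of_notMem, Finset.card_biUnion, add_comm]
      · intro i _ j _ hij
        rw [Function.onFun, Finset.disjoint_left]
        intro x hx hx'
        rw [Finset.mem_filter] at hx hx'
        exact hij (hx.2.2.symm.trans hx'.2.2)
      · simp
    have := hdiv C hCK (by rw [← hTc]; exact hdvd)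
    rcases this with h0 | h1
    · -- C empty: T = {a}, H = stabilizer, contradiction
      exfalso
      rw [h0] at hTc
      simp only [Finset.sum_empty, add_zero] at hTc
      apply hH.ne
      symm
      apply le_antisymm _ hle
      intro h hh
      rw [MulAction.mem_stabilizer_iff]
      have hm : h • a ∈ T := (hTmem _).2 ⟨h, hh, rfl⟩
      have := Finset.card_le_one.1 hTc.le _ hm _ haT
      exact this
    · rw [← hTc] at h1
      rw [h1] at hTcard
      rw [← Subgroup.card_eq_iff_eq_top, hTcard, hGcard]

end Cfsg.Agent.H9
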