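import Cfsg.Agent.H9.Orb2
set_option autoImplicit false

/-! Packed products, enumeration of cosets of the base stabilizers, and conjugacy certificates. -/

namespace Cfsg.Agent.H9
open Cfsg
open scoped Pointwise

/-- packed product (`Q` first) -/
noncomputable def mulP (P Q : ℕ) : ℕ := orB (fun i => Nat.shiftLeft (im P (im Q i)) (Nat.mul 5 i)) 24

theorem im_lt32 (P i : ℕ) : im P i < 32 := land_mask_lt _ 5

theorem im_orB {v : ℕ → ℕ} (hv : ∀ i, v i < 32) {x : ℕ} (hx : x < 24) :
    im (orB (fun i => Nat.shiftLeft (v i) (Nat.mul 5 i)) 24) x = v x := by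
  have hsh : ∀ a s n, (Nat.shiftLeft a s).testBit n = (decide (n ≥ s) && a.testBit (n - s)) :=
    fun a s n => Nat.testBit_shiftLeft a
  apply Nat.eq_of_testBit_eq
  intro j
  have e1 : im (orB (fun i => Nat.shiftLeft (v i) (Nat.mul 5 i)) 24) x =
      (orB (fun i => Nat.shiftLeft (v i) (Nat.mul 5 i)) 24 >>> (x * 5)) &&& 31 := rfl
  rw [e1, Nat.testBit_and, Nat.testBit_shiftRight]
  have e31 : (31 : ℕ) = 2 ^ 5 - 1 := by norm_num
  rw [e31, Nat.testBit_two_pow_sub_one]
  by_cases hj : j < 5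
  · simp only [hj, decide_true, Bool.and_true]
    rw [Bool.eq_iff_iff, testBit_orB]
    constructor
    · rintro ⟨i, hi, h⟩
      rw [hsh, Bool.and_eq_true, decide_eq_true_eq] at h
      obtain ⟨h1, h2⟩ := h
      have h1' : 5 * i ≤ x * 5 + j := h1
      have hix : i ≤ x := by omega
      rcases Nat.lt_or_ge i x with h3 | h3
      · exfalso
        have h4 : (v i) < 2 ^ (x * 5 + j - Nat.mul 5 i) := by
          refine lt_of_lt_of_le (hv i) ?_
          have : 5 ≤ x * 5 + j - Nat.mul 5 i := by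
            have : Nat.mul 5 i = 5 * i := rfl
            omega
          calc 32 = 2 ^ 5 := by norm_num
            _ ≤ _ := Nat.pow_le_pow_right (by norm_num) this
        rw [Nat.testBit_lt_two_pow h4] at h2
        exact absurd h2 (by simp)
      · have : i = x := by omega
        subst this
        have h5 : i * 5 + j - Nat.mul 5 i = j := by
          have : Nat.mul 5 i = 5 * i := rfl
          omega
        rwa [h5] at h2
    · intro h
      refine ⟨x, hx, ?_⟩
      rw [hsh, Bool.and_eq_true, decide_eq_true_eq]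
      have h5 : x * 5 + j - Nat.mul 5 x = j := by
        have : Nat.mul 5 x = 5 * x := rfl
        omega
      rw [h5]
      refine ⟨?_, h⟩
      have : Nat.mul 5 x = 5 * x := rfl
      omega
  · simp only [hj, decide_false, Bool.and_false]
    symm
    apply Nat.testBit_lt_two_pow
    refine lt_of_lt_of_le (hv x) ?_
    calc 32 = 2 ^ 5 := by norm_num
      _ ≤ _ := Nat.pow_le_pow_right (by norm_num) (by omega)

theorem im_mulP (P Q : ℕ) {x : ℕ} (hx : x < 24) : im (mulP P Q) x = im P (im Q x) :=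
  im_orB (v := fun i => im P (im Q i)) (fun _ => im_lt32 _ _) hx

theorem mulOK_mulP (P Q : ℕ) : mulOK (mulP P Q) P Q = true := by
  rw [mulOK, allN_iff]
  intro x hx
  rw [im_mulP P Q hx]; exact Nat.beq_refl _

theorem isPerm_mulP {P Q : ℕ} (hP : isPerm P = true) (hQ : isPerm Q = true) : isPerm (mulP P Q) = true :=
  isPerm_of_mul hP hQ (mulOK_mulP P Q)

theorem toPerm_mulP {P Q : ℕ} (hP : isPerm P = true) (hQ : isPerm Q = true) : toPerm (mulP P Q) = toPerm P * toPerm Q :=
  toPerm_mul hP hQ (mulOK_mulP P Q)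

theorem tr_isPerm {i x : ℕ} (hi : i < 7) (hx : x < 24) (h : Nat.beq (bt (orb i) x) 1 = true) : isPerm (tr i x) = true := by
  have h1 := (allN_iff _ _).1 trLevels_ok i hi
  have h2 := (allN_iff _ _).1 h1 x hx
  rw [h] at h2
  obtain ⟨h3, h4⟩ := (brec_false _ _).1 h2
  exact checkM24_perm h3

theorem bt_eq_one_iff {m i : ℕ} : Nat.beq (bt m i) 1 = true ↔ m.testBit i = true := by
  rw [beq_iff, bt_eq]; cases m.testBit i <;> simp

/-- one step of the enumeration -/
theorem enum_step {i : ℕ} (hi : i < 7) {g : Equiv.Perm GolayPt} (hg : g ∈ Hc i) :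
    ∃ x < 24, Nat.beq (bt (orb i) x) 1 = true ∧ (toPerm (tr i x))⁻¹ * g ∈ Hc (i+1) := by
  have h1 := orbit_step hi hg
  refine ⟨idx (g (B i)), idx_lt _, bt_eq_one_iff.2 (mem_S.1 h1), ?_⟩
  obtain ⟨h2, h3, h4⟩ := tr_spec hi (idx_lt (g (B i))) (mem_S.1 h1)
  rw [pt_idx] at h3
  rw [mem_Hc] at hg ⊢
  refine ⟨M24.mul_mem (M24.inv_mem h2) hg.1, fun j hj => ?_⟩
  rw [Equiv.Perm.mul_apply]
  rcases Nat.lt_succ_iff_lt_or_eq.1 hj with h5 | rfl
  · rw [hg.2 j h5, Equiv.Perm.inv_eq_iff_eq]; exact (h4 j h5).symm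
  · rw [Equiv.Perm.inv_eq_iff_eq]; exact h3.symm

/-- elements of the pointwise stabilizer of five base points -/
noncomputable def e5 (T x y : ℕ) : ℕ := mulP (mulP T (tr 5 x)) (tr 6 y)
/-- elements of the pointwise stabilizer of four base points -/
noncomputable def e4 (T w x y : ℕ) : ℕ := mulP (mulP (mulP T (tr 4 w)) (tr 5 x)) (tr 6 y)

theorem enum5 {T : ℕ} (hT : checkM24 T = true) {g : Equiv.Perm GolayPt} (hg : g ∈ M24)
    (h : ∀ i < 5, g (B i) = toPerm T (B i)) : ∃ x < 24, ∃ y < 24, Nat.beq (bt (orb 5) x) 1 = true ∧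
      Nat.beq (bt (orb 6) y) 1 = true ∧ isPerm (e5 T x y) = true ∧ g = toPerm (e5 T x y) := by
  have hTp := checkM24_perm hT
  have h0 : (toPerm T)⁻¹ * g ∈ Hc 5 := by
    rw [mem_Hc]
    refine ⟨M24.mul_mem (M24.inv_mem (checkM24_mem hT)) hg, fun j hj => ?_⟩
    rw [Equiv.Perm.mul_apply, h j hj, Equiv.Perm.inv_eq_iff_eq]
  obtain ⟨x, hx, hx1, h1⟩ := enum_step (by norm_num) h0
  obtain ⟨y, hy, hy1, h2⟩ := enum_step (by norm_num) h1
  have px := tr_isPerm (by norm_num) hx hx1
  have py := tr_isPerm (by norm_num) hy hy1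
  rw [Hc7, Subgroup.mem_bot] at h2
  have p1 := isPerm_mulP hTp px
  refine ⟨x, hx, y, hy, hx1, hy1, isPerm_mulP p1 py, ?_⟩
  rw [e5, toPerm_mulP p1 py, toPerm_mulP hTp px]
  have : g = toPerm T * toPerm (tr 5 x) * toPerm (tr 6 y) * ((toPerm (tr 6 y))⁻¹ * ((toPerm (tr 5 x))⁻¹ * ((toPerm T)⁻¹ * g))) := by
    group
  rw [h2, mul_one] at this
  exact this

theorem enum4 {T : ℕ} (hT : checkM24 T = true) {g : Equiv.Perm GolayPt} (hg : g ∈ M24)
    (h : ∀ i < 4, g (B i) = toPerm T (B i)) : ∃ w < 24, ∃ x < 24, ∃ y < 24, Nat.beq (bt (orb 4) w) 1 = true ∧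
      Nat.beq (bt (orb 5) x) 1 = true ∧
      Nat.beq (bt (orb 6) y) 1 = true ∧ isPerm (e4 T w x y) = true ∧ g = toPerm (e4 T w x y) := by
  have hTp := checkM24_perm hT
  have h0 : (toPerm T)⁻¹ * g ∈ Hc 4 := by
    rw [mem_Hc]
    refine ⟨M24.mul_mem (M24.inv_mem (checkM24_mem hT)) hg, fun j hj => ?_⟩
    rw [Equiv.Perm.mul_apply, h j hj, Equiv.Perm.inv_eq_iff_eq]
  obtain ⟨w, hw, hw1, h'⟩ := enum_step (by norm_num) h0
  obtain ⟨x, hx, hx1, h1⟩ := enum_step (by norm_num) h'
  obtain ⟨y, hy, hy1, h2⟩ := enum_step (by norm_num) h1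
  have pw := tr_isPerm (by norm_num) hw hw1
  have px := tr_isPerm (by norm_num) hx hx1
  have py := tr_isPerm (by norm_num) hy hy1
  rw [Hc7, Subgroup.mem_bot] at h2
  have p0 := isPerm_mulP hTp pw
  have p1 := isPerm_mulP p0 px
  refine ⟨w, hw, x, hx, y, hy, hw1, hx1, hy1, isPerm_mulP p1 py, ?_⟩
  rw [e4, toPerm_mulP p1 py, toPerm_mulP p0 px, toPerm_mulP hTp pw]
  have : g = toPerm T * toPerm (tr 4 w) * toPerm (tr 5 x) * toPerm (tr 6 y) *
      ((toPerm (tr 6 y))⁻¹ * ((toPerm (tr 5 x))⁻¹ * ((toPerm (tr 4 w))⁻¹ * ((toPerm T)⁻¹ * g)))) := by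
    group
  rw [h2, mul_one] at this
  exact this

/-- conjugacy check: `C * P = G * C` -/
noncomputable def conjOK (C P G : ℕ) : Bool :=
  band (checkM24 C) (allN (fun i => Nat.beq (im C (im P i)) (im G (im C i))) 24)

theorem conjOK_spec {C P G : ℕ} (hP : isPerm P = true) (hG : isPerm G = true) (h : conjOK C P G = true) :
    toPerm C ∈ M24 ∧ toPerm C * toPerm P * (toPerm C)⁻¹ = toPerm G := by
  rw [conjOK, band_iff] at h
  have hC := checkM24_perm h.1
  refine ⟨checkM24_mem h.1, ?_⟩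
  rw [mul_inv_eq_iff_eq_mul]
  ext1 p
  rw [Equiv.Perm.mul_apply, Equiv.Perm.mul_apply]
  apply idx_inj
  rw [idx_toPerm hC, idx_toPerm hP, idx_toPerm hG, idx_toPerm hC]
  exact Nat.eq_of_beq_eq_true ((allN_iff _ _).1 h.2 _ (idx_lt p))

/-- all elements of the coset of type `ty` satisfy `Q` -/
noncomputable def all5 (T : ℕ) (Q : ℕ → ℕ → ℕ → Bool) : Bool :=
  allN (fun x => @Bool.rec (fun _ => Bool) true
    (allN (fun y => @Bool.rec (fun _ => Bool) true (Q (e5 T x y) x y) (Nat.beq (bt (orb 6) y) 1)) 24)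
    (Nat.beq (bt (orb 5) x) 1)) 24

theorem all5_spec {T : ℕ} (hT : checkM24 T = true) {Q : ℕ → ℕ → ℕ → Bool} (hQ : all5 T Q = true)
    {g : Equiv.Perm GolayPt} (hg : g ∈ M24) (h : ∀ i < 5, g (B i) = toPerm T (B i)) :
    ∃ P, isPerm P = true ∧ g = toPerm P ∧ ∃ x < 24, ∃ y < 24, Q P x y = true := by
  obtain ⟨x, hx, y, hy, h1, h2, h3, h4⟩ := enum5 hT hg h
  refine ⟨e5 T x y, h3, h4, x, hx, y, hy, ?_⟩
  have a1 := (allN_iff _ _).1 hQ x hx
  rw [h1] at a1
  have a2 := (allN_iff _ _).1 a1 y hy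
  rw [h2] at a2
  exact a2

/-- all elements of the coset satisfy `Q` -/
noncomputable def all4 (T : ℕ) (Q : ℕ → Bool) : Bool :=
  allN (fun w => @Bool.rec (fun _ => Bool) true
    (allN (fun x => @Bool.rec (fun _ => Bool) true
      (allN (fun y => @Bool.rec (fun _ => Bool) true (Q (e4 T w x y)) (Nat.beq (bt (orb 6) y) 1)) 24)
      (Nat.beq (bt (orb 5) x) 1)) 24)
    (Nat.beq (bt (orb 4) w) 1)) 24

theorem all4_spec {T : ℕ} (hT : checkM24 T = true) {Q : ℕ → Bool} (hQ : all4 T Q = true)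
    {g : Equiv.Perm GolayPt} (hg : g ∈ M24) (h : ∀ i < 4, g (B i) = toPerm T (B i)) :
    ∃ P, isPerm P = true ∧ g = toPerm P ∧ Q P = true := by
  obtain ⟨w, hw, x, hx, y, hy, h0, h1, h2, h3, h4⟩ := enum4 hT hg h
  refine ⟨e4 T w x y, h3, h4, ?_⟩
  have a0 := (allN_iff _ _).1 hQ w hw
  rw [h0] at a0
  have a1 := (allN_iff _ _).1 a0 x hx
  rw [h1] at a1
  have a2 := (allN_iff _ _).1 a1 y hy
  rw [h2] at a2
  exact a2

/-- power test -/
noncomputable def powOK (P k : ℕ) : Bool := allN (fun i => Nat.beq (imN P k i) i) 24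
/-- fixed point free test -/
noncomputable def ffOK (P : ℕ) : Bool := allN (fun i => @Bool.rec (fun _ => Bool) true false (Nat.beq (im P i) i)) 24

theorem powOK_iff {P k : ℕ} (hP : isPerm P = true) : powOK P k = true ↔ toPerm P ^ k = 1 := by
  constructor
  · intro h; exact pow_perm_one' hP h
  · intro h
    rw [powOK, allN_iff]
    intro i hi
    rw [beq_iff, imN_eq]
    have key : ∀ k, (toPerm P ^ k) (pt i) = pt ((im P)^[k] i) ∧ (im P)^[k] i < 24 := by
      intro k
      induction k with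
      | zero => exact ⟨rfl, hi⟩
      | succ k ih =>
        rw [pow_succ', Equiv.Perm.mul_apply, ih.1, Function.iterate_succ_apply', toPerm_pt hP ih.2]
        exact ⟨rfl, im_lt hP ih.2⟩
    have h1 := (key k).1
    rw [h] at h1
    exact (pt_inj hi (key k).2 h1).symm

theorem ffOK_iff {P : ℕ} (hP : isPerm P = true) : ffOK P = true ↔ ∀ p, toPerm P p ≠ p := by
  rw [ffOK, allN_iff]
  constructor
  · intro h p hp
    have h1 := h (idx p) (idx_lt p)
    have h2 : Nat.beq (im P (idx p)) (idx p) = true := by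
      rw [beq_iff, ← idx_toPerm hP, hp]
    rw [h2] at h1
    exact absurd h1 (by simp)
  · intro h i hi
    cases h1 : Nat.beq (im P i) i
    · rfl
    · exfalso
      apply h (pt i)
      rw [toPerm_pt hP hi, beq_iff.1 h1]

/-- bounded existence -/
noncomputable def anyN (f : ℕ → Bool) (n : ℕ) : Bool :=
  @Nat.rec (fun _ => Bool) false (fun i acc => @Bool.rec (fun _ => Bool) acc true (f i)) n

theorem anyN_spec {f : ℕ → Bool} {n : ℕ} (h : anyN f n = true) : ∃ i < n, f i = true := by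
  induction n with
  | zero => exact absurd h (by simp [anyN])
  | succ n ih =>
    have h' : @Bool.rec (fun _ => Bool) (anyN f n) true (f n) = true := h
    rcases (brec_true _ _).1 h' with h1 | h1
    · exact ⟨n, by omega, h1⟩
    · obtain ⟨i, hi, h2⟩ := ih h1
      exact ⟨i, by omega, h2⟩

/-- `C * P = G * C` -/
noncomputable def conjT (C P G : ℕ) : Bool := allN (fun i => Nat.beq (im C (im P i)) (im G (im C i))) 24

/-- `P` is conjugate to `G` through the list -/
noncomputable def conjL (L n G P : ℕ) : Bool := anyN (fun j => conjT (pk L j) P G) n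

theorem conjL_spec {L n G P : ℕ} (hL : allN (fun j => checkM24 (pk L j)) n = true) (hG : isPerm G = true)
    (hP : isPerm P = true) (h : conjL L n G P = true) : ∃ u ∈ M24, u * toPerm P * u⁻¹ = toPerm G := by
  obtain ⟨j, hj, h1⟩ := anyN_spec h
  have := conjOK_spec (C := pk L j) hP hG (band_iff.2 ⟨(allN_iff _ _).1 hL j hj, h1⟩)
  exact ⟨_, this.1, this.2⟩

/-- the class certificate on five base points -/
theorem cls5 {T L n k : ℕ} (hT : checkM24 T = true) (hL : allN (fun j => checkM24 (pk L j)) n = true)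
    (hall : all5 T (fun P _ _ => @Bool.rec (fun _ => Bool) true (conjL L n T P) (powOK P k)) = true)
    {g : Equiv.Perm GolayPt} (hg : g ∈ M24) (hk : g ^ k = 1) (h : ∀ i < 5, g (B i) = toPerm T (B i)) :
    ∃ u ∈ M24, u * g * u⁻¹ = toPerm T := by
  obtain ⟨P, hP, rfl, x, _, y, _, h1⟩ := all5_spec hT hall hg h
  rw [(powOK_iff hP).2 hk] at h1
  exact conjL_spec hL (checkM24_perm hT) hP h1

/-- the class certificate on four base points (fixed point free elements) -/
theorem cls4 {T L n k : ℕ} (hT : checkM24 T = true) (hL : allN (fun j => checkM24 (pk L j)) n = true)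
    (hall : all4 T (fun P => @Bool.rec (fun _ => Bool) true (conjL L n T P) (band (powOK P k) (ffOK P))) = true)
    {g : Equiv.Perm GolayPt} (hg : g ∈ M24) (hk : g ^ k = 1) (hf : ∀ p, g p ≠ p)
    (h : ∀ i < 4, g (B i) = toPerm T (B i)) : ∃ u ∈ M24, u * g * u⁻¹ = toPerm T := by
  obtain ⟨P, hP, rfl, h1⟩ := all4_spec hT hall hg h
  rw [band_iff.2 ⟨(powOK_iff hP).2 hk, (ffOK_iff hP).2 hf⟩] at h1
  exact conjL_spec hL (checkM24_perm hT) hP h1

/-- the class certificate on four base points, no fixed point condition -/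
theorem cls4' {T L n k : ℕ} (hT : checkM24 T = true) (hL : allN (fun j => checkM24 (pk L j)) n = true)
    (hall : all4 T (fun P => @Bool.rec (fun _ => Bool) true (conjL L n T P) (powOK P k)) = true)
    {g : Equiv.Perm GolayPt} (hg : g ∈ M24) (hk : g ^ k = 1)
    (h : ∀ i < 4, g (B i) = toPerm T (B i)) : ∃ u ∈ M24, u * g * u⁻¹ = toPerm T := by
  obtain ⟨P, hP, rfl, h1⟩ := all4_spec hT hall hg h
  rw [(powOK_iff hP).2 hk] at h1
  exact conjL_spec hL (checkM24_perm hT) hP h1

/-- base change -/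
theorem conj_pattern {g u : Equiv.Perm GolayPt} {a b : GolayPt} {i j : ℕ} (ha : u a = B i) (hb : u b = B j) (h : g a = b) :
    (u * g * u⁻¹) (B i) = B j := by
  rw [Equiv.Perm.mul_apply, Equiv.Perm.mul_apply]
  have : u⁻¹ (B i) = a := by rw [Equiv.Perm.inv_eq_iff_eq, ha]
  rw [this, h, hb]

/-- mask of the fixed points -/
noncomputable def fixM (P : ℕ) : ℕ := orB (fun i => Nat.shiftLeft (@Bool.rec (fun _ => ℕ) 0 1 (Nat.beq (im P i) i)) i) 24

theorem S_fixM {P : ℕ} (hP : isPerm P = true) : S (fixM P) = Finset.univ.filter fun p => toPerm P p = p := by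
  ext p
  rw [mem_S, fixM, testBit_orB, Finset.mem_filter]
  constructor
  · rintro ⟨i, hi, h⟩
    cases h1 : Nat.beq (im P i) i
    · rw [h1] at h
      have e : Nat.shiftLeft 0 i = 0 := by
        have h : Nat.shiftLeft 0 i = 0 <<< i := rfl
        rw [h, Nat.zero_shiftLeft]
      rw [e] at h; simp at h
    · rw [h1, testBit_one_shl] at h
      refine ⟨Finset.mem_univ _, ?_⟩
      apply idx_inj
      rw [idx_toPerm hP, ← h, beq_iff.1 h1]
  · rintro ⟨-, h⟩
    refine ⟨idx p, idx_lt p, ?_⟩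
    have h1 : Nat.beq (im P (idx p)) (idx p) = true := by rw [beq_iff, ← idx_toPerm hP, h]
    rw [h1, testBit_one_shl]

/-- packed identity -/
def idP : ℕ := 0xbdab49ca307b9ac5a928398a418820

theorem idP_m : checkM24 idP = true := by decide +kernel
theorem idP_one : toPerm idP = 1 := by
  have h := pow_perm_one' (P := idP) (k := 1) (checkM24_perm idP_m) (by decide +kernel)
  rwa [pow_one] at h

theorem fix_few : all5 idP (fun P _ _ => @Bool.rec (fun _ => Bool) (Nat.ble (pc (fixM P)) 8) true (powOK P 1)) = true := by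
  decide +kernel

/-- the fixed points -/
def fx (g : Equiv.Perm GolayPt) : Finset GolayPt := Finset.univ.filter fun p => g p = p

theorem mem_fx {g : Equiv.Perm GolayPt} {p : GolayPt} : p ∈ fx g ↔ g p = p := by simp [fx]

theorem fx_conj (g u : Equiv.Perm GolayPt) : fx (u * g * u⁻¹) = u • fx g := by
  ext p
  rw [mem_fx, ← Finset.inv_smul_mem_iff, mem_fx, Equiv.Perm.mul_apply, Equiv.Perm.mul_apply, Equiv.Perm.smul_def]
  constructor
  · intro h; rw [Equiv.Perm.eq_inv_iff_eq]; exact h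
  · intro h; rw [h, ← Equiv.Perm.mul_apply, mul_inv_cancel, Equiv.Perm.one_apply]

theorem fx_conj_card (g u : Equiv.Perm GolayPt) : (fx (u * g * u⁻¹)).card = (fx g).card := by
  rw [fx_conj, Finset.card_smul_finset]

/-- non-identity elements fix at most eight points -/
theorem fx_le {g : Equiv.Perm GolayPt} (hg : g ∈ M24) (h1 : g ≠ 1) : (fx g).card ≤ 8 := by
  by_cases h5 : 5 ≤ (fx g).card
  · obtain ⟨t, ht, htc⟩ := Finset.exists_subset_card_eq h5
    obtain ⟨u, hu, h2⟩ := to_base_list t.toList t.nodup_toList (by rw [Finset.length_toList]; omega)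
    rw [Finset.length_toList, htc] at h2
    have hgm : u * g * u⁻¹ ∈ M24 := M24.mul_mem (M24.mul_mem hu hg) (M24.inv_mem hu)
    have hB : ∀ i < 5, ∃ p ∈ t, u p = B i := by
      intro i hi
      have : B i ∈ (List.range 5).map B := List.mem_map.2 ⟨i, List.mem_range.2 hi, rfl⟩
      rw [← h2, List.mem_map] at this
      obtain ⟨p, hp, h3⟩ := this
      exact ⟨p, Finset.mem_toList.1 hp, h3⟩
    obtain ⟨P, hP, hP', x, _, y, _, h4⟩ := all5_spec idP_m fix_few hgm (by
      intro i hi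
      obtain ⟨p, hp, h3⟩ := hB i hi
      rw [idP_one, Equiv.Perm.one_apply]
      exact conj_pattern h3 h3 (mem_fx.1 (ht hp)))
    rw [← fx_conj_card g u, hP']
    rcases (brec_true _ _).1 h4 with h6 | h6
    · exfalso
      rw [powOK_iff hP, pow_one, ← hP'] at h6
      apply h1
      have : g = u⁻¹ * (u * g * u⁻¹) * u := by group
      rw [this, h6]; group
    · rw [fx, ← S_fixM hP, card_S]
      exact Nat.le_of_ble_eq_true h6
  · omega

end Cfsg.Agent.H9
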