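import Cfsg.Agent.H9.ClsCert
set_option autoImplicit false

/-! Conjugacy classes of elements of orders 2 and 3, and counts of invariant objects. -/

namespace Cfsg.Agent.H9
open Cfsg
open scoped Pointwise

theorem conj_mem {g u : Equiv.Perm GolayPt} (hg : g ∈ M24) (hu : u ∈ M24) : u * g * u⁻¹ ∈ M24 :=
  M24.mul_mem (M24.mul_mem hu hg) (M24.inv_mem hu)

theorem conj_pow' (g u : Equiv.Perm GolayPt) (k : ℕ) : (u * g * u⁻¹) ^ k = u * g ^ k * u⁻¹ := conj_pow

theorem conj_trans' {g u v G : Equiv.Perm GolayPt} (h : v * (u * g * u⁻¹) * v⁻¹ = G) : (v * u) * g * (v * u)⁻¹ = G := by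
  rw [← h]; group

theorem exists_moved {g : Equiv.Perm GolayPt} (hg : g ∈ M24) (h1 : g ≠ 1) (s : Finset GolayPt) (hs : s.card ≤ 15) :
    ∃ d, d ∉ s ∧ g d ≠ d := by
  by_contra hcon
  push Not at hcon
  have h2 : sᶜ ⊆ fx g := by
    intro d hd
    rw [Finset.mem_compl] at hd
    exact mem_fx.2 (hcon d hd)
  have h3 := Finset.card_le_card h2
  rw [Finset.card_compl, card_pt] at h3
  have := fx_le hg h1
  omega

theorem conj_2A {g : Equiv.Perm GolayPt} (hg : g ∈ M24) (h2 : g ^ 2 = 1) (h1 : g ≠ 1) (hf : ∃ p, g p = p) :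
    ∃ u ∈ M24, u * g * u⁻¹ = toPerm c2A := by
  obtain ⟨a, ha⟩ := hf
  have hgg : ∀ p, g (g p) = p := by
    intro p; rw [← Equiv.Perm.mul_apply, ← sq, h2]; rfl
  obtain ⟨b, -, hb⟩ := exists_moved hg h1 ∅ (by simp)
  obtain ⟨d, hd, hd'⟩ := exists_moved hg h1 {b, g b} (by
    calc ({b, g b} : Finset GolayPt).card ≤ 2 := Finset.card_le_two
      _ ≤ 15 := by norm_num)
  simp only [Finset.mem_insert, Finset.mem_singleton, not_or] at hd
  have hl : [a, b, g b, d, g d].Nodup := by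
    simp only [List.nodup_cons, List.mem_cons, List.not_mem_nil, or_false, not_or, not_false_eq_true, and_true,
      List.nodup_nil]
    refine ⟨⟨?_, ?_, ?_, ?_⟩, ⟨?_, ?_, ?_⟩, ⟨?_, ?_⟩, ?_⟩
    · rintro rfl; exact hb ha
    · intro h
      have h' := hgg b
      rw [← h, ha] at h'
      rw [h'] at ha; exact hb ha
    · rintro rfl; exact hd' ha
    · intro h
      have h' := hgg d
      rw [← h, ha] at h'
      rw [h'] at ha; exact hd' ha
    · exact fun h => hb h.symm
    · exact fun h => hd.1 h.symm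
    · intro h; apply hd.2; rw [h, hgg]
    · exact fun h => hd.2 h.symm
    · intro h; exact hd.1 (g.injective h).symm
    · exact fun h => hd' h.symm
  obtain ⟨u, hu, h⟩ := to_base_list _ hl (by simp)
  simp only [List.length_cons, List.length_nil, List.range, List.range.loop, List.map_cons, List.map_nil,
    List.cons.injEq, and_true] at h
  obtain ⟨e0, e1, e2, e3, e4⟩ := h
  obtain ⟨v, hv, h3⟩ := cls5 (k := 2) c2A_m c2A_Lm c2A_all (conj_mem hg hu) (by rw [conj_pow', h2]; group) (by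
    intro i hi
    interval_cases i
    · rw [c2A_b0]; exact conj_pattern e0 e0 ha
    · rw [c2A_b1]; exact conj_pattern e1 e2 rfl
    · rw [c2A_b2]; exact conj_pattern e2 e1 (hgg b)
    · rw [c2A_b3]; exact conj_pattern e3 e4 rfl
    · rw [c2A_b4]; exact conj_pattern e4 e3 (hgg d))
  exact ⟨v * u, M24.mul_mem hv hu, conj_trans' h3⟩

theorem conj_2B {g : Equiv.Perm GolayPt} (hg : g ∈ M24) (h2 : g ^ 2 = 1) (hf : ∀ p, g p ≠ p) :
    ∃ u ∈ M24, u * g * u⁻¹ = toPerm c2B := by
  have h1 : g ≠ 1 := fun h => hf none (by rw [h]; rfl)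
  have hgg : ∀ p, g (g p) = p := by
    intro p; rw [← Equiv.Perm.mul_apply, ← sq, h2]; rfl
  obtain ⟨b, -, hb⟩ := exists_moved hg h1 ∅ (by simp)
  obtain ⟨d, hd, hd'⟩ := exists_moved hg h1 {b, g b} (by
    calc ({b, g b} : Finset GolayPt).card ≤ 2 := Finset.card_le_two
      _ ≤ 15 := by norm_num)
  simp only [Finset.mem_insert, Finset.mem_singleton, not_or] at hd
  have hl : [b, g b, d, g d].Nodup := by
    simp only [List.nodup_cons, List.mem_cons, List.not_mem_nil, or_false, not_or, not_false_eq_true, and_true,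
      List.nodup_nil]
    refine ⟨⟨?_, ?_, ?_⟩, ⟨?_, ?_⟩, ?_⟩
    · exact fun h => hb h.symm
    · exact fun h => hd.1 h.symm
    · intro h; apply hd.2; rw [h, hgg]
    · exact fun h => hd.2 h.symm
    · intro h; exact hd.1 (g.injective h).symm
    · exact fun h => hd' h.symm
  obtain ⟨u, hu, h⟩ := to_base_list _ hl (by simp)
  simp only [List.length_cons, List.length_nil, List.range, List.range.loop, List.map_cons, List.map_nil,
    List.cons.injEq, and_true] at h
  obtain ⟨e1, e2, e3, e4⟩ := h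
  obtain ⟨v, hv, h3⟩ := cls4 (k := 2) c2B_m c2B_Lm c2B_all (conj_mem hg hu) (by rw [conj_pow', h2]; group) (by
    intro p hp
    have : p ∈ fx (u * g * u⁻¹) := mem_fx.2 hp
    rw [fx_conj, ← Finset.inv_smul_mem_iff, mem_fx] at this
    exact hf _ this) (by
    intro i hi
    interval_cases i
    · rw [c2B_b0]; exact conj_pattern e1 e2 rfl
    · rw [c2B_b1]; exact conj_pattern e2 e1 (hgg b)
    · rw [c2B_b2]; exact conj_pattern e3 e4 rfl
    · rw [c2B_b3]; exact conj_pattern e4 e3 (hgg d))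
  exact ⟨v * u, M24.mul_mem hv hu, conj_trans' h3⟩

theorem conj_3A {g : Equiv.Perm GolayPt} (hg : g ∈ M24) (h2 : g ^ 3 = 1) (h1 : g ≠ 1) (hf : ∃ p, g p = p) :
    ∃ u ∈ M24, u * g * u⁻¹ = toPerm c3A := by
  obtain ⟨a, ha⟩ := hf
  have hgg : ∀ p, g (g (g p)) = p := by
    intro p; rw [← Equiv.Perm.mul_apply, ← Equiv.Perm.mul_apply, ← pow_three', h2]; rfl
  obtain ⟨b, -, hb⟩ := exists_moved hg h1 ∅ (by simp)
  have hb2 : g (g b) ≠ b := by
    intro h; apply hb
    have := hgg b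
    rw [h] at this; exact this
  have hl : [a, b, g b, g (g b)].Nodup := by
    simp only [List.nodup_cons, List.mem_cons, List.not_mem_nil, or_false, not_or, not_false_eq_true, and_true,
      List.nodup_nil]
    have hab : a ≠ b := by rintro rfl; exact hb ha
    have hab1 : a ≠ g b := by
      intro h; apply hab; apply g.injective; rw [ha]; exact h
    have hab2 : a ≠ g (g b) := by
      intro h; apply hab1; apply g.injective; rw [ha]; exact h
    refine ⟨⟨hab, hab1, hab2⟩, ⟨fun h => hb h.symm, fun h => hb2 h.symm⟩, fun h => hb (g.injective h).symm⟩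
  obtain ⟨u, hu, h⟩ := to_base_list _ hl (by simp)
  simp only [List.length_cons, List.length_nil, List.range, List.range.loop, List.map_cons, List.map_nil,
    List.cons.injEq, and_true] at h
  obtain ⟨e0, e1, e2, e3⟩ := h
  obtain ⟨v, hv, h3⟩ := cls4' (k := 3) c3A_m c3A_Lm c3A_all (conj_mem hg hu) (by rw [conj_pow', h2]; group) (by
    intro i hi
    interval_cases i
    · rw [c3A_b0]; exact conj_pattern e0 e0 ha
    · rw [c3A_b1]; exact conj_pattern e1 e2 rfl
    · rw [c3A_b2]; exact conj_pattern e2 e3 rfl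
    · rw [c3A_b3]; exact conj_pattern e3 e1 (hgg b))
  exact ⟨v * u, M24.mul_mem hv hu, conj_trans' h3⟩

theorem conj_3B {g : Equiv.Perm GolayPt} (hg : g ∈ M24) (h2 : g ^ 3 = 1) (hf : ∀ p, g p ≠ p) :
    ∃ u ∈ M24, u * g * u⁻¹ = toPerm c3B := by
  have h1 : g ≠ 1 := fun h => hf none (by rw [h]; rfl)
  have hgg : ∀ p, g (g (g p)) = p := by
    intro p; rw [← Equiv.Perm.mul_apply, ← Equiv.Perm.mul_apply, ← pow_three', h2]; rfl
  obtain ⟨b, -, hb⟩ := exists_moved hg h1 ∅ (by simp)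
  have hb2 : g (g b) ≠ b := by
    intro h; apply hb
    have := hgg b
    rw [h] at this; exact this
  obtain ⟨d, hd, hd'⟩ := exists_moved hg h1 {b, g b, g (g b)} (by
    calc ({b, g b, g (g b)} : Finset GolayPt).card ≤ 3 := Finset.card_le_three
      _ ≤ 15 := by norm_num)
  simp only [Finset.mem_insert, Finset.mem_singleton, not_or] at hd
  have hl : [b, g b, g (g b), d, g d].Nodup := by
    simp only [List.nodup_cons, List.mem_cons, List.not_mem_nil, or_false, not_or, not_false_eq_true, and_true,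
      List.nodup_nil]
    refine ⟨⟨fun h => hb h.symm, fun h => hb2 h.symm, fun h => hd.1 h.symm, ?_⟩,
      ⟨fun h => hb (g.injective h).symm, fun h => hd.2.1 h.symm, fun h => hd.1 (g.injective h).symm⟩,
      ⟨fun h => hd.2.2 h.symm, fun h => hd.2.1 (g.injective h).symm⟩, fun h => hd' h.symm⟩
    intro h
    apply hd.2.2
    apply g.injective
    rw [hgg]; exact h.symm
  obtain ⟨u, hu, h⟩ := to_base_list _ hl (by simp)
  simp only [List.length_cons, List.length_nil, List.range, List.range.loop, List.map_cons, List.map_nil,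
    List.cons.injEq, and_true] at h
  obtain ⟨e1, e2, e3, e4, e5⟩ := h
  obtain ⟨v, hv, h3⟩ := cls4 (k := 3) c3B_m c3B_Lm c3B_all (conj_mem hg hu) (by rw [conj_pow', h2]; group) (by
    intro p hp
    have : p ∈ fx (u * g * u⁻¹) := mem_fx.2 hp
    rw [fx_conj, ← Finset.inv_smul_mem_iff, mem_fx] at this
    exact hf _ this) (by
    intro i hi
    interval_cases i
    · rw [c3B_b0]; exact conj_pattern e1 e2 rfl
    · rw [c3B_b1]; exact conj_pattern e2 e3 rfl
    · rw [c3B_b2]; exact conj_pattern e3 e1 (hgg b)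
    · rw [c3B_b3]; exact conj_pattern e4 e5 rfl)
  exact ⟨v * u, M24.mul_mem hv hu, conj_trans' h3⟩

theorem fx_c2A : fx (toPerm c2A) = S (fixM c2A) := (S_fixM (checkM24_perm c2A_m)).symm
theorem fx_c3A : fx (toPerm c3A) = S (fixM c3A) := (S_fixM (checkM24_perm c3A_m)).symm
theorem fx2A_cw : isCW (fixM c2A) = true := by decide +kernel
theorem fx2A_pc : pc (fixM c2A) = 8 := by decide +kernel
theorem fx3A_pc : pc (fixM c3A) = 6 := by decide +kernel
theorem ff_2B : ∀ p, toPerm c2B p ≠ p := (ffOK_iff (checkM24_perm c2B_m)).1 (by decide +kernel)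
theorem ff_3B : ∀ p, toPerm c3B p ≠ p := (ffOK_iff (checkM24_perm c3B_m)).1 (by decide +kernel)

theorem fx_c2A_oct : fx (toPerm c2A) ∈ octads := by
  rw [fx_c2A]; exact S_mem_octads fx2A_cw fx2A_pc

theorem fx_2A {g : Equiv.Perm GolayPt} (hg : g ∈ M24) (h2 : g ^ 2 = 1) (h1 : g ≠ 1) (hf : ∃ p, g p = p) :
    fx g ∈ octads := by
  obtain ⟨u, hu, h⟩ := conj_2A hg h2 h1 hf
  have e : fx g = u⁻¹ • fx (toPerm c2A) := by
    rw [← h, fx_conj, inv_smul_smul]
  rw [e]; exact smul_mem_octads (M24.inv_mem hu) fx_c2A_oct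

/-- counting nodes with a property -/
theorem ncard_nodes {X : Type*} {n : ℕ} (hn : n ≤ 4096) {F : ℕ → Bool} (Φ : ℕ → X) (Ω : Set X)
    (hΦ : ∀ x, x ∈ Ω ↔ ∃ i < n, F i = true ∧ Φ i = x)
    (hinj : ∀ i < n, ∀ j < n, F i = true → F j = true → Φ i = Φ j → i = j) (Q : X → Prop) (f : ℕ → Bool)
    (hf : ∀ i < n, F i = true → (f i = true ↔ Q (Φ i))) :
    {x | x ∈ Ω ∧ Q x}.ncard = cnt (fun i => band (Nat.blt i n) (band (F i) (f i))) := by
  classical
  have : {x | x ∈ Ω ∧ Q x} = ((((Finset.range 4096).filter fun i => band (Nat.blt i n) (band (F i) (f i)) = true).image Φ :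
      Finset X) : Set X) := by
    ext x
    rw [Finset.coe_image]
    constructor
    · rintro ⟨h1, h2⟩
      obtain ⟨i, hi, h3, rfl⟩ := (hΦ x).1 h1
      refine ⟨i, ?_, rfl⟩
      rw [Finset.mem_coe, Finset.mem_filter, band_iff, band_iff]
      exact ⟨Finset.mem_range.2 (by omega), by simpa [Nat.blt] using hi, h3, (hf i hi h3).2 h2⟩
    · rintro ⟨i, hi, rfl⟩
      rw [Finset.mem_coe, Finset.mem_filter, band_iff, band_iff] at hi
      have hin : i < n := by simpa [Nat.blt] using hi.2.1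
      exact ⟨(hΦ _).2 ⟨i, hin, hi.2.2.1, rfl⟩, (hf i hin hi.2.2.1).1 hi.2.2.2⟩
  rw [this, Set.ncard_coe_finset, cnt_eq, Finset.card_image_of_injOn]
  intro a ha b hb hab
  rw [Finset.mem_coe, Finset.mem_filter, band_iff, band_iff] at ha hb
  have han : a < n := by simpa [Nat.blt] using ha.2.1
  have hbn : b < n := by simpa [Nat.blt] using hb.2.1
  exact hinj a han b hbn ha.2.2.1 hb.2.2.1 hab

/-- invariance of counts under conjugation -/
theorem ncard_inv_conj {X : Type*} [MulAction (Equiv.Perm GolayPt) X] {Ω : Set X}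
    (hinv : ∀ g ∈ M24, ∀ x ∈ Ω, g • x ∈ Ω) {g u G : Equiv.Perm GolayPt} (hu : u ∈ M24) (h : u * g * u⁻¹ = G) :
    {x | x ∈ Ω ∧ g • x = x}.ncard = {x | x ∈ Ω ∧ G • x = x}.ncard := by
  have key : {x | x ∈ Ω ∧ G • x = x} = u • {x | x ∈ Ω ∧ g • x = x} := by
    ext x
    rw [Set.mem_smul_set_iff_inv_smul_mem]
    show (x ∈ Ω ∧ G • x = x) ↔ (u⁻¹ • x ∈ Ω ∧ g • u⁻¹ • x = u⁻¹ • x)
    refine and_congr ⟨fun hx => hinv _ (M24.inv_mem hu) _ hx, fun hx => ?_⟩ ?_
    · have := hinv _ hu _ hx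
      rwa [smul_inv_smul] at this
    · rw [← h, mul_smul, mul_smul]
      constructor
      · intro h1; rw [eq_inv_smul_iff]; exact h1
      · intro h1; rw [h1, smul_inv_smul]
  rw [key, Set.ncard_smul_set]

theorem inv_oct {P A : ℕ} (hg : genOK P A 0 = true) :
    {o | o ∈ octads ∧ toPerm (pk P 0) • o = o}.ncard =
      cnt (fun i => band (Nat.blt i 4096) (band (octF i) (Nat.beq (act A 0 i) i))) := by
  apply ncard_nodes (le_refl _) (fun k => S (enc k)) octads mem_octads_node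
    (fun i hi j hj _ _ hij => S_enc_inj hi hj hij)
  intro i hi _
  rw [gen_smul hg hi, beq_iff]
  exact ⟨fun h => by rw [h], fun h => S_enc_inj (act_lt _ _ _) hi h⟩

theorem mem_dodecads_node (x : Finset GolayPt) : x ∈ dodecads ↔ ∃ k < 4096, (Nat.beq (pc (enc k)) 12) = true ∧ S (enc k) = x := by
  constructor
  · intro h
    obtain ⟨m, hm, h8, rfl⟩ := dodecad_mask h
    obtain ⟨k, hk, rfl⟩ := isCW_iff.1 hm
    exact ⟨k, hk, beq_iff.2 h8, rfl⟩
  · rintro ⟨k, hk, h, rfl⟩
    exact S_mem_dodecads (isCW_iff.2 ⟨k, hk, rfl⟩) (beq_iff.1 h)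

theorem inv_dod {P A : ℕ} (hg : genOK P A 0 = true) :
    {o | o ∈ dodecads ∧ toPerm (pk P 0) • o = o}.ncard =
      cnt (fun i => band (Nat.blt i 4096) (band (Nat.beq (pc (enc i)) 12) (Nat.beq (act A 0 i) i))) := by
  apply ncard_nodes (le_refl _) (fun k => S (enc k)) dodecads mem_dodecads_node
    (fun i hi j hj _ _ hij => S_enc_inj hi hj hij)
  intro i hi _
  rw [gen_smul hg hi, beq_iff]
  exact ⟨fun h => by rw [h], fun h => S_enc_inj (act_lt _ _ _) hi h⟩

theorem inv_sxt {P A : ℕ} (hg : genSOK P A 0 = true) :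
    {o | o ∈ sextets ∧ toPerm (pk P 0) • o = o}.ncard =
      cnt (fun i => band (Nat.blt i 4096) (band (sF i) (Nat.beq (act A 0 i) i))) := by
  apply ncard_nodes (le_refl _) Sx sextets mem_sextets_node (fun i hi j hj hf _ hij => Sx_inj hi hf hij)
  intro i hi hF
  rw [genS_smul hg hi hF, beq_iff]
  exact ⟨fun h => by rw [h], fun h => (Sx_inj hi hF h.symm).symm⟩

theorem inv_tri {P A : ℕ} (hg : genOK P A 0 = true) :
    {o | o ∈ trios ∧ toPerm (pk P 0) • o = o}.ncard =
      cnt (fun i => band (Nat.blt i 3795) (band true (relT A 0 i i))) := by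
  apply ncard_nodes (F := fun _ => true) (by norm_num) Tr trios ?_ (fun i hi j hj _ _ hij => Tr_inj hi hj hij)
  · intro i hi _
    constructor
    · intro h; exact relT_spec hg hi hi h
    · intro h
      rw [relT, band_iff, band_iff, memT_iff (act_lt _ _ _), memT_iff (act_lt _ _ _), memT_iff (act_lt _ _ _),
        ← gen_smul hg (tk1_lt i), ← gen_smul hg (tk2_lt i), ← gen_smul hg (tk3_lt i)]
      have key : ∀ x ∈ Tr i, toPerm (pk P 0) • x ∈ Tr i := by
        intro x hx
        have h1 : toPerm (pk P 0) • x ∈ toPerm (pk P 0) • Tr i := Finset.smul_mem_smul_finset hx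
        rwa [h] at h1
      exact ⟨key _ (mem_Tr.2 (Or.inl rfl)), key _ (mem_Tr.2 (Or.inr (Or.inl rfl))), key _ (mem_Tr.2 (Or.inr (Or.inr rfl)))⟩
  · intro T
    rw [mem_trios_node]
    exact ⟨fun ⟨i, hi, h⟩ => ⟨i, hi, rfl, h⟩, fun ⟨i, hi, _, h⟩ => ⟨i, hi, h⟩⟩

theorem pk0_2A : pk c2A 0 = c2A := by decide +kernel
theorem pk0_2B : pk c2B 0 = c2B := by decide +kernel
theorem pk0_3A : pk c3A 0 = c3A := by decide +kernel
theorem pk0_3B : pk c3B 0 = c3B := by decide +kernel

end Cfsg.Agent.H9
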