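import Cfsg.Agent.H9.Slp
set_option autoImplicit false

/-! Subsets with prescribed intersection; maximality of pair stabilizers in 4-transitive groups. -/

namespace Cfsg.Agent.H9
open scoped Pointwise

theorem card_inter_filter {α : Type*} [DecidableEq α] (O s : Finset α) (hs : s ⊆ O) (k i : ℕ) (hik : i ≤ k) :
    ((O.powersetCard k).filter fun x => (s ∩ x).card = i).card = s.card.choose i * (O \ s).card.choose (k - i) := by
  rw [← Finset.card_powersetCard, ← Finset.card_powersetCard, ← Finset.card_product]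
  apply Finset.card_bij' (fun x _ => (s ∩ x, x \ s)) (fun y _ => y.1 ∪ y.2)
  · intro x hx
    rw [Finset.mem_filter, Finset.mem_powersetCard] at hx
    obtain ⟨⟨h1, h2⟩, h3⟩ := hx
    rw [Finset.mem_product, Finset.mem_powersetCard, Finset.mem_powersetCard]
    refine ⟨⟨Finset.inter_subset_left, h3⟩, Finset.sdiff_subset_sdiff h1 (le_refl _), ?_⟩
    have := Finset.card_sdiff_add_card_inter x s
    rw [Finset.inter_comm] at this
    show (x \ s).card = k - i
    omega
  · intro y hy
    rw [Finset.mem_product, Finset.mem_powersetCard, Finset.mem_powersetCard] at hy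
    obtain ⟨⟨h1, h2⟩, h3, h4⟩ := hy
    have hd : Disjoint y.1 y.2 := by
      rw [Finset.disjoint_left]
      intro a ha ha'
      exact (Finset.mem_sdiff.1 (h3 ha')).2 (h1 ha)
    rw [Finset.mem_filter, Finset.mem_powersetCard]
    refine ⟨⟨Finset.union_subset (h1.trans hs) (h3.trans Finset.sdiff_subset), ?_⟩, ?_⟩
    · rw [Finset.card_union_of_disjoint hd]; omega
    · have : s ∩ (y.1 ∪ y.2) = y.1 := by
        ext a
        simp only [Finset.mem_inter, Finset.mem_union]
        constructor
        · rintro ⟨h5, h6 | h6⟩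
          · exact h6
          · exact absurd h5 (Finset.mem_sdiff.1 (h3 h6)).2
        · intro h5; exact ⟨h1 h5, Or.inl h5⟩
      rw [this]; exact h2
  · intro x hx
    ext a
    simp only [Finset.mem_union, Finset.mem_inter, Finset.mem_sdiff]
    tauto
  · intro y hy
    rw [Finset.mem_product, Finset.mem_powersetCard, Finset.mem_powersetCard] at hy
    obtain ⟨⟨h1, h2⟩, h3, h4⟩ := hy
    ext a
    · simp only [Finset.mem_inter, Finset.mem_union]
      constructor
      · rintro ⟨h5, h6 | h6⟩
        · exact h6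
        · exact absurd h5 (Finset.mem_sdiff.1 (h3 h6)).2
      · intro h5; exact ⟨h1 h5, Or.inl h5⟩
    · simp only [Finset.mem_sdiff, Finset.mem_union]
      constructor
      · rintro ⟨h5 | h5, h6⟩
        · exact absurd (h1 h5) h6
        · exact h5
      · intro h5; exact ⟨Or.inr h5, (Finset.mem_sdiff.1 (h3 h5)).2⟩

/-- `G` is `k`-transitive on `O` (list form) -/
def TransOn {α : Type*} (G : Subgroup (Equiv.Perm α)) (O : Finset α) (k : ℕ) : Prop :=
  ∀ l l' : List α, l.Nodup → l'.Nodup → l.length = l'.length → l.length ≤ k → (∀ x ∈ l, x ∈ O) →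
    (∀ x ∈ l', x ∈ O) → ∃ g ∈ G, l.map g = l'

theorem TransOn.mono {α : Type*} {G : Subgroup (Equiv.Perm α)} {O : Finset α} {k m : ℕ} (h : TransOn G O k) (hm : m ≤ k) :
    TransOn G O m := fun l l' h1 h2 h3 h4 => h l l' h1 h2 h3 (h4.trans hm)

/-- maximality of the stabilizer of a pair in a 4-transitive group -/
theorem pair_coatom {α : Type*} [DecidableEq α] [Finite α] (G : Subgroup (Equiv.Perm α)) (O : Finset α)
    (hG : ∀ g ∈ G, ∀ x ∈ O, g x ∈ O) (h4 : TransOn G O 4) (n : ℕ) (hn : O.card = n) (hn3 : 3 ≤ n)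
    (ha : ¬ (1 + 2 * (n - 2)) ∣ n.choose 2 ∨ 1 + 2 * (n - 2) = n.choose 2)
    (hb : ¬ (1 + (n - 2).choose 2) ∣ n.choose 2)
    (s : Finset α) (hs : s ∈ O.powersetCard 2) : IsCoatom (MulAction.stabilizer G s) := by
  rw [Finset.mem_powersetCard] at hs
  have hsO := hs.1
  have hsdiff : (O \ s).card = n - 2 := by
    have := Finset.card_sdiff_add_card_eq_card hs.1
    omega
  have hc : ∀ i, i ≤ 1 → ((O.powersetCard 2).filter fun x => x ≠ s ∧ (s ∩ x).card = i).card =
      (2).choose i * (n - 2).choose (2 - i) := by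
    intro i hi
    have e := card_inter_filter O s hs.1 2 i (by omega)
    rw [hs.2] at e
    rw [← hsdiff, ← e]
    congr 1
    ext x
    rw [Finset.mem_filter, Finset.mem_filter]
    refine and_congr_right fun _ => ⟨fun h => h.2, fun h => ⟨?_, h⟩⟩
    rintro rfl
    rw [Finset.inter_self] at h; omega
  have h1 : ((O.powersetCard 2).filter fun x => x ≠ s ∧ (s ∩ x).card = 1).card = 2 * (n - 2) := by
    rw [hc 1 le_rfl]; simp
  have h0 : ((O.powersetCard 2).filter fun x => x ≠ s ∧ (s ∩ x).card = 0).card = (n - 2).choose 2 := by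
    rw [hc 0 (by norm_num)]; simp
  have hcard : (O.powersetCard 2).card = n.choose 2 := by rw [Finset.card_powersetCard, hn]
  refine coatom_of_suborbits (G := G) s (O.powersetCard 2) ?_ (fun x => (s ∩ x).card) {0, 1} ?_ ?_ ?_ ?_
  · intro x
    constructor
    · intro hx
      rw [Finset.mem_powersetCard] at hx
      obtain ⟨a, b, hab, rfl⟩ := Finset.card_eq_two.1 hs.2
      obtain ⟨c, d, hcd, rfl⟩ := Finset.card_eq_two.1 hx.2
      obtain ⟨g, hg, h⟩ := h4 [a, b] [c, d] (by simpa using hab) (by simpa using hcd) rfl (by simp)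
        (by intro x hx; apply hs.1; simpa using hx)
        (by intro y hy; apply hx.1; simpa using hy)
      simp only [List.map_cons, List.map_nil, List.cons.injEq, and_true] at h
      refine ⟨⟨g, hg⟩, ?_⟩
      show g • ({a, b} : Finset α) = {c, d}
      rw [Finset.smul_finset_insert, Finset.smul_finset_singleton, Equiv.Perm.smul_def, Equiv.Perm.smul_def, h.1, h.2]
    · rintro ⟨g, rfl⟩
      rw [Finset.mem_powersetCard]
      show (g : Equiv.Perm α) • s ⊆ O ∧ ((g : Equiv.Perm α) • s).card = 2
      rw [Finset.card_smul_finset]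
      refine ⟨?_, hs.2⟩
      intro x hx
      obtain ⟨y, hy, rfl⟩ := Finset.mem_smul_finset.1 hx
      exact hG g g.2 y (hs.1 hy)
  · intro x hx hne
    rw [Finset.mem_powersetCard] at hx
    have h2 : (s ∩ x).card ≤ 2 := by rw [← hs.2]; exact Finset.card_le_card Finset.inter_subset_left
    have h3 : (s ∩ x).card ≠ 2 := by
      intro h
      apply hne
      have e1 : s ∩ x = s := Finset.eq_of_subset_of_card_le Finset.inter_subset_left (by rw [h, hs.2])
      have e2 : s ∩ x = x := Finset.eq_of_subset_of_card_le Finset.inter_subset_right (by rw [h, hx.2])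
      rw [← e2, e1]
    simp only [Finset.mem_insert, Finset.mem_singleton]
    omega
  · intro x hx y hy hxs hys h
    rw [Finset.mem_powersetCard] at hx hy
    have split : ∀ x ∈ O.powersetCard 2, (s ∩ x).card = 1 → ∃ u v w, s = {u, v} ∧ x = {u, w} ∧ u ≠ v ∧ u ≠ w ∧ v ≠ w ∧
        w ∈ O := by
      intro x hx h1
      rw [Finset.mem_powersetCard] at hx
      obtain ⟨u, hu⟩ := Finset.card_eq_one.1 h1
      have hus : u ∈ s := (Finset.mem_inter.1 (by rw [hu]; exact Finset.mem_singleton_self u)).1
      have hux : u ∈ x := (Finset.mem_inter.1 (by rw [hu]; exact Finset.mem_singleton_self u)).2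
      obtain ⟨v, hv⟩ : ∃ v, s.erase u = {v} := Finset.card_eq_one.1 (by rw [Finset.card_erase_of_mem hus, hs.2])
      obtain ⟨w, hw⟩ : ∃ w, x.erase u = {w} := Finset.card_eq_one.1 (by rw [Finset.card_erase_of_mem hux, hx.2])
      have hv' : v ∈ s.erase u := by rw [hv]; exact Finset.mem_singleton_self v
      have hw' : w ∈ x.erase u := by rw [hw]; exact Finset.mem_singleton_self w
      rw [Finset.mem_erase] at hv' hw'
      refine ⟨u, v, w, ?_, ?_, fun h => hv'.1 h.symm, fun h => hw'.1 h.symm, ?_, hx.1 hw'.2⟩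
      · rw [← Finset.insert_erase hus, hv]
      · rw [← Finset.insert_erase hux, hw]
      · rintro rfl
        have : v ∈ s ∩ x := Finset.mem_inter.2 ⟨hv'.2, hw'.2⟩
        rw [hu, Finset.mem_singleton] at this
        exact hv'.1 this
    have h2 : (s ∩ x).card ≤ 2 := by rw [← hs.2]; exact Finset.card_le_card Finset.inter_subset_left
    have h3 : (s ∩ x).card ≠ 2 := by
      intro h
      apply hxs
      have e1 : s ∩ x = s := Finset.eq_of_subset_of_card_le Finset.inter_subset_left (by rw [h, hs.2])
      have e2 : s ∩ x = x := Finset.eq_of_subset_of_card_le Finset.inter_subset_right (by rw [h, hx.2])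
      rw [← e2, e1]
    have h01 : (s ∩ x).card = 1 ∨ (s ∩ x).card = 0 := by omega
    rcases h01 with hh | hh
    · obtain ⟨u, v, w, e1, e2, n1, n2, n3, hwO⟩ := split x (Finset.mem_powersetCard.2 hx) hh
      obtain ⟨u', v', w', e1', e2', n1', n2', n3', hwO'⟩ := split y (Finset.mem_powersetCard.2 hy) (by
        have : (s ∩ x).card = (s ∩ y).card := h
        omega)
      have huO : u ∈ O := hsO (by rw [e1]; simp)
      have hvO : v ∈ O := hsO (by rw [e1]; simp)
      have huO' : u' ∈ O := hsO (by rw [e1']; simp)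
      have hvO' : v' ∈ O := hsO (by rw [e1']; simp)
      obtain ⟨g, hg, h⟩ := h4 [u, v, w] [u', v', w'] (by simp [n1, n2, n3]) (by simp [n1', n2', n3']) rfl (by simp)
        (by simp [huO, hvO, hwO]) (by simp [huO', hvO', hwO'])
      simp only [List.map_cons, List.map_nil, List.cons.injEq, and_true] at h
      refine ⟨⟨g, hg⟩, ?_, ?_⟩
      · show g • s = s
        conv_lhs => rw [e1]
        conv_rhs => rw [e1']
        rw [Finset.smul_finset_insert, Finset.smul_finset_singleton, Equiv.Perm.smul_def, Equiv.Perm.smul_def, h.1, h.2.1]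
      · show g • x = y
        rw [e2, e2', Finset.smul_finset_insert, Finset.smul_finset_singleton, Equiv.Perm.smul_def, Equiv.Perm.smul_def,
          h.1, h.2.2]
    · have hh' : (s ∩ y).card = 0 := by
        have : (s ∩ x).card = (s ∩ y).card := h
        omega
      rw [Finset.card_eq_zero, ← Finset.disjoint_iff_inter_eq_empty] at hh hh'
      obtain ⟨a, b, hab, e⟩ := Finset.card_eq_two.1 hs.2
      obtain ⟨c, d, hcd, rfl⟩ := Finset.card_eq_two.1 hx.2
      obtain ⟨c', d', hcd', rfl⟩ := Finset.card_eq_two.1 hy.2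
      rw [e] at hh hh'
      simp only [Finset.disjoint_insert_left, Finset.disjoint_singleton_left, Finset.mem_insert, Finset.mem_singleton,
        not_or] at hh hh'
      have haO : a ∈ O := hsO (by rw [e]; simp)
      have hbO : b ∈ O := hsO (by rw [e]; simp)
      have hcO : c ∈ O := hx.1 (by simp)
      have hdO : d ∈ O := hx.1 (by simp)
      have hcO' : c' ∈ O := hy.1 (by simp)
      have hdO' : d' ∈ O := hy.1 (by simp)
      obtain ⟨g, hg, h⟩ := h4 [a, b, c, d] [a, b, c', d'] (by simp [hab, hcd, hh.1.1, hh.1.2, hh.2.1, hh.2.2])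
        (by simp [hab, hcd', hh'.1.1, hh'.1.2, hh'.2.1, hh'.2.2]) rfl (by simp) (by simp [haO, hbO, hcO, hdO])
        (by simp [haO, hbO, hcO', hdO'])
      simp only [List.map_cons, List.map_nil, List.cons.injEq, and_true] at h
      refine ⟨⟨g, hg⟩, ?_, ?_⟩
      · show g • s = s
        rw [e, Finset.smul_finset_insert, Finset.smul_finset_singleton, Equiv.Perm.smul_def, Equiv.Perm.smul_def,
          h.1, h.2.1]
      · show g • ({c, d} : Finset α) = {c', d'}
        rw [Finset.smul_finset_insert, Finset.smul_finset_singleton, Equiv.Perm.smul_def, Equiv.Perm.smul_def,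
          h.2.2.1, h.2.2.2]
  · intro C hC hd
    rw [hcard] at hd ⊢
    have hC' : C = ∅ ∨ C = {0} ∨ C = {1} ∨ C = {0, 1} := by
      have : C ∈ ({0, 1} : Finset ℕ).powerset := Finset.mem_powerset.2 hC
      revert this; generalize C = C'; revert C'; decide
    rcases hC' with rfl | rfl | rfl | rfl
    · exact Or.inl rfl
    · exfalso
      rw [Finset.sum_singleton, h0] at hd
      exact hb hd
    · right
      rw [Finset.sum_singleton, h1] at hd ⊢
      rcases ha with ha | ha
      · exact absurd hd ha
      · exact ha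
    · right
      rw [Finset.sum_pair (by norm_num), h0, h1]
      obtain ⟨m, rfl⟩ : ∃ m, n = m + 2 := ⟨n - 2, by omega⟩
      have e1 : (m + 2).choose 2 = (m + 1).choose 1 + (m + 1).choose 2 := Nat.choose_succ_succ' (m+1) 1
      have e2 : (m + 1).choose 2 = m.choose 1 + m.choose 2 := Nat.choose_succ_succ' m 1
      rw [Nat.choose_one_right] at e1 e2
      rw [Nat.add_sub_cancel]
      omega
  · rw [hcard]
    have : 3 ≤ n.choose 2 := by
      calc 3 = (3).choose 2 := by decide
        _ ≤ n.choose 2 := Nat.choose_le_choose 2 hn3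
    omega

end Cfsg.Agent.H9
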