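import Cfsg.Agent.H9.M24Simple
import Cfsg.Agent.H9.Combi
set_option autoImplicit false

/-! Dodecad stabilizers. -/

namespace Cfsg.Agent.H9
open Cfsg
open scoped Pointwise

/-- stabilizer in a subgroup versus intersection -/
noncomputable def stabEquiv {G X : Type*} [Group G] [MulAction G X] (K : Subgroup G) (a : X) :
    MulAction.stabilizer K a ≃* ↥(K ⊓ MulAction.stabilizer G a) :=
  ((MulAction.stabilizer K a).equivMapOfInjective K.subtype K.subtype_injective).trans
    (MulEquiv.subgroupCongr (by
      have h2 : MulAction.stabilizer K a = (MulAction.stabilizer G a).subgroupOf K := by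
        ext x; rfl
      rw [h2, Subgroup.subgroupOf_map_subtype, inf_comm]))

theorem transOn_of_base {α : Type*} [Inhabited α] {G : Subgroup (Equiv.Perm α)} {O : Finset α} {k : ℕ} (D : ℕ → α)
    (h : ∀ n ≤ k, ∀ x : ℕ → α, (∀ i < n, x i ∈ O) → (∀ i < n, ∀ j < i, x i ≠ x j) →
      ∃ g ∈ G, ∀ i < n, g (x i) = D i) : TransOn G O k := by
  have key : ∀ l : List α, l.Nodup → l.length ≤ k → (∀ x ∈ l, x ∈ O) →
      ∃ g ∈ G, ∀ (i : ℕ) (hi : i < l.length), g (l[i]) = D i := by
    intro l hl hk hO
    obtain ⟨g, hg, h1⟩ := h l.length hk (fun i => l.getD i default) (by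
      intro i hi
      rw [List.getD_eq_getElem _ _ hi]
      exact hO _ (List.getElem_mem hi)) (by
      intro i hi j hj h
      rw [List.getD_eq_getElem _ _ hi, List.getD_eq_getElem _ _ (by omega : j < l.length)] at h
      have := (List.Nodup.getElem_inj_iff hl).1 h
      omega)
    refine ⟨g, hg, fun i hi => ?_⟩
    have := h1 i hi
    rwa [List.getD_eq_getElem _ _ hi] at this
  intro l l' hl hl' hlen hk hO hO'
  obtain ⟨g, hg, h1⟩ := key l hl hk hO
  obtain ⟨u, hu, h2⟩ := key l' hl' (hlen ▸ hk) hO'
  refine ⟨u⁻¹ * g, G.mul_mem (G.inv_mem hu) hg, ?_⟩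
  apply List.ext_getElem
  · rw [List.length_map, hlen]
  · intro i hi hi'
    rw [List.getElem_map, Equiv.Perm.mul_apply, Equiv.Perm.inv_eq_iff_eq, h1 i (by rwa [hlen]), h2 i hi']

theorem m24_transOn : TransOn M24 Finset.univ 5 :=
  transOn_of_base B fun n hn x _ hx => exists_to_base n hn x hx

/-- chain version -/
theorem transOn_of_chain {K : Subgroup (Equiv.Perm GolayPt)} {Bs m : ℕ} {O : Finset GolayPt}
    (hK : ∀ g ∈ K, ∀ x ∈ O, g x ∈ O)
    (hstep : ∀ i < m, ∀ q ∈ O, (∀ j < i, q ≠ pt (lookW 5 31 Bs j)) →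
      ∃ g ∈ chn K Bs i, g (pt (lookW 5 31 Bs i)) = q) : TransOn K O m := by
  apply transOn_of_base (fun i => pt (lookW 5 31 Bs i))
  intro n
  induction n with
  | zero => intro _ x _ _; exact ⟨1, K.one_mem, by simp⟩
  | succ n ih =>
    intro hn x hO hx
    obtain ⟨g, hg, h1⟩ := ih (by omega) x (fun i hi => hO i (by omega)) (fun i hi => hx i (by omega))
    obtain ⟨u, hu, h3⟩ := hstep n (by omega) (g (x n)) (hK g hg _ (hO n (by omega))) (by
      intro j hj h
      rw [← h1 j hj] at h
      exact hx n (by omega) j hj (g.injective h))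
    rw [mem_chn] at hu
    refine ⟨u⁻¹ * g, K.mul_mem (K.inv_mem hu.1) hg, fun i hi => ?_⟩
    rw [Equiv.Perm.mul_apply, Equiv.Perm.inv_eq_iff_eq]
    rcases Nat.lt_succ_iff_lt_or_eq.1 hi with h | rfl
    · rw [h1 i h, hu.2 i h]
    · exact h3.symm

/-- the stabilizer of the standard dodecad -/
def K12 : Subgroup (Equiv.Perm GolayPt) := M24 ⊓ MulAction.stabilizer (Equiv.Perm GolayPt) (S dod0)

theorem card_dod_stab {d : Finset GolayPt} (hd : d ∈ dodecads) : Nat.card (MulAction.stabilizer M24 d) = 95040 := by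
  have h2 := Subgroup.card_mul_index (MulAction.stabilizer M24 d)
  rw [MulAction.index_stabilizer] at h2
  have h3 : MulAction.orbit M24 d = dodecads := by
    ext s
    constructor
    · rintro ⟨g, rfl⟩; exact smul_mem_dodecads g.2 hd
    · intro hs
      obtain ⟨g, hg, h⟩ := dodecad_trans hd hs
      exact ⟨⟨g, hg⟩, h⟩
  rw [h3, dodecads_ncard, card_M24] at h2
  omega

theorem card_K12 : Nat.card K12 = 95040 := by
  rw [← card_dod_stab dod0_mem]
  exact (Nat.card_congr (stabEquiv M24 (S dod0)).toEquiv).symm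

theorem mem_of_mask_check {P m : ℕ} (h : band (checkM24 P) (Nat.beq (imgM P m) m) = true) :
    toPerm P ∈ M24 ⊓ MulAction.stabilizer (Equiv.Perm GolayPt) (S m) := by
  obtain ⟨h1, h2⟩ := band_iff.1 h
  refine ⟨checkM24_mem h1, ?_⟩
  show toPerm P • S m = S m
  rw [smul_S (checkM24_perm h1), Nat.eq_of_beq_eq_true h2]

theorem g12_mem : allN (fun i => band (checkM24 (pk g12T i)) (Nat.beq (imgM (pk g12T i) dod0) dod0)) 2 = true := by
  decide +kernel

/-- base points of the dodecad -/
def D (i : ℕ) : GolayPt := pt (lookW 5 31 g12B i)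

theorem K12_step {i : ℕ} (hi : i < 5) {q : GolayPt} (hq : q ∈ S (look24 g12O i)) :
    ∃ g ∈ chn K12 g12B i, g (D i) = q := by
  refine trv_step g12_trv (fun j hj => ?_) (slp_spec (K := K12) g12_slp (fun i hi => ⟨(allN_iff _ _).1 g12_isPerm i hi,
    mem_of_mask_check ((allN_iff _ _).1 g12_mem i hi)⟩)) hi hq
  simpa [Nat.blt] using (allN_iff _ _).1 g12_base j hj

/-- mask of the first `n` base points of packed base `Bs` -/
noncomputable def bMask (Bs n : ℕ) : ℕ := orB (fun i => Nat.shiftLeft 1 (lookW 5 31 Bs i)) n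

theorem mem_bMask {Bs n : ℕ} (hn : ∀ i < n, lookW 5 31 Bs i < 24) {p : GolayPt} :
    p ∈ S (bMask Bs n) ↔ ∃ i < n, p = pt (lookW 5 31 Bs i) := by
  rw [mem_S, bMask, testBit_orB]
  refine exists_congr fun i => and_congr_right fun hi => ?_
  rw [testBit_one_shl]
  constructor
  · intro h; rw [h, pt_idx]
  · rintro rfl; rw [idx_pt (hn i hi)]

theorem g12_orb : allN (fun i => Nat.beq (look24 g12O i) (Nat.land dod0 (Nat.xor (bMask g12B i) 16777215))) 5 = true := by
  decide +kernel

theorem g12_base' {i : ℕ} (hi : i < 5) : lookW 5 31 g12B i < 24 := by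
  simpa [Nat.blt] using (allN_iff _ _).1 g12_base i hi

theorem mem_g12_orb {i : ℕ} (hi : i < 5) {q : GolayPt} :
    q ∈ S (look24 g12O i) ↔ q ∈ S dod0 ∧ ∀ j < i, q ≠ D j := by
  rw [Nat.eq_of_beq_eq_true ((allN_iff _ _).1 g12_orb i hi)]
  have e : S (Nat.land dod0 (Nat.xor (bMask g12B i) 16777215)) = S dod0 ∩ (S (bMask g12B i))ᶜ := by
    rw [← S_compl, ← S_and]; rfl
  rw [e, Finset.mem_inter, Finset.mem_compl, mem_bMask (fun j hj => g12_base' (by omega))]
  refine and_congr_right fun _ => ?_
  push Not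
  exact Iff.rfl

theorem smul_mem_iff {g : Equiv.Perm GolayPt} {s : Finset GolayPt} (h : g ∈ MulAction.stabilizer (Equiv.Perm GolayPt) s)
    {p : GolayPt} : g p ∈ s ↔ p ∈ s := smul_mem_of_fix (MulAction.mem_stabilizer_iff.1 h)

theorem K12_inv {g : Equiv.Perm GolayPt} (hg : g ∈ K12) {p : GolayPt} : g p ∈ S dod0 ↔ p ∈ S dod0 :=
  smul_mem_iff hg.2

theorem K12_transOn : TransOn K12 (S dod0) 5 :=
  transOn_of_chain (Bs := g12B) (fun _ hg _ hx => (K12_inv hg).2 hx) fun _ hi _ hq hne =>
    K12_step hi ((mem_g12_orb hi).2 ⟨hq, hne⟩)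

theorem D_mem {i : ℕ} (hi : i < 5) : D i ∈ S dod0 := by
  have h : allN (fun i => Nat.beq (bt dod0 (lookW 5 31 g12B i)) 1) 5 = true := by decide +kernel
  have h1 := Nat.eq_of_beq_eq_true ((allN_iff _ _).1 h i hi)
  rw [D, mem_S_pt (g12_base' hi)]
  rw [bt_eq] at h1
  cases h2 : dod0.testBit (lookW 5 31 g12B i)
  · rw [h2] at h1; simp at h1
  · rfl

theorem D_ne {i j : ℕ} (hi : i < 5) (hj : j < i) : D i ≠ D j := by
  intro h
  have h0 : allN (fun i => allN (fun j => Nat.beq (lookW 5 31 g12B j) (lookW 5 31 g12B i) == false) i) 5 = true := by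
    decide +kernel
  have h1 := (allN_iff _ _).1 ((allN_iff _ _).1 h0 i hi) j hj
  have h2 := pt_inj (g12_base' hi) (g12_base' (by omega)) h
  rw [h2] at h1
  simp at h1

theorem card_chn_step {i : ℕ} (hi : i < 5) :
    Nat.card (chn K12 g12B i) = (12 - i) * Nat.card (chn K12 g12B (i+1)) := by
  have hc : (S (look24 g12O i)).card = 12 - i := by
    rw [card_S]
    interval_cases i <;> decide +kernel
  rw [← hc]
  apply card_step (chn K12 g12B i) (D i) (S (look24 g12O i)) (fun q hq => K12_step hi hq)
  intro g hg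
  rw [mem_chn] at hg
  rw [mem_g12_orb hi]
  refine ⟨(K12_inv hg.1).2 (D_mem hi), fun j hj h => ?_⟩
  have hj' : g (D j) = D j := hg.2 j hj
  rw [Equiv.Perm.smul_def, ← hj'] at h
  exact D_ne hi hj (g.injective h)

theorem card_chn0 : Nat.card (chn K12 g12B 0) = 95040 := card_K12
theorem card_chn1 : Nat.card (chn K12 g12B 1) = 7920 := by
  have := card_chn_step (i := 0) (by norm_num)
  rw [card_chn0] at this; norm_num at this; omega
theorem card_chn2 : Nat.card (chn K12 g12B 2) = 720 := by
  have := card_chn_step (i := 1) (by norm_num)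
  rw [card_chn1] at this; norm_num at this; omega
theorem card_chn3 : Nat.card (chn K12 g12B 3) = 72 := by
  have := card_chn_step (i := 2) (by norm_num)
  rw [card_chn2] at this; norm_num at this; omega
theorem card_chn4 : Nat.card (chn K12 g12B 4) = 8 := by
  have := card_chn_step (i := 3) (by norm_num)
  rw [card_chn3] at this; norm_num at this; omega
theorem card_chn5 : Nat.card (chn K12 g12B 5) = 1 := by
  have := card_chn_step (i := 4) (by norm_num)
  rw [card_chn4] at this; norm_num at this; rw [this]; exact Subgroup.card_bot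

/-- an element of the dodecad group fixing five points of the dodecad is trivial -/
theorem K12_eq_one {g : Equiv.Perm GolayPt} (hg : g ∈ K12) (l : List GolayPt) (hl : l.Nodup) (h5 : l.length = 5)
    (hO : ∀ x ∈ l, x ∈ S dod0) (hfix : ∀ x ∈ l, g x = x) : g = 1 := by
  obtain ⟨u, hu, h⟩ := K12_transOn l [D 0, D 1, D 2, D 3, D 4] hl (by
      simp only [List.nodup_cons, List.mem_cons, List.not_mem_nil, or_false, not_or, List.nodup_nil, not_false_iff,
        and_true]
      refine ⟨⟨fun h => D_ne (i := 1) (j := 0) (by norm_num) (by norm_num) h.symm,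
        fun h => D_ne (i := 2) (j := 0) (by norm_num) (by norm_num) h.symm,
        fun h => D_ne (i := 3) (j := 0) (by norm_num) (by norm_num) h.symm,
        fun h => D_ne (i := 4) (j := 0) (by norm_num) (by norm_num) h.symm⟩,
        ⟨fun h => D_ne (i := 2) (j := 1) (by norm_num) (by norm_num) h.symm,
        fun h => D_ne (i := 3) (j := 1) (by norm_num) (by norm_num) h.symm,
        fun h => D_ne (i := 4) (j := 1) (by norm_num) (by norm_num) h.symm⟩,
        ⟨fun h => D_ne (i := 3) (j := 2) (by norm_num) (by norm_num) h.symm,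
        fun h => D_ne (i := 4) (j := 2) (by norm_num) (by norm_num) h.symm⟩,
        fun h => D_ne (i := 4) (j := 3) (by norm_num) (by norm_num) h.symm⟩) (by simp [h5])
    (by omega) hO (by
      intro x hx
      simp only [List.mem_cons, List.not_mem_nil, or_false] at hx
      rcases hx with rfl | rfl | rfl | rfl | rfl <;> exact D_mem (by norm_num))
  have hbot : chn K12 g12B 5 = ⊥ := Subgroup.card_eq_one.1 card_chn5
  have h1 : u * g * u⁻¹ ∈ chn K12 g12B 5 := by
    rw [mem_chn]
    refine ⟨K12.mul_mem (K12.mul_mem hu hg) (K12.inv_mem hu), fun j hj => ?_⟩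
    have h2 : ∃ x ∈ l, u x = D j := by
      have hj' : j < l.length := by omega
      refine ⟨l[j], List.getElem_mem hj', ?_⟩
      have h3 : (l.map u)[j]'(by rw [List.length_map]; exact hj') = [D 0, D 1, D 2, D 3, D 4][j]'(by simpa using hj) := by
        congr 1
      rw [List.getElem_map] at h3
      rw [h3]
      interval_cases j <;> rfl
    obtain ⟨x, hx, h3⟩ := h2
    show u (g (u⁻¹ (D j))) = D j
    have h5 : u⁻¹ (D j) = x := Equiv.Perm.inv_eq_iff_eq.2 h3.symm
    rw [h5, hfix x hx, h3]
  rw [hbot, Subgroup.mem_bot] at h1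
  have : g = u⁻¹ * (u * g * u⁻¹) * u := by group
  rw [this, h1]; group

theorem g12_ord : allN (fun i => Nat.beq (imN (pk g12T 0) 11 i) i) 24 = true ∧
    allN (fun i => Nat.beq (imN (pk g12T 1) 11 i) i) 24 = true := by
  constructor <;> decide +kernel

theorem K12_simple : IsSimpleGroup K12 := by
  classical
  have : Nontrivial K12 := by
    rw [← Finite.one_lt_card_iff_nontrivial, card_K12]; norm_num
  have hp : ∀ i < 2, isPerm (pk g12T i) = true := fun i hi => (allN_iff _ _).1 g12_isPerm i hi
  have hO : (S dod0).card = 12 := dodecad_card dod0_mem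
  have hs : ({D 0, D 1} : Finset GolayPt) ∈ (S dod0).powersetCard 2 := by
    rw [Finset.mem_powersetCard]
    refine ⟨?_, Finset.card_pair (D_ne (i := 1) (j := 0) (by norm_num) (by norm_num)).symm⟩
    intro x hx
    rw [Finset.mem_insert, Finset.mem_singleton] at hx
    rcases hx with rfl | rfl <;> exact D_mem (by norm_num)
  have hK : ∀ g ∈ K12, ∀ x ∈ S dod0, g x ∈ S dod0 := fun g hg x hx => (K12_inv hg).2 hx
  have hco := pair_coatom K12 (S dod0) hK (K12_transOn.mono (by norm_num)) 12 hO (by norm_num) (by decide) (by decide)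
    {D 0, D 1} hs
  have hidx : Nat.card (MulAction.stabilizer K12 ({D 0, D 1} : Finset GolayPt)) * 66 = 95040 := by
    have h2 := Subgroup.card_mul_index (MulAction.stabilizer K12 ({D 0, D 1} : Finset GolayPt))
    rw [MulAction.index_stabilizer] at h2
    have h3 : MulAction.orbit K12 ({D 0, D 1} : Finset GolayPt) = ((S dod0).powersetCard 2 : Set (Finset GolayPt)) := by
      ext x
      constructor
      · rintro ⟨g, rfl⟩
        rw [Finset.mem_coe, Finset.mem_powersetCard] at *
        show (g : Equiv.Perm GolayPt) • ({D 0, D 1} : Finset GolayPt) ⊆ _ ∧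
          ((g : Equiv.Perm GolayPt) • ({D 0, D 1} : Finset GolayPt)).card = 2
        rw [Finset.card_smul_finset]
        refine ⟨?_, hs.2⟩
        intro x hx
        obtain ⟨y, hy, rfl⟩ := Finset.mem_smul_finset.1 hx
        exact hK g g.2 y (hs.1 hy)
      · intro hx
        rw [Finset.mem_coe, Finset.mem_powersetCard] at hx
        obtain ⟨c, d, hcd, rfl⟩ := Finset.card_eq_two.1 hx.2
        obtain ⟨g, hg, h⟩ := K12_transOn [D 0, D 1] [c, d]
          (by simpa using (D_ne (i := 1) (j := 0) (by norm_num) (by norm_num)).symm) (by simpa using hcd) rfl (by simp)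
          (by intro x hx; simp only [List.mem_cons, List.not_mem_nil, or_false] at hx
              rcases hx with rfl | rfl <;> exact D_mem (by norm_num))
          (by intro y hy; apply hx.1; simpa using hy)
        simp only [List.map_cons, List.map_nil, List.cons.injEq, and_true] at h
        refine ⟨⟨g, hg⟩, ?_⟩
        show g • ({D 0, D 1} : Finset GolayPt) = {c, d}
        rw [Finset.smul_finset_insert, Finset.smul_finset_singleton, Equiv.Perm.smul_def, Equiv.Perm.smul_def, h.1, h.2]
    rw [h3, Set.ncard_coe_finset, Finset.card_powersetCard, hO, card_K12] at h2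
    exact h2
  refine simple_of_max' K12 (MulAction.stabilizer K12 ({D 0, D 1} : Finset GolayPt)) hco ?_ 11 (by norm_num) ?_
    {toPerm (pk g12T 0), toPerm (pk g12T 1)} ?_ ?_
  · intro x hx
    -- x fixes every pair
    have hpair : ∀ c d, c ≠ d → c ∈ S dod0 → d ∈ S dod0 → (x : Equiv.Perm GolayPt) • ({c, d} : Finset GolayPt) = {c, d} := by
      intro c d hcd hc hd
      obtain ⟨g, hg, h⟩ := K12_transOn [D 0, D 1] [c, d]
        (by simpa using (D_ne (i := 1) (j := 0) (by norm_num) (by norm_num)).symm) (by simpa using hcd) rfl (by simp)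
        (by intro x hx; simp only [List.mem_cons, List.not_mem_nil, or_false] at hx
            rcases hx with rfl | rfl <;> exact D_mem (by norm_num))
        (by intro y hy; simp only [List.mem_cons, List.not_mem_nil, or_false] at hy
            rcases hy with rfl | rfl <;> assumption)
      simp only [List.map_cons, List.map_nil, List.cons.injEq, and_true] at h
      have hgs : g • ({D 0, D 1} : Finset GolayPt) = {c, d} := by
        rw [Finset.smul_finset_insert, Finset.smul_finset_singleton, Equiv.Perm.smul_def, Equiv.Perm.smul_def, h.1, h.2]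
      have h1 := hx (⟨g, hg⟩⁻¹)
      rw [MulAction.mem_stabilizer_iff, inv_inv] at h1
      have h4 : (g⁻¹ * (x : Equiv.Perm GolayPt) * g) • ({D 0, D 1} : Finset GolayPt) = {D 0, D 1} := h1
      rw [mul_smul, mul_smul, inv_smul_eq_iff, hgs] at h4
      exact h4
    have hfix : ∀ c ∈ S dod0, (x : Equiv.Perm GolayPt) c = c := by
      intro c hc
      have : 2 < (S dod0).card := by rw [hO]; norm_num
      obtain ⟨d, hd, hdc⟩ : ∃ d ∈ S dod0, d ≠ c := Finset.exists_mem_ne (by omega) c
      obtain ⟨e, he, hed⟩ : ∃ e ∈ S dod0, e ∉ ({c, d} : Finset GolayPt) :=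
        Finset.exists_mem_notMem_of_card_lt_card (lt_of_le_of_lt Finset.card_le_two this)
      have he1 : e ≠ c := by rintro rfl; simp at hed
      have he2 : e ≠ d := by rintro rfl; simp at hed
      have h1 := hpair c d hdc.symm hc hd
      have h2 := hpair c e he1.symm hc he
      have m1 : (x : Equiv.Perm GolayPt) c ∈ ({c, d} : Finset GolayPt) := by
        rw [← h1]; exact Finset.mem_smul_finset.2 ⟨c, by simp, rfl⟩
      have m2 : (x : Equiv.Perm GolayPt) c ∈ ({c, e} : Finset GolayPt) := by
        rw [← h2]; exact Finset.mem_smul_finset.2 ⟨c, by simp, rfl⟩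
      rw [Finset.mem_insert, Finset.mem_singleton] at m1 m2
      rcases m1 with m1 | m1
      · exact m1
      · rcases m2 with m2 | m2
        · exact m2
        · exact absurd (m2.symm.trans m1) he2
    apply Subtype.ext
    apply K12_eq_one x.2 [D 0, D 1, D 2, D 3, D 4]
    · simp only [List.nodup_cons, List.mem_cons, List.not_mem_nil, or_false, not_or, List.nodup_nil, not_false_iff,
        and_true]
      refine ⟨⟨fun h => D_ne (i := 1) (j := 0) (by norm_num) (by norm_num) h.symm,
        fun h => D_ne (i := 2) (j := 0) (by norm_num) (by norm_num) h.symm,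
        fun h => D_ne (i := 3) (j := 0) (by norm_num) (by norm_num) h.symm,
        fun h => D_ne (i := 4) (j := 0) (by norm_num) (by norm_num) h.symm⟩,
        ⟨fun h => D_ne (i := 2) (j := 1) (by norm_num) (by norm_num) h.symm,
        fun h => D_ne (i := 3) (j := 1) (by norm_num) (by norm_num) h.symm,
        fun h => D_ne (i := 4) (j := 1) (by norm_num) (by norm_num) h.symm⟩,
        ⟨fun h => D_ne (i := 3) (j := 2) (by norm_num) (by norm_num) h.symm,
        fun h => D_ne (i := 4) (j := 2) (by norm_num) (by norm_num) h.symm⟩,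
        fun h => D_ne (i := 4) (j := 3) (by norm_num) (by norm_num) h.symm⟩
    · rfl
    · intro y hy
      simp only [List.mem_cons, List.not_mem_nil, or_false] at hy
      rcases hy with rfl | rfl | rfl | rfl | rfl <;> exact D_mem (by norm_num)
    · intro y hy
      simp only [List.mem_cons, List.not_mem_nil, or_false] at hy
      rcases hy with rfl | rfl | rfl | rfl | rfl <;> exact hfix _ (D_mem (by norm_num))
  · intro h
    obtain ⟨m, hm⟩ := h
    rw [hm] at hidx
    omega
  · rw [← genG2]
    exact g12_gen (fun i hi => mem_of_mask_check ((allN_iff _ _).1 g12_mem i hi)) card_K12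
  · rintro x (rfl | hx)
    · exact ⟨1, by rw [pow_one]; exact pow_perm_one' (hp 0 (by norm_num)) g12_ord.1⟩
    · rw [Set.mem_singleton_iff] at hx; subst hx
      exact ⟨1, by rw [pow_one]; exact pow_perm_one' (hp 1 (by norm_num)) g12_ord.2⟩

/-! ### M11 -/

theorem g11_ord : allN (fun i => Nat.beq (imN (pk g11T 0) 11 i) i) 24 = true ∧
    allN (fun i => Nat.beq (imN (pk g11T 1) 11 i) i) 24 = true := by
  constructor <;> decide +kernel

theorem g11_mem : allN (fun i => band (band (checkM24 (pk g11T i)) (Nat.beq (imgM (pk g11T i) dod0) dod0))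
    (Nat.beq (im (pk g11T i) (lookW 5 31 g12B 0)) (lookW 5 31 g12B 0))) 2 = true := by
  decide +kernel

/-- the dodecad and point stabilizer -/
theorem K11_simple : IsSimpleGroup (chn K12 g12B 1) := by
  classical
  have hp : ∀ i < 2, isPerm (pk g11T i) = true := fun i hi => (allN_iff _ _).1 g11_isPerm i hi
  have hD0 : ∀ q, q ∈ S (look24 g12O 1) ↔ q ∈ S dod0 ∧ q ≠ D 0 := by
    intro q
    rw [mem_g12_orb (by norm_num)]
    refine and_congr_right fun _ => ⟨fun h => h 0 (by norm_num), fun h j hj => ?_⟩
    have : j = 0 := by omega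
    subst this; exact h
  have hcardO : (S (look24 g12O 1)).card = 11 := by rw [card_S]; decide +kernel
  refine simple_two_trans (chn K12 g12B 1) (S (look24 g12O 1)) (D 1) (D 2) ?_ ?_ ?_ (fun q hq => K12_step (by norm_num) hq)
    ?_ ?_ ?_ 11 (by norm_num) ?_ {toPerm (pk g11T 0), toPerm (pk g11T 1)} ?_ ?_
  · exact (hD0 _).2 ⟨D_mem (by norm_num), D_ne (by norm_num) (by norm_num)⟩
  · exact (hD0 _).2 ⟨D_mem (by norm_num), D_ne (by norm_num) (by norm_num)⟩
  · exact D_ne (by norm_num) (by norm_num)
  · intro g hg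
    rw [mem_chn] at hg
    rw [hD0]
    refine ⟨(K12_inv hg.1).2 (D_mem (by norm_num)), fun h => ?_⟩
    have h0' : g (D 0) = D 0 := hg.2 0 (by norm_num)
    rw [← h0'] at h
    exact D_ne (i := 1) (j := 0) (by norm_num) (by norm_num) (g.injective h)
  · intro q hq hne
    rw [hD0] at hq
    have h2 : q ∈ S (look24 g12O 2) := by
      rw [mem_g12_orb (by norm_num)]
      refine ⟨hq.1, fun j hj => ?_⟩
      interval_cases j
      · exact hq.2
      · exact hne
    obtain ⟨g, hg, h3⟩ := K12_step (by norm_num) h2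
    rw [mem_chn] at hg
    exact ⟨g, mem_chn.2 ⟨hg.1, fun j hj => hg.2 j (by omega)⟩, hg.2 1 (by norm_num), h3⟩
  · intro g hg h
    rw [mem_chn] at hg
    have hfix : ∀ q ∈ S dod0, g q = q := by
      intro q hq
      by_cases hq0 : q = D 0
      · subst hq0; exact hg.2 0 (by norm_num)
      · exact h q ((hD0 q).2 ⟨hq, hq0⟩)
    apply K12_eq_one hg.1 [D 0, D 1, D 2, D 3, D 4]
    · simp only [List.nodup_cons, List.mem_cons, List.not_mem_nil, or_false, not_or, List.nodup_nil, not_false_iff,
        and_true]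
      refine ⟨⟨fun h => D_ne (i := 1) (j := 0) (by norm_num) (by norm_num) h.symm,
        fun h => D_ne (i := 2) (j := 0) (by norm_num) (by norm_num) h.symm,
        fun h => D_ne (i := 3) (j := 0) (by norm_num) (by norm_num) h.symm,
        fun h => D_ne (i := 4) (j := 0) (by norm_num) (by norm_num) h.symm⟩,
        ⟨fun h => D_ne (i := 2) (j := 1) (by norm_num) (by norm_num) h.symm,
        fun h => D_ne (i := 3) (j := 1) (by norm_num) (by norm_num) h.symm,
        fun h => D_ne (i := 4) (j := 1) (by norm_num) (by norm_num) h.symm⟩,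
        ⟨fun h => D_ne (i := 3) (j := 2) (by norm_num) (by norm_num) h.symm,
        fun h => D_ne (i := 4) (j := 2) (by norm_num) (by norm_num) h.symm⟩,
        fun h => D_ne (i := 4) (j := 3) (by norm_num) (by norm_num) h.symm⟩
    · rfl
    · intro y hy
      simp only [List.mem_cons, List.not_mem_nil, or_false] at hy
      rcases hy with rfl | rfl | rfl | rfl | rfl <;> exact D_mem (by norm_num)
    · intro y hy
      simp only [List.mem_cons, List.not_mem_nil, or_false] at hy
      rcases hy with rfl | rfl | rfl | rfl | rfl <;> exact hfix _ (D_mem (by norm_num))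
  · rw [hcardO, card_chn1]; norm_num
  · rw [← genG2]
    refine g11_gen (fun i hi => ?_) card_chn1
    obtain ⟨h1, h2⟩ := band_iff.1 ((allN_iff _ _).1 g11_mem i hi)
    rw [mem_chn]
    refine ⟨mem_of_mask_check h1, fun j hj => ?_⟩
    have : j = 0 := by omega
    subst this
    rw [toPerm_pt (hp i hi) (g12_base' (by norm_num)), Nat.eq_of_beq_eq_true h2]
  · rintro x (rfl | hx)
    · exact ⟨1, by rw [pow_one]; exact pow_perm_one' (hp 0 (by norm_num)) g11_ord.1⟩
    · rw [Set.mem_singleton_iff] at hx; subst hx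
      exact ⟨1, by rw [pow_one]; exact pow_perm_one' (hp 1 (by norm_num)) g11_ord.2⟩

end Cfsg.Agent.H9
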