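import Cfsg.Agent.H9.M24Gen2
set_option autoImplicit false

/-! Action of subgroups of the dodecad group on the complementary dodecad. -/

namespace Cfsg.Agent.H9
open Cfsg
open scoped Pointwise

theorem h11_mem : allN (fun i => band (band (checkM24 (pk h11T i)) (Nat.beq (imgM (pk h11T i) dod0) dod0))
    (Nat.beq (im (pk h11T i) (lookW 5 31 g12B 0)) (lookW 5 31 g12B 0))) 2 = true := by
  decide +kernel

theorem h72_mem : allN (fun i => band (band (checkM24 (pk h72T i)) (Nat.beq (imgM (pk h72T i) dod0) dod0))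
    (allN (fun j => Nat.beq (im (pk h72T i) (lookW 5 31 g12B j)) (lookW 5 31 g12B j)) 3)) 2 = true := by
  decide +kernel

theorem h11_in {i : ℕ} (hi : i < 2) : toPerm (pk h11T i) ∈ chn K12 g12B 1 := by
  obtain ⟨h1, h2⟩ := band_iff.1 ((allN_iff _ _).1 h11_mem i hi)
  rw [mem_chn]
  refine ⟨mem_of_mask_check h1, fun j hj => ?_⟩
  have : j = 0 := by omega
  subst this
  rw [toPerm_pt ((allN_iff _ _).1 h11_isPerm i hi) (g12_base' (by norm_num)), Nat.eq_of_beq_eq_true h2]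

theorem h72_in {i : ℕ} (hi : i < 2) : toPerm (pk h72T i) ∈ chn K12 g12B 3 := by
  obtain ⟨h1, h2⟩ := band_iff.1 ((allN_iff _ _).1 h72_mem i hi)
  rw [mem_chn]
  refine ⟨mem_of_mask_check h1, fun j hj => ?_⟩
  rw [toPerm_pt ((allN_iff _ _).1 h72_isPerm i hi) (g12_base' (by omega)),
    Nat.eq_of_beq_eq_true ((allN_iff _ _).1 h2 j hj)]

theorem h11_step {i : ℕ} (hi : i < 5) {q : GolayPt} (hq : q ∈ S (look24 h11O i)) :
    ∃ g ∈ chn (chn K12 g12B 1) h11B i, g (pt (lookW 5 31 h11B i)) = q := by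
  refine trv_step h11_trv (fun j hj => ?_) (slp_spec (K := chn K12 g12B 1) h11_slp (fun i hi =>
    ⟨(allN_iff _ _).1 h11_isPerm i hi, h11_in hi⟩)) hi hq
  simpa [Nat.blt] using (allN_iff _ _).1 h11_base j hj

theorem h11_orb : allN (fun i => Nat.beq (look24 h11O i)
    (Nat.land (Nat.xor dod0 16777215) (Nat.xor (bMask h11B i) 16777215))) 3 = true := by
  decide +kernel

theorem mem_h11_orb {i : ℕ} (hi : i < 3) {q : GolayPt} :
    q ∈ S (look24 h11O i) ↔ q ∉ S dod0 ∧ ∀ j < i, q ≠ pt (lookW 5 31 h11B j) := by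
  rw [Nat.eq_of_beq_eq_true ((allN_iff _ _).1 h11_orb i hi)]
  have e : S (Nat.land (Nat.xor dod0 16777215) (Nat.xor (bMask h11B i) 16777215)) =
    (S dod0)ᶜ ∩ (S (bMask h11B i))ᶜ := by
    rw [← S_compl, ← S_compl, ← S_and]; rfl
  rw [e, Finset.mem_inter, Finset.mem_compl, Finset.mem_compl, mem_bMask (fun j hj => by
    simpa [Nat.blt] using (allN_iff _ _).1 h11_base j (by omega))]
  refine and_congr_right fun _ => ?_
  push Not
  exact Iff.rfl

theorem K11_comp_trans : TransOn (chn K12 g12B 1) (S dod0)ᶜ 3 := by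
  refine transOn_of_chain (Bs := h11B) (fun g hg x hx => ?_) fun _ hi _ hq hne =>
    h11_step (by omega) ((mem_h11_orb hi).2 ⟨Finset.mem_compl.1 hq, hne⟩)
  rw [Finset.mem_compl] at hx ⊢
  rwa [K12_inv (mem_chn.1 hg).1]

theorem h72_trans {q : GolayPt} (hq : q ∉ S dod0) : ∃ g ∈ chn K12 g12B 3, g (pt (lookW 5 31 h72B 0)) = q := by
  have h1 : q ∈ S (look24 h72O 0) := by
    have e : look24 h72O 0 = Nat.xor dod0 16777215 := by decide +kernel
    have e2 : S (Nat.xor dod0 16777215) = (S dod0)ᶜ := by rw [← S_compl]; rfl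
    rw [e, e2, Finset.mem_compl]; exact hq
  obtain ⟨g, hg, h2⟩ := trv_step h72_trv (fun j hj => by
      simpa [Nat.blt] using (allN_iff _ _).1 h72_base j hj) (slp_spec (K := chn K12 g12B 3) h72_slp (fun i hi =>
    ⟨(allN_iff _ _).1 h72_isPerm i hi, h72_in hi⟩)) (by norm_num) h1
  exact ⟨g, hg, h2⟩

end Cfsg.Agent.H9
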