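import Cfsg.Agent.H9.M24Cert
set_option autoImplicit false

/-! Orbits of the group of the code and of octad and dodecad stabilizers. -/

namespace Cfsg.Agent.H9
open Cfsg
open scoped Pointwise

theorem octads_sub {o : Finset GolayPt} (ho : o ∈ octads) :
    o ∈ supports (golayCode : Set (GolayPt → ZMod 2)) := ho.1
theorem dodecads_sub {o : Finset GolayPt} (ho : o ∈ dodecads) :
    o ∈ supports (golayCode : Set (GolayPt → ZMod 2)) := ho.1

theorem m24_words_trans {x y : Finset GolayPt} (hx : x ∈ supports (golayCode : Set (GolayPt → ZMod 2)))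
    (hy : y ∈ supports (golayCode : Set (GolayPt → ZMod 2))) (h : x.card = y.card) :
    ∃ g ∈ M24, g • x = y := by
  obtain ⟨j, hj, rfl⟩ := mem_supports_iff.1 hx
  obtain ⟨k, hk, rfl⟩ := mem_supports_iff.1 hy
  rw [card_S, card_S] at h
  obtain ⟨g, hg, h1⟩ := m24c_pair hj hk rfl rfl h
  exact ⟨g, genG_le (fun i hi => gen_memM24 ((allN_iff _ _).1 m24c_gens i hi)) hg, h1⟩

theorem octad_trans {x y : Finset GolayPt} (hx : x ∈ octads) (hy : y ∈ octads) : ∃ g ∈ M24, g • x = y :=
  m24_words_trans hx.1 hy.1 (by rw [octad_card hx, octad_card hy])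

theorem dodecad_trans {x y : Finset GolayPt} (hx : x ∈ dodecads) (hy : y ∈ dodecads) : ∃ g ∈ M24, g • x = y :=
  m24_words_trans hx.1 hy.1 (by rw [dodecad_card hx, dodecad_card hy])

/-- membership of a generated group in the stabilizer of a mask -/
theorem genG_le_stab {PP n m : ℕ} (hp : ∀ i < n, isPerm (pk PP i) = true)
    (h : allN (fun i => Nat.beq (imgM (pk PP i) m) m) n = true) :
    genG PP n ≤ MulAction.stabilizer (Equiv.Perm GolayPt) (S m) := by
  apply genG_le
  intro i hi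
  rw [MulAction.mem_stabilizer_iff, smul_S (hp i hi), Nat.eq_of_beq_eq_true ((allN_iff _ _).1 h i hi)]

theorem genG_le_fix {PP n a : ℕ} (ha : a < 24) (hp : ∀ i < n, isPerm (pk PP i) = true)
    (h : allN (fun i => Nat.beq (im (pk PP i) a) a) n = true) :
    genG PP n ≤ MulAction.stabilizer (Equiv.Perm GolayPt) (pt a) := by
  apply genG_le
  intro i hi
  rw [MulAction.mem_stabilizer_iff, Equiv.Perm.smul_def, toPerm_pt (hp i hi) ha,
    Nat.eq_of_beq_eq_true ((allN_iff _ _).1 h i hi)]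

theorem oct_gens_fix : allN (fun i => Nat.beq (imgM (pk octPP i) oct0) oct0) 2 = true := by decide +kernel
theorem dod_gens_fix : allN (fun i => Nat.beq (imgM (pk dodPP i) dod0) dod0) 2 = true := by decide +kernel

theorem dod0_cw : isCW dod0 = true := by decide +kernel
theorem dod0_pc : pc dod0 = 12 := by decide +kernel
theorem dod0_mem : S dod0 ∈ dodecads := S_mem_dodecads dod0_cw dod0_pc

theorem squareDodecad_eq : Spor.squareDodecad = S dod0 := by
  rw [Spor.squareDodecad, qrWord_eq, support_wd]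
  have : look24 qrTab (ZMod.val (0 : ZMod 23)) = dod0 := by decide +kernel
  rw [this]

theorem col_eq {a b c d : ℕ} (hb : b < 16) (hd : d < 16)
    (h : Nat.add (Nat.mul a 16) b = Nat.add (Nat.mul c 16) d) : a = c ∧ b = d := by
  have h' : a * 16 + b = c * 16 + d := h
  omega

theorem pc_and_le (m n : ℕ) : pc (m &&& n) ≤ pc n := by
  rw [← card_S, ← card_S, S_and]; exact Finset.card_le_card Finset.inter_subset_right

/-- orbits of the stabilizer of the standard octad on words -/
theorem oct0_words_trans {x y : Finset GolayPt} (hx : x ∈ supports (golayCode : Set (GolayPt → ZMod 2)))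
    (hy : y ∈ supports (golayCode : Set (GolayPt → ZMod 2))) (h : x.card = y.card)
    (h' : (S oct0 ∩ x).card = (S oct0 ∩ y).card) :
    ∃ g ∈ M24, g • S oct0 = S oct0 ∧ g • x = y := by
  obtain ⟨j, hj, rfl⟩ := mem_supports_iff.1 hx
  obtain ⟨k, hk, rfl⟩ := mem_supports_iff.1 hy
  rw [card_S, card_S] at h
  rw [Finset.inter_comm (S oct0), Finset.inter_comm (S oct0), pc_and, pc_and] at h'
  have hc : oct_c j = oct_c k := by
    show Nat.add (Nat.mul (pc (enc j)) 16) (pc (Nat.land (enc j) oct0)) =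
      Nat.add (Nat.mul (pc (enc k)) 16) (pc (Nat.land (enc k) oct0))
    rw [h]; exact congrArg _ h'
  obtain ⟨g, hg, h1⟩ := oct_pair hj hk rfl rfl hc
  refine ⟨g, genG_le (fun i hi => gen_memM24 ((allN_iff _ _).1 oct_gens i hi)) hg, ?_, h1⟩
  exact MulAction.mem_stabilizer_iff.1
    (genG_le_stab (fun i hi => gen_isPerm ((allN_iff _ _).1 oct_gens i hi)) oct_gens_fix hg)

/-- orbits of the stabilizer of the standard dodecad on words -/
theorem dod0_words_trans {x y : Finset GolayPt} (hx : x ∈ supports (golayCode : Set (GolayPt → ZMod 2)))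
    (hy : y ∈ supports (golayCode : Set (GolayPt → ZMod 2))) (h : x.card = y.card)
    (h' : (S dod0 ∩ x).card = (S dod0 ∩ y).card) :
    ∃ g ∈ M24, g • S dod0 = S dod0 ∧ g • x = y := by
  obtain ⟨j, hj, rfl⟩ := mem_supports_iff.1 hx
  obtain ⟨k, hk, rfl⟩ := mem_supports_iff.1 hy
  rw [card_S, card_S] at h
  rw [Finset.inter_comm (S dod0), Finset.inter_comm (S dod0), pc_and, pc_and] at h'
  have hc : dod_c j = dod_c k := by
    show Nat.add (Nat.mul (pc (enc j)) 16) (pc (Nat.land (enc j) dod0)) =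
      Nat.add (Nat.mul (pc (enc k)) 16) (pc (Nat.land (enc k) dod0))
    rw [h]; exact congrArg _ h'
  obtain ⟨g, hg, h1⟩ := dod_pair hj hk rfl rfl hc
  refine ⟨g, genG_le (fun i hi => gen_memM24 ((allN_iff _ _).1 dod_gens i hi)) hg, ?_, h1⟩
  exact MulAction.mem_stabilizer_iff.1
    (genG_le_stab (fun i hi => gen_isPerm ((allN_iff _ _).1 dod_gens i hi)) dod_gens_fix hg)

theorem smul_inter_card (g : Equiv.Perm GolayPt) (s t : Finset GolayPt) : (g • s ∩ g • t).card = (s ∩ t).card := by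
  rw [← Finset.smul_finset_inter, Finset.card_smul_finset]

/-- orbits of an octad stabilizer on words -/
theorem oct_words_trans {o x y : Finset GolayPt} (ho : o ∈ octads)
    (hx : x ∈ supports (golayCode : Set (GolayPt → ZMod 2)))
    (hy : y ∈ supports (golayCode : Set (GolayPt → ZMod 2))) (h : x.card = y.card)
    (h' : (o ∩ x).card = (o ∩ y).card) : ∃ g ∈ M24, g • o = o ∧ g • x = y := by
  obtain ⟨u, hu, rfl⟩ := octad_trans oct0_mem ho
  have hui : u⁻¹ ∈ M24 := M24.inv_mem hu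
  obtain ⟨g, hg, h1, h2⟩ := oct0_words_trans (smul_mem_supports hui hx) (smul_mem_supports hui hy)
    (by rw [Finset.card_smul_finset, Finset.card_smul_finset, h])
    (by rw [← smul_inter_card u, ← smul_inter_card u (S oct0) (u⁻¹ • y), smul_inv_smul, smul_inv_smul, h'])
  refine ⟨u * g * u⁻¹, M24.mul_mem (M24.mul_mem hu hg) hui, ?_, ?_⟩
  · rw [mul_smul, mul_smul, inv_smul_smul, h1]
  · rw [mul_smul, mul_smul, h2, smul_inv_smul]

/-- orbits of a dodecad stabilizer on words -/
theorem dod_words_trans {o x y : Finset GolayPt} (ho : o ∈ dodecads)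
    (hx : x ∈ supports (golayCode : Set (GolayPt → ZMod 2)))
    (hy : y ∈ supports (golayCode : Set (GolayPt → ZMod 2))) (h : x.card = y.card)
    (h' : (o ∩ x).card = (o ∩ y).card) : ∃ g ∈ M24, g • o = o ∧ g • x = y := by
  obtain ⟨u, hu, rfl⟩ := dodecad_trans dod0_mem ho
  have hui : u⁻¹ ∈ M24 := M24.inv_mem hu
  obtain ⟨g, hg, h1, h2⟩ := dod0_words_trans (smul_mem_supports hui hx) (smul_mem_supports hui hy)
    (by rw [Finset.card_smul_finset, Finset.card_smul_finset, h])
    (by rw [← smul_inter_card u, ← smul_inter_card u (S dod0) (u⁻¹ • y), smul_inv_smul, smul_inv_smul, h'])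
  refine ⟨u * g * u⁻¹, M24.mul_mem (M24.mul_mem hu hg) hui, ?_, ?_⟩
  · rw [mul_smul, mul_smul, inv_smul_smul, h1]
  · rw [mul_smul, mul_smul, h2, smul_inv_smul]

/-! ### counting -/

theorem ncard_words {w : ℕ} (f : ℕ → Bool) (P : Finset GolayPt → Prop)
    (hf : ∀ k < 4096, f k = true ↔ P (S (enc k))) :
    {x | x ∈ wordsOfWeight (golayCode : Set (GolayPt → ZMod 2)) w ∧ P x}.ncard =
      cnt (fun k => band (Nat.beq (pc (enc k)) w) (f k)) := by
  apply ncard_cnt
  intro s
  show (s ∈ wordsOfWeight (golayCode : Set (GolayPt → ZMod 2)) w ∧ P s) ↔ _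
  rw [mem_weight_iff]
  constructor
  · rintro ⟨⟨k, hk, h1, rfl⟩, h2⟩
    exact ⟨k, hk, band_iff.2 ⟨by rw [h1]; exact Nat.beq_refl _, (hf k hk).2 h2⟩, rfl⟩
  · rintro ⟨k, hk, h1, rfl⟩
    obtain ⟨h2, h3⟩ := band_iff.1 h1
    exact ⟨⟨k, hk, Nat.eq_of_beq_eq_true h2, rfl⟩, (hf k hk).1 h3⟩

theorem beq_iff {a b : ℕ} : Nat.beq a b = true ↔ a = b :=
  ⟨Nat.eq_of_beq_eq_true, fun h => by rw [h]; exact Nat.beq_refl _⟩

theorem inter_test (o j k : ℕ) : Nat.beq (pc (Nat.land (enc k) o)) j = true ↔ (S o ∩ S (enc k)).card = j := by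
  rw [beq_iff, Finset.inter_comm, pc_and]; rfl

theorem mem_test {i : ℕ} (hi : i < 24) (k : ℕ) : Nat.beq (bt (enc k) i) 1 = true ↔ pt i ∈ S (enc k) := by
  rw [beq_iff, bt_eq, mem_S_pt hi]
  cases (enc k).testBit i <;> simp

theorem notMem_test {i : ℕ} (hi : i < 24) (k : ℕ) : Nat.beq (bt (enc k) i) 0 = true ↔ pt i ∉ S (enc k) := by
  rw [beq_iff, bt_eq, mem_S_pt hi]
  cases (enc k).testBit i <;> simp

/-- transport of a count by a permutation -/
theorem ncard_transport (g : Equiv.Perm GolayPt) {X Y : Set (Finset GolayPt)} (h : ∀ s, s ∈ X ↔ g • s ∈ Y) :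
    X.ncard = Y.ncard := by
  have : Y = g • X := by
    ext s
    rw [Set.mem_smul_set_iff_inv_smul_mem, h, smul_inv_smul]
  rw [this, Set.ncard_smul_set]

theorem oct0_count (j : ℕ) (w : ℕ) :
    {x | x ∈ wordsOfWeight (golayCode : Set (GolayPt → ZMod 2)) w ∧ (S oct0 ∩ x).card = j}.ncard =
      cnt (fun k => band (Nat.beq (pc (enc k)) w) (Nat.beq (pc (Nat.land (enc k) oct0)) j)) :=
  ncard_words _ _ fun k _ => inter_test oct0 j k

theorem dod0_count (j : ℕ) (w : ℕ) :
    {x | x ∈ wordsOfWeight (golayCode : Set (GolayPt → ZMod 2)) w ∧ (S dod0 ∩ x).card = j}.ncard =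
      cnt (fun k => band (Nat.beq (pc (enc k)) w) (Nat.beq (pc (Nat.land (enc k) dod0)) j)) :=
  ncard_words _ _ fun k _ => inter_test dod0 j k

theorem words_iff {g : Equiv.Perm GolayPt} (hg : g ∈ M24) {w : ℕ} {s : Finset GolayPt} :
    g • s ∈ wordsOfWeight (golayCode : Set (GolayPt → ZMod 2)) w ↔
      s ∈ wordsOfWeight (golayCode : Set (GolayPt → ZMod 2)) w := by
  constructor
  · intro h
    have := smul_mem_weight (M24.inv_mem hg) h
    rwa [inv_smul_smul] at this
  · exact smul_mem_weight hg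

theorem oct_count {o : Finset GolayPt} (ho : o ∈ octads) (j w : ℕ) :
    {x | x ∈ wordsOfWeight (golayCode : Set (GolayPt → ZMod 2)) w ∧ (o ∩ x).card = j}.ncard =
      cnt (fun k => band (Nat.beq (pc (enc k)) w) (Nat.beq (pc (Nat.land (enc k) oct0)) j)) := by
  rw [← oct0_count]
  obtain ⟨u, hu, h⟩ := octad_trans ho oct0_mem
  apply ncard_transport u
  intro s
  show (_ ∧ _) ↔ (_ ∧ _)
  rw [words_iff hu, ← h, smul_inter_card]

theorem dod_count {o : Finset GolayPt} (ho : o ∈ dodecads) (j w : ℕ) :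
    {x | x ∈ wordsOfWeight (golayCode : Set (GolayPt → ZMod 2)) w ∧ (o ∩ x).card = j}.ncard =
      cnt (fun k => band (Nat.beq (pc (enc k)) w) (Nat.beq (pc (Nat.land (enc k) dod0)) j)) := by
  rw [← dod0_count]
  obtain ⟨u, hu, h⟩ := dodecad_trans ho dod0_mem
  apply ncard_transport u
  intro s
  show (_ ∧ _) ↔ (_ ∧ _)
  rw [words_iff hu, ← h, smul_inter_card]

/-! ### frames -/

/-- an octad with up to five of its points can be moved to the standard octad and base -/
theorem oct_frame (k : ℕ) (hk : k ≤ 5) {o : Finset GolayPt} (ho : o ∈ octads) (x : ℕ → GolayPt)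
    (hx : ∀ i < k, x i ∈ o) (hne : ∀ i < k, ∀ j < i, x i ≠ x j) :
    ∃ g ∈ M24, g • o = S oct0 ∧ ∀ i < k, g (x i) = B i := by
  -- extend to five points
  have key : ∀ n, k + n ≤ 5 → ∃ y : ℕ → GolayPt, (∀ i < k, y i = x i) ∧ (∀ i < k + n, y i ∈ o) ∧
      ∀ i < k + n, ∀ j < i, y i ≠ y j := by
    intro n
    induction n with
    | zero => intro _; exact ⟨x, fun _ _ => rfl, hx, hne⟩
    | succ n ih =>
      intro hn
      obtain ⟨y, h1, h2, h3⟩ := ih (by omega)
      have hcard : ((Finset.range (k + n)).image y).card < o.card := by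
        refine lt_of_le_of_lt Finset.card_image_le ?_
        rw [Finset.card_range, octad_card ho]; omega
      obtain ⟨z, hz, hz'⟩ := Finset.exists_mem_notMem_of_card_lt_card hcard
      refine ⟨fun i => if i = k + n then z else y i, fun i hi => ?_, fun i hi => ?_, fun i hi j hj => ?_⟩
      · simp only [if_neg (by omega : ¬ i = k + n)]; exact h1 i hi
      · dsimp only
        split_ifs with h
        · exact hz
        · exact h2 i (by omega)
      · dsimp only
        rw [if_neg (by omega : ¬ j = k + n)]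
        split_ifs with h
        · subst h
          rintro rfl
          exact hz' (Finset.mem_image.2 ⟨j, Finset.mem_range.2 hj, rfl⟩)
        · exact h3 i (by omega) j hj
  obtain ⟨y, h1, h2, h3⟩ := key (5 - k) (by omega)
  have h5 : k + (5 - k) = 5 := by omega
  rw [h5] at h2 h3
  obtain ⟨g, hg, h4⟩ := exists_to_base 5 le_rfl y h3
  refine ⟨g, hg, ?_, fun i hi => by rw [← h1 i hi, h4 i (by omega)]⟩
  apply octad_eq_of_inter (smul_mem_octads hg ho) oct0_mem
  have : S (bsMask 5) ⊆ g • o ∩ S oct0 := by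
    intro p hp
    rw [Finset.mem_inter]
    constructor
    · obtain ⟨i, hi, rfl⟩ := (mem_bsMask (by norm_num)).1 hp
      rw [← h4 i hi]; exact Finset.mem_smul_finset.2 ⟨_, h2 i hi, rfl⟩
    · have h6 : S (bsMask 5) ⊆ S oct0 := by
        rw [subset_S_iff (by decide +kernel)]; decide +kernel
      exact h6 hp
  calc 5 = (S (bsMask 5)).card := by rw [card_S]; decide +kernel
    _ ≤ _ := Finset.card_le_card this

/-- the frame of an octad with up to five of its points and one outside point -/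
theorem oct_frame' (k : ℕ) (hk : k ≤ 5) {o : Finset GolayPt} (ho : o ∈ octads) (x : ℕ → GolayPt)
    (hx : ∀ i < k, x i ∈ o) (hne : ∀ i < k, ∀ j < i, x i ≠ x j) {q : GolayPt} (hq : q ∉ o) :
    ∃ g ∈ M24, g • o = S oct0 ∧ (∀ i < k, g (x i) = B i) ∧ g q = B 6 := by
  obtain ⟨g, hg, h1, h2⟩ := oct_frame k hk ho x hx hne
  have h3 : g q ∈ S (orb 6) := by
    have e1 : S (orb 6) = (S oct0)ᶜ := by rw [orb6_eq, ← S_compl]; rfl
    rw [e1, Finset.mem_compl, ← h1]
    intro h
    obtain ⟨r, hr, h4⟩ := Finset.mem_smul_finset.1 h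
    rw [Equiv.Perm.smul_def] at h4
    rw [g.injective h4] at hr; exact hq hr
  obtain ⟨u, hu, h4⟩ := trans_step (by norm_num) h3
  have hu5 : u ∈ Hc 5 := mem_Hc.2 ⟨(mem_Hc.1 hu).1, fun j hj => (mem_Hc.1 hu).2 j (by omega)⟩
  have huM := (mem_Hc.1 hu).1
  refine ⟨u⁻¹ * g, M24.mul_mem (M24.inv_mem huM) hg, ?_, fun i hi => ?_, ?_⟩
  · rw [mul_smul, h1, inv_smul_eq_iff, fix_oct0 hu5]
  · rw [Equiv.Perm.mul_apply, h2 i hi, Equiv.Perm.inv_eq_iff_eq, (mem_Hc.1 hu).2 i (by omega)]
  · rw [Equiv.Perm.mul_apply, Equiv.Perm.inv_eq_iff_eq, h4]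

theorem coatom_conj {G X : Type*} [Group G] [MulAction G X] {a b : X} (h : ∃ g : G, g • a = b)
    (ha : IsCoatom (MulAction.stabilizer G a)) : IsCoatom (MulAction.stabilizer G b) := by
  obtain ⟨g, rfl⟩ := h
  rw [MulAction.stabilizer_smul_eq_stabilizer_map_conj]
  exact ((MulAut.conj g).mapSubgroup.isCoatom_iff _).2 ha

end Cfsg.Agent.H9
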