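import Cfsg.Agent.H9.OctStab
import Cfsg.Agent.H9.M24Orb
set_option autoImplicit false

/-! The binary permutation module of the group of the code. -/

namespace Cfsg.Agent.H9
open Cfsg
open scoped Pointwise

/-- the characteristic word of a set -/
def ch (A : Finset GolayPt) : GolayPt → ZMod 2 := fun p => if p ∈ A then 1 else 0

theorem zmod2_cases (a : ZMod 2) : a = 0 ∨ a = 1 := by revert a; decide

theorem mem_supp {w : GolayPt → ZMod 2} {p : GolayPt} : p ∈ support₂ w ↔ w p ≠ 0 := by simp [support₂]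

theorem ch_support (w : GolayPt → ZMod 2) : ch (support₂ w) = w := by
  funext p
  unfold ch
  rcases zmod2_cases (w p) with h | h
  · rw [if_neg (by rw [mem_supp]; exact fun hh => hh h), h]
  · rw [if_pos (by rw [mem_supp, h]; exact one_ne_zero), h]

theorem support_ch (A : Finset GolayPt) : support₂ (ch A) = A := by
  ext p
  rw [mem_supp]
  unfold ch
  split_ifs with h <;> simp [h]

theorem ch_mem {A : Finset GolayPt} : ch A ∈ golayCode ↔ A ∈ supports (golayCode : Set (GolayPt → ZMod 2)) := by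
  constructor
  · intro h
    exact ⟨ch A, h, support_ch A⟩
  · rintro ⟨w, hw, rfl⟩
    rw [ch_support]; exact hw

theorem ch_perm (A : Finset GolayPt) (σ : Equiv.Perm GolayPt) : (fun p => ch A (σ.symm p)) = ch (σ • A) := by
  funext p
  unfold ch
  have : σ.symm p ∈ A ↔ p ∈ σ • A := by
    rw [Finset.mem_smul_finset]
    constructor
    · intro h; exact ⟨_, h, σ.apply_symm_apply p⟩
    · rintro ⟨q, hq, rfl⟩; change σ.symm (σ q) ∈ A; rwa [σ.symm_apply_apply]
  simp only [this]

theorem ch_add (A B : Finset GolayPt) : ch A + ch B = ch (symmDiff A B) := by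
  funext p
  rw [Pi.add_apply]
  unfold ch
  by_cases h1 : p ∈ A <;> by_cases h2 : p ∈ B <;> simp [h1, h2, Finset.mem_symmDiff] <;> decide

theorem ch_univ : ch Finset.univ = fun _ => 1 := by
  funext p; simp [ch]
theorem ch_empty : ch ∅ = 0 := by
  funext p; simp [ch]

theorem ch_inj {A B : Finset GolayPt} (h : ch A = ch B) : A = B := by
  rw [← support_ch A, h, support_ch]

def PInv (W : Submodule (ZMod 2) (GolayPt → ZMod 2)) : Prop := ∀ σ ∈ M24, ∀ w ∈ W, (fun p => w (σ.symm p)) ∈ W

theorem PInv.ch {W : Submodule (ZMod 2) (GolayPt → ZMod 2)} (h : PInv W) {σ : Equiv.Perm GolayPt} (hσ : σ ∈ M24) {A : Finset GolayPt}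
    (hA : ch A ∈ W) : H9.ch (σ • A) ∈ W := by
  rw [← ch_perm]
  exact h σ hσ _ hA

theorem ch_sd {W : Submodule (ZMod 2) (GolayPt → ZMod 2)} {A B : Finset GolayPt} (hA : ch A ∈ W) (hB : ch B ∈ W) : ch (symmDiff A B) ∈ W := by
  rw [← ch_add]; exact W.add_mem hA hB

theorem code_sd {A B : Finset GolayPt} (hA : A ∈ supports (golayCode : Set (GolayPt → ZMod 2))) (hB : B ∈ supports (golayCode : Set (GolayPt → ZMod 2))) :
    symmDiff A B ∈ supports (golayCode : Set (GolayPt → ZMod 2)) := ch_mem.1 (ch_sd (ch_mem.2 hA) (ch_mem.2 hB))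

theorem supp_card {A : Finset GolayPt} (hA : A ∈ supports (golayCode : Set (GolayPt → ZMod 2))) :
    A.card = 0 ∨ A.card = 8 ∨ A.card = 12 ∨ A.card = 16 ∨ A.card = 24 := by
  obtain ⟨k, hk, rfl⟩ := mem_supports_iff.1 hA
  rw [card_S]
  rcases cw_weight (isCW_iff.2 ⟨k, hk, rfl⟩) with h | h
  · left; rw [h]; exact pc_zero
  · exact Or.inr h

theorem supp_univ : (Finset.univ : Finset GolayPt) ∈ supports (golayCode : Set (GolayPt → ZMod 2)) := by
  rw [← ch_mem, ch_univ]
  have := one_mem
  rw [← one_eq_wd] at this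
  exact this

theorem supp_compl {A : Finset GolayPt} (hA : A ∈ supports (golayCode : Set (GolayPt → ZMod 2))) : Aᶜ ∈ supports (golayCode : Set (GolayPt → ZMod 2)) := by
  have : Aᶜ = symmDiff A Finset.univ := by
    ext p; simp [Finset.mem_symmDiff]
  rw [this]
  exact code_sd hA supp_univ

def gmA : ℕ := 3416079
def gmB : ℕ := 3216208
def gmC : ℕ := 11472927
def gmD : ℕ := 11150144
def gmE : ℕ := 4845570
def gmF : ℕ := 13348909
theorem gmA_mem : S gmA ∈ octads := S_mem_octads (by decide +kernel) (by decide +kernel)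
theorem gmB_mem : S gmB ∈ octads := S_mem_octads (by decide +kernel) (by decide +kernel)
theorem gmC_mem : S gmC ∈ dodecads := S_mem_dodecads (by decide +kernel) (by decide +kernel)
theorem gmD_mem : S gmD ∈ octads := S_mem_octads (by decide +kernel) (by decide +kernel)
theorem gmAB : gmA ^^^ gmB = dod0 := by decide +kernel
theorem gmCD : dod0 ^^^ gmC = gmD := by decide +kernel

theorem oct_all {W : Submodule (ZMod 2) (GolayPt → ZMod 2)} (h : PInv W) {O : Finset GolayPt} (hO : O ∈ octads) (hW : ch O ∈ W) :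
    ∀ O' ∈ octads, ch O' ∈ W := by
  intro O' hO'
  obtain ⟨σ, hσ, rfl⟩ := octad_trans hO hO'
  exact h.ch hσ hW

theorem dod_all {W : Submodule (ZMod 2) (GolayPt → ZMod 2)} (h : PInv W) {O : Finset GolayPt} (hO : O ∈ dodecads) (hW : ch O ∈ W) :
    ∀ O' ∈ dodecads, ch O' ∈ W := by
  intro O' hO'
  obtain ⟨σ, hσ, rfl⟩ := dodecad_trans hO hO'
  exact h.ch hσ hW

theorem code_of_both {W : Submodule (ZMod 2) (GolayPt → ZMod 2)} (h8 : ∀ O ∈ octads, ch O ∈ W) (h12 : ∀ D ∈ dodecads, ch D ∈ W) : golayCode ≤ W := by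
  have h1 : ch Finset.univ ∈ W := by
    have hc : (S dod0)ᶜ ∈ dodecads := ⟨supp_compl dod0_mem.1, by rw [Finset.card_compl, card_pt, dodecad_card dod0_mem]⟩
    have := ch_sd (h12 _ dod0_mem) (h12 _ hc)
    have e : symmDiff (S dod0) (S dod0)ᶜ = Finset.univ := by
      ext p; simp only [Finset.mem_symmDiff, Finset.mem_compl, Finset.mem_univ]; tauto
    rwa [e] at this
  intro w hw
  rw [← ch_support w] at hw ⊢
  have hs := ch_mem.1 hw
  rcases supp_card hs with h | h | h | h | h
  · rw [Finset.card_eq_zero.1 h, ch_empty]; exact W.zero_mem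
  · exact h8 _ ⟨hs, h⟩
  · exact h12 _ ⟨hs, h⟩
  · have hc : (support₂ w)ᶜ ∈ octads := ⟨supp_compl hs, by rw [Finset.card_compl, card_pt, h]⟩
    have := ch_sd (h8 _ hc) h1
    have e : symmDiff (support₂ w)ᶜ Finset.univ = support₂ w := by
      ext p; simp [Finset.mem_symmDiff]
    rwa [e] at this
  · have e : support₂ w = Finset.univ := Finset.eq_univ_of_card _ (by rw [h, card_pt])
    rw [e]; exact h1

theorem code_of_oct {W : Submodule (ZMod 2) (GolayPt → ZMod 2)} (h : PInv W) {O : Finset GolayPt} (hO : O ∈ octads) (hW : ch O ∈ W) : golayCode ≤ W := by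
  have h8 := oct_all h hO hW
  refine code_of_both h8 (dod_all h dod0_mem ?_)
  rw [← gmAB, S_xor]
  exact ch_sd (h8 _ gmA_mem) (h8 _ gmB_mem)

theorem code_of_dod {W : Submodule (ZMod 2) (GolayPt → ZMod 2)} (h : PInv W) {O : Finset GolayPt} (hO : O ∈ dodecads) (hW : ch O ∈ W) : golayCode ≤ W := by
  have h12 := dod_all h hO hW
  refine code_of_oct h gmD_mem ?_
  rw [← gmCD, S_xor]
  exact ch_sd (h12 _ dod0_mem) (h12 _ gmC_mem)

theorem smul_compl' (σ : Equiv.Perm GolayPt) (A : Finset GolayPt) : σ • Aᶜ = (σ • A)ᶜ := by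
  ext p
  rw [Finset.mem_compl, Finset.mem_smul_finset, Finset.mem_smul_finset]
  constructor
  · rintro ⟨q, hq, rfl⟩ ⟨q', hq', h⟩
    rw [MulAction.injective σ h] at hq'
    exact Finset.mem_compl.1 hq hq'
  · intro h
    exact ⟨σ⁻¹ • p, Finset.mem_compl.2 fun hh => h ⟨_, hh, smul_inv_smul σ p⟩, smul_inv_smul σ p⟩

/-- an invariant subspace containing a proper code word contains the code -/
theorem code_le {W : Submodule (ZMod 2) (GolayPt → ZMod 2)} (h : PInv W) {A : Finset GolayPt} (hA : A ∈ supports (golayCode : Set (GolayPt → ZMod 2)))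
    (h0 : A ≠ ∅) (h1 : A ≠ Finset.univ) (hW : ch A ∈ W) : golayCode ≤ W := by
  rcases supp_card hA with hc | hc | hc | hc | hc
  · exact absurd (Finset.card_eq_zero.1 hc) h0
  · exact code_of_oct h ⟨hA, hc⟩ hW
  · exact code_of_dod h ⟨hA, hc⟩ hW
  · have hc' : Aᶜ ∈ octads := ⟨supp_compl hA, by rw [Finset.card_compl, card_pt, hc]⟩
    have key : ∀ O ∈ octads, ch Oᶜ ∈ W := by
      intro O hO
      obtain ⟨σ, hσ, hσO⟩ := octad_trans hc' hO
      have := h.ch hσ hW
      rw [← hσO, ← smul_compl', compl_compl]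
      exact this
    refine code_of_dod h dod0_mem ?_
    have h2 := ch_sd (key _ gmA_mem) (key _ gmB_mem)
    have e : symmDiff (S gmA)ᶜ (S gmB)ᶜ = S dod0 := by
      rw [← gmAB, S_xor]
      ext p; simp only [Finset.mem_symmDiff, Finset.mem_compl]; tauto
    rwa [e] at h2
  · exact absurd (Finset.eq_univ_of_card _ (by rw [hc, card_pt])) h1

/-- invariant subspaces of the code -/
theorem inv_sub {W : Submodule (ZMod 2) (GolayPt → ZMod 2)} (h : PInv W) (hle : W ≤ golayCode) :
    W = ⊥ ∨ W = Submodule.span (ZMod 2) {fun _ => (1 : ZMod 2)} ∨ W = golayCode := by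
  by_cases hh : ∃ A : Finset GolayPt, A ≠ ∅ ∧ A ≠ Finset.univ ∧ ch A ∈ W
  · obtain ⟨A, h0, h1, hA⟩ := hh
    exact Or.inr (Or.inr (le_antisymm hle (code_le h (ch_mem.1 (hle hA)) h0 h1 hA)))
  · have hh : ∀ A : Finset GolayPt, A ≠ ∅ → A ≠ Finset.univ → ch A ∉ W := fun A h0 h1 hA => hh ⟨A, h0, h1, hA⟩
    have key : ∀ w ∈ W, w = 0 ∨ w = fun _ => 1 := by
      intro w hw
      rw [← ch_support w] at hw ⊢
      by_cases h0 : support₂ w = ∅
      · left; rw [h0, ch_empty]
      · by_cases h1 : support₂ w = Finset.univ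
        · right; rw [h1, ch_univ]
        · exact absurd hw (hh (support₂ w) h0 h1)
    by_cases h1 : (fun _ => (1 : ZMod 2)) ∈ W
    · right; left
      apply le_antisymm
      · intro w hw
        rcases key w hw with h | h
        · rw [h]; exact Submodule.zero_mem _
        · rw [h]; exact Submodule.subset_span rfl
      · rw [Submodule.span_le]
        rintro _ rfl
        exact h1
    · left
      rw [Submodule.eq_bot_iff]
      intro w hw
      rcases key w hw with h | h
      · exact h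
      · rw [h] at hw; exact absurd hw h1

/-! ### the whole space -/

theorem small_rep : ∀ (n : ℕ) (A : Finset GolayPt), A.card = n → ∃ B : Finset GolayPt, B.card ≤ 4 ∧ symmDiff A B ∈ supports (golayCode : Set (GolayPt → ZMod 2)) := by
  intro n
  induction n using Nat.strong_induction_on with
  | _ n ih =>
    intro A hA
    by_cases h4 : n ≤ 4
    · refine ⟨A, by omega, ?_⟩
      rw [symmDiff_self, ← ch_mem]
      exact (ch_empty ▸ golayCode.zero_mem : ch ∅ ∈ golayCode)
    · obtain ⟨s, hs, hs5⟩ := Finset.exists_subset_card_eq (s := A) (n := 5) (by omega)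
      obtain ⟨O, hO, hsO⟩ := octad_through hs5
      have h1 : s ⊆ A ∩ O := Finset.subset_inter hs hsO
      have h2 := Finset.card_le_card h1
      have h3 : (symmDiff A O).card + 2 * (A ∩ O).card = A.card + O.card := by
        have e1 : symmDiff A O = (A \ O) ∪ (O \ A) := rfl
        rw [e1, Finset.card_union_of_disjoint (by
          rw [Finset.disjoint_left]; intro x hx hx'
          exact (Finset.mem_sdiff.1 hx).2 (Finset.mem_sdiff.1 hx').1)]
        have e2 := Finset.card_sdiff_add_card_inter A O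
        have e3 := Finset.card_sdiff_add_card_inter O A
        rw [Finset.inter_comm O A] at e3
        omega
      have h8 := octad_card hO
      obtain ⟨B, hB, hB'⟩ := ih (symmDiff A O).card (by omega) (symmDiff A O) rfl
      refine ⟨B, hB, ?_⟩
      have e : symmDiff A B = symmDiff (symmDiff (symmDiff A O) B) O := by
        rw [symmDiff_assoc, symmDiff_comm B O, ← symmDiff_assoc, symmDiff_assoc A O O, symmDiff_self, symmDiff_bot]
      rw [e]
      exact code_sd hB' hO.1

/-- the transitivity used below -/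
theorem move_pt {A : Finset GolayPt} (hA : A.card ≤ 4) {a b : GolayPt} (ha : a ∉ A) (hb : b ∉ A) : ∃ σ ∈ M24, σ a = b ∧ ∀ p ∈ A, σ p = p := by
  obtain ⟨l, hl, hlA⟩ : ∃ l : List GolayPt, l.Nodup ∧ l.toFinset = A := ⟨A.toList, A.nodup_toList, A.toList_toFinset⟩
  have hlen : l.length = A.card := by rw [← hlA, List.toFinset_card_of_nodup hl]
  have hm : ∀ p, p ∈ l ↔ p ∈ A := fun p => by rw [← hlA, List.mem_toFinset]
  obtain ⟨σ, hσ, hσi⟩ := m24_transOn (a :: l) (b :: l) (List.nodup_cons.2 ⟨fun h => ha ((hm a).1 h), hl⟩) (List.nodup_cons.2 ⟨fun h => hb ((hm b).1 h), hl⟩)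
    rfl (by rw [List.length_cons]; omega) (fun _ _ => Finset.mem_univ _) (fun _ _ => Finset.mem_univ _)
  rw [List.map_cons, List.cons.injEq] at hσi
  refine ⟨σ, hσ, hσi.1, fun p hp => ?_⟩
  have h2 : ∀ (l : List GolayPt), List.map (⇑σ) l = l → ∀ p ∈ l, σ p = p := by
    intro l
    induction l with
    | nil => intro _ p hp; simp at hp
    | cons x xs ih =>
      intro h p hp
      rw [List.map_cons, List.cons.injEq] at h
      rcases List.mem_cons.1 hp with rfl | hp
      · exact h.1
      · exact ih h.2 p hp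
  exact h2 l hσi.2 p ((hm p).2 hp)

theorem smul_sd (σ : Equiv.Perm GolayPt) (A B : Finset GolayPt) : σ • symmDiff A B = symmDiff (σ • A) (σ • B) := Finset.smul_finset_symmDiff

theorem M24_supp {σ : Equiv.Perm GolayPt} (hσ : σ ∈ M24) {A : Finset GolayPt} (hA : A ∈ supports (golayCode : Set (GolayPt → ZMod 2))) :
    σ • A ∈ supports (golayCode : Set (GolayPt → ZMod 2)) := by
  have := smul_mem_weight hσ (s := A) (n := A.card) ⟨hA, rfl⟩
  exact this.1

end Cfsg.Agent.H9
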