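import Mathlib
set_option autoImplicit false

/-! Kernel-friendly primitives: recursions written with explicit recursors over raw `Nat` operations. -/

namespace Cfsg.Agent.H9

/-- `f i = true` for all `lo ≤ i < lo + 2^k` (binary splitting). -/
noncomputable def allR (f : ℕ → Bool) (k : ℕ) : ℕ → Bool :=
  @Nat.rec (fun _ => ℕ → Bool) f
    (fun k ih lo => @Bool.rec (fun _ => Bool) false (ih (Nat.add lo (Nat.pow 2 k))) (ih lo)) k

theorem brec_false (b c : Bool) : (@Bool.rec (fun _ => Bool) false c b = true) ↔ (b = true ∧ c = true) := by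
  cases b <;> simp

theorem brec_true (b c : Bool) : (@Bool.rec (fun _ => Bool) c true b = true) ↔ (b = true ∨ c = true) := by
  cases b <;> simp

theorem allR_spec {f : ℕ → Bool} {k lo : ℕ} (h : allR f k lo = true) :
    ∀ i, lo ≤ i → i < lo + 2 ^ k → f i = true := by
  induction k generalizing lo with
  | zero =>
    intro i h1 h2
    have : i = lo := by simp at h2; omega
    subst this; exact h
  | succ k ih =>
    have h' := (brec_false _ _).1 (show @Bool.rec (fun _ => Bool) false
      (allR f k (Nat.add lo (Nat.pow 2 k))) (allR f k lo) = true from h)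
    intro i h1 h2
    rcases lt_or_ge i (lo + 2 ^ k) with h3 | h3
    · exact ih h'.1 i h1 h3
    · refine ih h'.2 i h3 ?_
      have : (2:ℕ) ^ (k+1) = 2 ^ k + 2 ^ k := by ring
      have h4 : Nat.add lo (Nat.pow 2 k) = lo + 2 ^ k := rfl
      omega

/-- bounded all: `f i = true` for all `i < n`, where `n ≤ 2^k`. -/
noncomputable def allB (f : ℕ → Bool) (k n : ℕ) : Bool :=
  allR (fun i => @Bool.rec (fun _ => Bool) (f i) true (Nat.ble n i)) k 0

theorem allB_spec {f : ℕ → Bool} {k n : ℕ} (h : allB f k n = true) (hn : n ≤ 2 ^ k) :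
    ∀ i, i < n → f i = true := by
  intro i hi
  have := allR_spec h i (Nat.zero_le _) (by omega)
  rcases (brec_true _ _).1 this with h1 | h1
  · have := Nat.le_of_ble_eq_true h1; omega
  · exact h1

/-- if-then-else on Bool kept lazy -/
noncomputable def kif (c : Bool) (t e : Bool) : Bool := @Bool.rec (fun _ => Bool) e t c

theorem kif_spec (c t e : Bool) : kif c t e = if c then t else e := by cases c <;> rfl

theorem kif_imp {c t : Bool} (h : kif c t true = true) (hc : c = true) : t = true := by
  subst hc; exact h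

/-- lazy `and` -/
noncomputable def band (a b : Bool) : Bool := @Bool.rec (fun _ => Bool) false b a

theorem band_iff {a b : Bool} : band a b = true ↔ (a = true ∧ b = true) := by
  cases a <;> simp [band]

/-- sum of `f i` over `lo ≤ i < lo + 2^k` -/
noncomputable def sumR (f : ℕ → ℕ) (k : ℕ) : ℕ → ℕ :=
  @Nat.rec (fun _ => ℕ → ℕ) f
    (fun k ih lo => Nat.add (ih lo) (ih (Nat.add lo (Nat.pow 2 k)))) k

theorem sumR_spec (f : ℕ → ℕ) (k lo : ℕ) : sumR f k lo = ∑ i ∈ Finset.Ico lo (lo + 2 ^ k), f i := by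
  induction k generalizing lo with
  | zero => simp [sumR]
  | succ k ih =>
    have h : sumR f (k+1) lo = sumR f k lo + sumR f k (lo + 2 ^ k) := rfl
    rw [h, ih, ih, pow_succ, mul_two, ← add_assoc]
    have := Nat.zero_le (2 ^ k)
    exact Finset.sum_Ico_consecutive _ (Nat.le_add_right _ _) (Nat.le_add_right _ _)

/-- lookup of 24-bit entries -/
def look24 (T c : ℕ) : ℕ := Nat.land (Nat.shiftRight T (Nat.mul c 24)) 16777215

/-- lookup of `w`-bit entries with mask `m = 2^w - 1`. -/
def lookW (w m T c : ℕ) : ℕ := Nat.land (Nat.shiftRight T (Nat.mul c w)) m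

theorem land_mask_lt (x n : ℕ) : Nat.land x (2 ^ n - 1) < 2 ^ n := by
  have : Nat.land x (2 ^ n - 1) = x % 2 ^ n := Nat.and_two_pow_sub_one_eq_mod x n
  rw [this]; exact Nat.mod_lt _ (by positivity)

theorem look24_lt (T c : ℕ) : look24 T c < 2 ^ 24 := land_mask_lt _ 24

/-- OR of `f i` for `i < n`. -/
noncomputable def orB (f : ℕ → ℕ) (n : ℕ) : ℕ :=
  @Nat.rec (fun _ => ℕ) 0 (fun i acc => Nat.lor acc (f i)) n

theorem testBit_orB (f : ℕ → ℕ) (n j : ℕ) : (orB f n).testBit j = true ↔ ∃ i < n, (f i).testBit j = true := by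
  induction n with
  | zero => simp [orB]
  | succ n ih =>
    have : orB f (n+1) = orB f n ||| f n := rfl
    rw [this, Nat.testBit_or, Bool.or_eq_true, ih]
    constructor
    · rintro (⟨i, h1, h2⟩ | h)
      · exact ⟨i, by omega, h2⟩
      · exact ⟨n, by omega, h⟩
    · rintro ⟨i, h1, h2⟩
      rcases Nat.lt_succ_iff_lt_or_eq.1 h1 with h | rfl
      · exact Or.inl ⟨i, h, h2⟩
      · exact Or.inr h2

/-- sum of `f i` for `i < n`. -/
noncomputable def sumB (f : ℕ → ℕ) (n : ℕ) : ℕ :=
  @Nat.rec (fun _ => ℕ) 0 (fun i acc => Nat.add acc (f i)) n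

theorem sumB_eq (f : ℕ → ℕ) (n : ℕ) : sumB f n = ∑ i ∈ Finset.range n, f i := by
  induction n with
  | zero => rfl
  | succ n ih => rw [Finset.sum_range_succ, ← ih]; rfl

/-- small linear bounded all -/
noncomputable def allN (f : ℕ → Bool) (n : ℕ) : Bool :=
  @Nat.rec (fun _ => Bool) true (fun i acc => @Bool.rec (fun _ => Bool) false acc (f i)) n

theorem allN_iff (f : ℕ → Bool) (n : ℕ) : allN f n = true ↔ ∀ i, i < n → f i = true := by
  induction n with
  | zero => simp [allN]
  | succ n ih =>
    have : allN f (n+1) = @Bool.rec (fun _ => Bool) false (allN f n) (f n) := rfl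
    rw [this, brec_false, ih]
    constructor
    · rintro ⟨h1, h2⟩ i hi
      rcases Nat.lt_succ_iff_lt_or_eq.1 hi with h | rfl
      · exact h2 i h
      · exact h1
    · intro h; exact ⟨h n (by omega), fun i hi => h i (by omega)⟩

end Cfsg.Agent.H9
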