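import Cfsg.Prelude.Def_SporadicCombinatorics
import Cfsg.Prelude.Def_Spor_Mathieu
import Cfsg.Agent.H9.Kern
set_option autoImplicit false

/-! The length-24 code as bit masks. -/

namespace Cfsg.Agent.H9
open Cfsg
open scoped Pointwise

/-- index of a point -/
def idx : GolayPt → ℕ
  | none => 23
  | some x => ZMod.val x

/-- point of an index -/
def pt (i : ℕ) : GolayPt := if h : i < 23 then some (show ZMod 23 from (⟨i, h⟩ : Fin 23)) else none

theorem idx_lt (p : GolayPt) : idx p < 24 := by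
  cases p with
  | none => simp [idx]
  | some x => have := ZMod.val_lt x; simp only [idx]; omega

theorem idx_pt {i : ℕ} (hi : i < 24) : idx (pt i) = i := by
  unfold pt
  split_ifs with h
  · rfl
  · simp only [idx]; omega

theorem pt_idx (p : GolayPt) : pt (idx p) = p := by
  cases p with
  | none => simp [idx, pt]
  | some x =>
    have h : ZMod.val x < 23 := ZMod.val_lt x
    show (if h : ZMod.val x < 23 then some (show ZMod 23 from (⟨ZMod.val x, h⟩ : Fin 23)) else none) = some x
    rw [dif_pos h]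
    exact congrArg some (Fin.ext rfl)

theorem idx_inj {p q : GolayPt} (h : idx p = idx q) : p = q := by
  rw [← pt_idx p, ← pt_idx q, h]

theorem pt_inj {i j : ℕ} (hi : i < 24) (hj : j < 24) (h : pt i = pt j) : i = j := by
  rw [← idx_pt hi, ← idx_pt hj, h]

/-- the 24 points and `Fin 24` -/
def e24 : GolayPt ≃ Fin 24 where
  toFun p := ⟨idx p, idx_lt p⟩
  invFun i := pt i
  left_inv p := pt_idx p
  right_inv i := Fin.ext (idx_pt i.2)

theorem card_pt : Fintype.card GolayPt = 24 := by
  rw [Fintype.card_congr e24, Fintype.card_fin]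

theorem forall_pt {P : GolayPt → Prop} : (∀ p, P p) ↔ ∀ i < 24, P (pt i) := by
  constructor
  · intro h i _; exact h _
  · intro h p; have := h (idx p) (idx_lt p); rwa [pt_idx] at this

/-- the set of points given by a mask -/
def S (m : ℕ) : Finset GolayPt := Finset.univ.filter fun p => m.testBit (idx p) = true

theorem mem_S {m : ℕ} {p : GolayPt} : p ∈ S m ↔ m.testBit (idx p) = true := by simp [S]

theorem mem_S_pt {m i : ℕ} (hi : i < 24) : pt i ∈ S m ↔ m.testBit i = true := by rw [mem_S, idx_pt hi]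

theorem S_inj {m n : ℕ} (hm : m < 2 ^ 24) (hn : n < 2 ^ 24) (h : S m = S n) : m = n := by
  apply Nat.eq_of_testBit_eq
  intro i
  by_cases hi : i < 24
  · have : pt i ∈ S m ↔ pt i ∈ S n := by rw [h]
    rw [mem_S_pt hi, mem_S_pt hi] at this
    cases h1 : m.testBit i <;> cases h2 : n.testBit i <;> simp_all
  · have h1 : m < 2 ^ i := lt_of_lt_of_le hm (Nat.pow_le_pow_right (by norm_num) (by omega))
    have h2 : n < 2 ^ i := lt_of_lt_of_le hn (Nat.pow_le_pow_right (by norm_num) (by omega))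
    rw [Nat.testBit_lt_two_pow h1, Nat.testBit_lt_two_pow h2]

theorem S_and (m n : ℕ) : S (m &&& n) = S m ∩ S n := by
  ext p; simp [mem_S, Nat.testBit_and]

theorem S_or (m n : ℕ) : S (m ||| n) = S m ∪ S n := by
  ext p; simp [mem_S, Nat.testBit_or]

theorem S_xor (m n : ℕ) : S (m ^^^ n) = symmDiff (S m) (S n) := by
  ext p; simp only [mem_S, Nat.testBit_xor, Finset.mem_symmDiff]
  cases m.testBit (idx p) <;> cases n.testBit (idx p) <;> simp

theorem S_zero : S 0 = ∅ := by ext p; simp [mem_S]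

theorem testBit_full {i : ℕ} (hi : i < 24) : (16777215 : ℕ).testBit i = true := by
  have : (16777215 : ℕ) = 2 ^ 24 - 1 := by norm_num
  rw [this, Nat.testBit_two_pow_sub_one]; simpa using hi

theorem S_full : S 16777215 = Finset.univ := by
  ext p; simp [mem_S, testBit_full (idx_lt p)]

theorem S_compl (m : ℕ) : S (m ^^^ 16777215) = (S m)ᶜ := by
  ext p
  simp only [mem_S, Nat.testBit_xor, Finset.mem_compl, testBit_full (idx_lt p)]
  cases m.testBit (idx p) <;> simp

theorem subset_S_iff {m n : ℕ} (hm : m < 2 ^ 24) : S m ⊆ S n ↔ m &&& n = m := by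
  rw [← Finset.inter_eq_left, ← S_and]
  refine ⟨fun h => S_inj (lt_of_le_of_lt Nat.and_le_left hm) hm h, fun h => by rw [h]⟩

theorem disjoint_S_iff {m n : ℕ} (hm : m < 2 ^ 24) : Disjoint (S m) (S n) ↔ m &&& n = 0 := by
  rw [Finset.disjoint_iff_inter_eq_empty, ← S_and, ← S_zero]
  refine ⟨fun h => S_inj (lt_of_le_of_lt Nat.and_le_left hm) (by norm_num) h, fun h => by rw [h]⟩

theorem S_two_pow {i : ℕ} (hi : i < 24) : S (2 ^ i) = {pt i} := by
  ext p
  simp only [mem_S, Finset.mem_singleton, Nat.testBit_two_pow, decide_eq_true_eq]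
  constructor
  · intro h; rw [h, pt_idx]
  · rintro rfl; rw [idx_pt hi]

/-- mask of a set of points -/
noncomputable def mk (s : Finset GolayPt) : ℕ := orB (fun i => if pt i ∈ s then 2 ^ i else 0) 24

theorem testBit_mk (s : Finset GolayPt) (j : ℕ) : (mk s).testBit j = true ↔ j < 24 ∧ pt j ∈ s := by
  rw [mk, testBit_orB]
  constructor
  · rintro ⟨i, h1, h2⟩
    split_ifs at h2 with h3
    · simp only [Nat.testBit_two_pow, decide_eq_true_eq] at h2; subst h2; exact ⟨h1, h3⟩
    · simp at h2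
  · rintro ⟨h1, h2⟩; exact ⟨j, h1, by simp [h2]⟩

theorem mk_lt (s : Finset GolayPt) : mk s < 2 ^ 24 := by
  apply Nat.lt_pow_two_of_testBit
  intro i hi
  by_contra h
  have : (mk s).testBit i = true := by simpa using h
  rw [testBit_mk] at this; omega

theorem S_mk (s : Finset GolayPt) : S (mk s) = s := by
  ext p
  rw [mem_S, testBit_mk, pt_idx]
  exact ⟨fun h => h.2, fun h => ⟨idx_lt p, h⟩⟩

theorem mk_S {m : ℕ} (hm : m < 2 ^ 24) : mk (S m) = m := S_inj (mk_lt _) hm (S_mk _)

theorem exists_mask (s : Finset GolayPt) : ∃ m < 2 ^ 24, s = S m := ⟨mk s, mk_lt s, (S_mk s).symm⟩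

/-! ### popcount -/

/-- bit -/
def bt (m i : ℕ) : ℕ := Nat.land (Nat.shiftRight m i) 1

theorem bt_eq (m i : ℕ) : bt m i = (m.testBit i).toNat := by
  have : bt m i = (m >>> i) % 2 := Nat.and_two_pow_sub_one_eq_mod (m >>> i) 1
  rw [this, Nat.testBit_eq_decide_div_mod_eq, Nat.shiftRight_eq_div_pow]
  rcases Nat.mod_two_eq_zero_or_one (m / 2 ^ i) with h | h <;> simp [h]

theorem card_S_sum (m : ℕ) : (S m).card = ∑ i ∈ Finset.range 24, bt m i := by
  rw [S, Finset.card_filter, ← Fin.sum_univ_eq_sum_range]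
  rw [← Equiv.sum_comp e24.symm]
  apply Finset.sum_congr rfl
  intro i _
  have : idx (e24.symm i) = i := idx_pt i.2
  rw [this, bt_eq]
  cases m.testBit (i : ℕ) <;> simp

/-- packed popcount table of 6-bit numbers -/
def pcTab : ℕ := 0x6554544354434332544343324332322154434332433232214332322132212110

/-- popcount (for masks below `2^24`) -/
def pc (m : ℕ) : ℕ :=
  Nat.add
    (Nat.add (lookW 4 15 pcTab (Nat.land m 63)) (lookW 4 15 pcTab (Nat.land (Nat.shiftRight m 6) 63)))
    (Nat.add (lookW 4 15 pcTab (Nat.land (Nat.shiftRight m 12) 63)) (lookW 4 15 pcTab (Nat.land (Nat.shiftRight m 18) 63)))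

theorem pcTab_ok : allN (fun c => Nat.beq (lookW 4 15 pcTab c) (sumB (fun i => bt c i) 6)) 64 = true := by
  decide +kernel

theorem land63 (x : ℕ) : Nat.land x 63 = x % 64 := Nat.and_two_pow_sub_one_eq_mod x 6

theorem bt_shift_land (m s i : ℕ) (hi : i < 6) : bt (Nat.land (Nat.shiftRight m s) 63) i = bt m (s + i) := by
  rw [bt_eq, bt_eq, land63]
  have h1 : Nat.shiftRight m s = m >>> s := rfl
  rw [h1]
  have : (64 : ℕ) = 2 ^ 6 := by norm_num
  rw [this, Nat.testBit_mod_two_pow, Nat.testBit_shiftRight]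
  simp [hi]

theorem pcTab_spec (m s : ℕ) : lookW 4 15 pcTab (Nat.land (Nat.shiftRight m s) 63) =
    ∑ i ∈ Finset.range 6, bt m (s + i) := by
  have h := (allN_iff _ _).1 pcTab_ok (Nat.land (Nat.shiftRight m s) 63)
    (by rw [land63]; exact Nat.mod_lt _ (by norm_num))
  rw [Nat.eq_of_beq_eq_true h, sumB_eq]
  apply Finset.sum_congr rfl
  intro i hi
  exact bt_shift_land m s i (Finset.mem_range.1 hi)

theorem pc_eq_sum (m : ℕ) : pc m = ∑ i ∈ Finset.range 24, bt m i := by
  have h0 := pcTab_spec m 0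
  have h0' : Nat.shiftRight m 0 = m := rfl
  rw [h0'] at h0
  have h1 := pcTab_spec m 6
  have h2 := pcTab_spec m 12
  have h3 := pcTab_spec m 18
  have : pc m = lookW 4 15 pcTab (Nat.land m 63) + lookW 4 15 pcTab (Nat.land (Nat.shiftRight m 6) 63)
    + (lookW 4 15 pcTab (Nat.land (Nat.shiftRight m 12) 63) + lookW 4 15 pcTab (Nat.land (Nat.shiftRight m 18) 63)) := rfl
  rw [this, h0, h1, h2, h3]
  simp only [Finset.sum_range_succ, Finset.sum_range_zero]
  ring_nf

theorem card_S (m : ℕ) : (S m).card = pc m := by rw [card_S_sum, pc_eq_sum]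

/-! ### words -/

/-- the word with a given mask -/
def wd (m : ℕ) : GolayPt → ZMod 2 := fun p => if m.testBit (idx p) = true then 1 else 0

theorem wd_xor (m n : ℕ) : wd (m ^^^ n) = wd m + wd n := by
  funext p
  simp only [wd, Nat.testBit_xor, Pi.add_apply]
  cases m.testBit (idx p) <;> cases n.testBit (idx p) <;> simp <;> decide

theorem wd_zero : wd 0 = 0 := by funext p; simp [wd]

theorem support_wd (m : ℕ) : support₂ (wd m) = S m := by
  ext p
  simp only [support₂, wd, mem_S, Finset.mem_filter, Finset.mem_univ, true_and]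
  by_cases h : m.testBit (idx p) = true
  · simp [h]
  · simp [h]

theorem wd_inj {m n : ℕ} (hm : m < 2 ^ 24) (hn : n < 2 ^ 24) (h : wd m = wd n) : m = n := by
  apply S_inj hm hn; rw [← support_wd, ← support_wd, h]

theorem support_inj {v w : GolayPt → ZMod 2} (h : support₂ v = support₂ w) : v = w := by
  funext p
  have : p ∈ support₂ v ↔ p ∈ support₂ w := by rw [h]
  simp only [support₂, Finset.mem_filter, Finset.mem_univ, true_and] at this
  generalize v p = a at *
  generalize w p = b at *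
  revert a b; decide

theorem exists_wd (w : GolayPt → ZMod 2) : ∃ m < 2 ^ 24, w = wd m := by
  refine ⟨mk (support₂ w), mk_lt _, support_inj ?_⟩
  rw [support_wd, S_mk]

theorem hammingNorm_wd (m : ℕ) : hammingNorm (wd m) = pc m := by
  rw [← card_S, ← support_wd]; rfl

/-- encoding tables -/
def encA : ℕ := 0x19703fde203e50803d97d03ccdc03b0a903a843039436038774037b010363eb035f9e034a3f03364a032ea00312d503082402f45102ecbb02d0ce02c56f02b91a02a1f0029d85028ec70272b2026a5802562d02438c023ff9022713021b66020af101f68401ee6e01d21b01c7ba01bbcf01a325019f50018c1201706701688d0154f8014159013d2c0125c60119b301034200ff3700e7dd00dba800ce0900b27c00aa960096e30085a10079d400613e005d4b0048ea00349f002c75001000000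
/-- encoding tables -/
def encB : ℕ := 0xe68fc00a4f80f85f40149f00db2ec037ee80c5fe40293e009dcdc0710d80831d406fdd00a06cc04cac80bebc40527c00575bc0bb9b80498b40a54b006afac0863a80742a4098ea002c19c0c0d98032c940de090011b8c0fd78800f6840e3a8000527c0e9e7801bf740f737003886c0d44680265640ca96007e65c092a58060b5408c750043c4c0af04805d1440b1d400b4f3c0583380aa234046e3008952c06592809782407b4200cfb1c0237180d161403da100f210c01ed080ecc040000000

/-- the code word (mask) with given low 12 bits -/
def enc (k : ℕ) : ℕ := Nat.xor (look24 encA (Nat.land k 63)) (look24 encB (Nat.land (Nat.shiftRight k 6) 63))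

theorem enc_lt (k : ℕ) : enc k < 2 ^ 24 := Nat.xor_lt_two_pow (look24_lt _ _) (look24_lt _ _)

theorem encA_lin : allR (fun i => Nat.beq (look24 encA (Nat.xor (Nat.land i 63) (Nat.shiftRight i 6)))
    (Nat.xor (look24 encA (Nat.land i 63)) (look24 encA (Nat.shiftRight i 6)))) 12 0 = true := by
  decide +kernel

theorem encB_lin : allR (fun i => Nat.beq (look24 encB (Nat.xor (Nat.land i 63) (Nat.shiftRight i 6)))
    (Nat.xor (look24 encB (Nat.land i 63)) (look24 encB (Nat.shiftRight i 6)))) 12 0 = true := by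
  decide +kernel

theorem lin_aux (T : ℕ) (h : allR (fun i => Nat.beq (look24 T (Nat.xor (Nat.land i 63) (Nat.shiftRight i 6)))
    (Nat.xor (look24 T (Nat.land i 63)) (look24 T (Nat.shiftRight i 6)))) 12 0 = true)
    (a b : ℕ) (ha : a < 64) (hb : b < 64) : look24 T (a ^^^ b) = look24 T a ^^^ look24 T b := by
  have h1 := allR_spec h (a + 64 * b) (Nat.zero_le _) (by omega)
  have h2 := Nat.eq_of_beq_eq_true h1
  have h3 : Nat.land (a + 64 * b) 63 = a := by rw [land63]; omega
  have h4 : Nat.shiftRight (a + 64 * b) 6 = b := by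
    have : Nat.shiftRight (a + 64 * b) 6 = (a + 64 * b) / 2 ^ 6 := Nat.shiftRight_eq_div_pow _ _
    rw [this]; omega
  rw [h3, h4] at h2
  exact h2

theorem mod64_xor (j k : ℕ) : (j ^^^ k) % 64 = (j % 64) ^^^ (k % 64) := by
  have : (64 : ℕ) = 2 ^ 6 := by norm_num
  rw [this]; exact Nat.xor_mod_two_pow

theorem enc_xor (j k : ℕ) : enc (j ^^^ k) = enc j ^^^ enc k := by
  have hA : ∀ x, Nat.land x 63 = x % 64 := land63
  have hS : ∀ x, Nat.shiftRight x 6 = x >>> 6 := fun _ => rfl
  have hX : ∀ x y, Nat.xor x y = x ^^^ y := fun _ _ => rfl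
  simp only [enc, hA, hS, hX, Nat.shiftRight_xor_distrib, mod64_xor]
  rw [lin_aux encA encA_lin _ _ (Nat.mod_lt _ (by norm_num)) (Nat.mod_lt _ (by norm_num)),
    lin_aux encB encB_lin _ _ (Nat.mod_lt _ (by norm_num)) (Nat.mod_lt _ (by norm_num))]
  ac_rfl

theorem enc_zero : enc 0 = 0 := by decide +kernel

theorem enc_low : allR (fun k => Nat.beq (Nat.land (enc k) 4095) k) 12 0 = true := by decide +kernel

theorem enc_mod {k : ℕ} (hk : k < 4096) : enc k % 4096 = k := by
  have h := Nat.eq_of_beq_eq_true (allR_spec enc_low k (Nat.zero_le _) (by simpa using hk))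
  have : Nat.land (enc k) 4095 = enc k % 4096 := Nat.and_two_pow_sub_one_eq_mod _ 12
  rw [← this, h]

theorem enc_inj {j k : ℕ} (hj : j < 4096) (hk : k < 4096) (h : enc j = enc k) : j = k := by
  rw [← enc_mod hj, ← enc_mod hk, h]

/-- membership test for masks -/
def isCW (m : ℕ) : Bool := Nat.beq (enc (Nat.land m 4095)) m

theorem isCW_iff {m : ℕ} : isCW m = true ↔ ∃ k < 4096, m = enc k := by
  have hl : Nat.land m 4095 = m % 4096 := Nat.and_two_pow_sub_one_eq_mod _ 12
  constructor
  · intro h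
    exact ⟨m % 4096, Nat.mod_lt _ (by norm_num), by rw [← hl]; exact (Nat.eq_of_beq_eq_true h).symm⟩
  · rintro ⟨k, hk, rfl⟩
    rw [isCW, hl, enc_mod hk]
    exact Nat.beq_refl _

/-! generators -/

/-- the packed masks of the 23 translates of the squares -/
def qrTab : ℕ := 0x4299af614cd770a66b7853357c299a3e14cd5f0a662f853357c2996be14c35f0a61af8534d7c2966be14335f0a19af854cd7c2266be15335f0299af814cd7c0a66be05335f

theorem sq_ok : ∀ x : ZMod 23, (∃ r : ZMod 23, x = r ^ 2) ↔ (340831 : ℕ).testBit (ZMod.val x) = true := by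
  decide +kernel

theorem qrTab_ok : ∀ t x : ZMod 23, (look24 qrTab (ZMod.val t)).testBit (ZMod.val x) =
    (340831 : ℕ).testBit (ZMod.val (x - t)) := by decide +kernel

theorem qrTab_hi : ∀ t : ZMod 23, (look24 qrTab (ZMod.val t)).testBit 23 = false := by decide +kernel

theorem qrWord_eq (t : ZMod 23) : qrWord t = wd (look24 qrTab (ZMod.val t)) := by
  funext p
  cases p with
  | none => simp [qrWord, wd, idx, qrTab_hi]
  | some x =>
    have h1 : (∃ r : ZMod 23, x = r ^ 2 + t) ↔ (∃ r : ZMod 23, x - t = r ^ 2) :=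
      exists_congr fun r => by constructor <;> intro h <;> linear_combination h
    have h2 := sq_ok (x - t)
    have h3 : (look24 qrTab (ZMod.val t)).testBit (idx (some x)) = true ↔ ∃ r : ZMod 23, x = r ^ 2 + t := by
      rw [h1, h2, ← qrTab_ok]; rfl
    show (if ∃ r : ZMod 23, x = r ^ 2 + t then (1 : ZMod 2) else 0) =
      if (look24 qrTab (ZMod.val t)).testBit (idx (some x)) = true then 1 else 0
    by_cases h : ∃ r : ZMod 23, x = r ^ 2 + t
    · rw [if_pos h, if_pos (h3.2 h)]
    · rw [if_neg h, if_neg (fun h' => h (h3.1 h'))]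

theorem one_eq_wd : (1 : GolayPt → ZMod 2) = wd 16777215 := by
  funext p; simp [wd, testBit_full (idx_lt p)]

/-- the twelve basis words as sums of translates (bit 23: all-ones word) -/
def combTab : ℕ := 0x8006258006630000650005430007d08005cd8007978006ba0005788004990001188006a9

/-- xor of the generator masks selected by `c` -/
noncomputable def combX (c : ℕ) : ℕ :=
  @Nat.rec (fun _ => ℕ) (Nat.mul 16777215 (bt c 23)) (fun i acc => Nat.xor acc (Nat.mul (look24 qrTab i) (bt c i))) 23

theorem comb_ok : allN (fun i => Nat.beq (combX (look24 combTab i)) (enc (Nat.pow 2 i))) 12 = true := by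
  decide +kernel

theorem gen_mem : allN (fun i => isCW (look24 qrTab i)) 23 = true := by decide +kernel

theorem one_memCW : isCW 16777215 = true := by decide +kernel

theorem mul_bt_mem (C : Submodule (ZMod 2) (GolayPt → ZMod 2)) (m c i : ℕ) (h : wd m ∈ C) :
    wd (Nat.mul m (bt c i)) ∈ C := by
  rw [bt_eq]
  cases c.testBit i
  · show wd (m * 0) ∈ C
    rw [mul_zero, wd_zero]; exact C.zero_mem
  · show wd (m * 1) ∈ C
    rw [mul_one]; exact h

theorem qr_mem (t : ZMod 23) : wd (look24 qrTab (ZMod.val t)) ∈ golayCode := by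
  rw [← qrWord_eq]; exact Submodule.subset_span (Or.inl ⟨t, rfl⟩)

theorem qr_mem' {i : ℕ} (hi : i < 23) : wd (look24 qrTab i) ∈ golayCode := by
  have := qr_mem (i : ZMod 23)
  rwa [ZMod.val_natCast_of_lt hi] at this

theorem one_mem : wd 16777215 ∈ golayCode := by
  rw [← one_eq_wd]; exact Submodule.subset_span (Or.inr rfl)

theorem combX_mem (c : ℕ) : wd (combX c) ∈ golayCode := by
  have : ∀ n ≤ 23, wd (@Nat.rec (fun _ => ℕ) (Nat.mul 16777215 (bt c 23))
      (fun i acc => Nat.xor acc (Nat.mul (look24 qrTab i) (bt c i))) n) ∈ golayCode := by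
    intro n
    induction n with
    | zero => intro _; exact mul_bt_mem _ _ _ _ one_mem
    | succ n ih =>
      intro hn
      have h1 := ih (by omega)
      have h2 := mul_bt_mem golayCode (look24 qrTab n) c n (qr_mem' (by omega))
      have h3 := golayCode.add_mem h1 h2
      rw [← wd_xor] at h3
      exact h3
  exact this 23 le_rfl

theorem basis_mem {i : ℕ} (hi : i < 12) : wd (enc (2 ^ i)) ∈ golayCode := by
  have h := Nat.eq_of_beq_eq_true ((allN_iff _ _).1 comb_ok i hi)
  have h2 : Nat.pow 2 i = 2 ^ i := rfl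
  rw [h2] at h
  rw [← h]; exact combX_mem _

theorem enc_mem_of (D : Submodule (ZMod 2) (GolayPt → ZMod 2)) (hD : ∀ i < 12, wd (enc (2 ^ i)) ∈ D)
    {k : ℕ} (hk : k < 4096) : wd (enc k) ∈ D := by
  induction k using Nat.strong_induction_on with
  | _ k ih =>
    rcases Nat.eq_zero_or_pos k with rfl | hpos
    · rw [enc_zero, wd_zero]; exact D.zero_mem
    · set i := Nat.log2 k with hi
      have hk0 : k ≠ 0 := by omega
      have h1 : 2 ^ i ≤ k := Nat.log2_self_le hk0
      have h2 : k < 2 ^ (i+1) := Nat.lt_log2_self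
      have h3 : k ^^^ 2 ^ i < 2 ^ i := by
        have e1 : k = 2 ^ i ^^^ (k - 2 ^ i) := by
          have hd : k - 2 ^ i < 2 ^ i := by rw [pow_succ] at h2; omega
          have := Nat.two_pow_add_eq_or_of_lt hd 1
          have h5 : 2 ^ i * 1 + (k - 2 ^ i) = 2 ^ i ^^^ (k - 2 ^ i) := by
            apply Nat.eq_of_testBit_eq
            intro j
            rw [mul_one] at this ⊢
            rw [this, Nat.testBit_or, Nat.testBit_xor, Nat.testBit_two_pow]
            by_cases hj : i = j
            · subst hj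
              rw [Nat.testBit_lt_two_pow hd]; simp
            · simp [hj]
          rw [← h5]; omega
        have hd : k - 2 ^ i < 2 ^ i := by rw [pow_succ] at h2; omega
        calc k ^^^ 2 ^ i = (2 ^ i ^^^ (k - 2 ^ i)) ^^^ 2 ^ i := by rw [← e1]
          _ = k - 2 ^ i := by rw [Nat.xor_comm (2 ^ i), Nat.xor_assoc, Nat.xor_self, Nat.xor_zero]
          _ < 2 ^ i := hd
      have h4 : k ^^^ 2 ^ i < k := lt_of_lt_of_le h3 h1
      have hi12 : i < 12 := by
        by_contra hc
        have : 2 ^ 12 ≤ 2 ^ i := Nat.pow_le_pow_right (by norm_num) (by omega)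
        omega
      have h5 := ih _ h4 (by omega)
      have h6 := D.add_mem h5 (hD i hi12)
      rw [← wd_xor, ← enc_xor, Nat.xor_assoc, Nat.xor_self, Nat.xor_zero] at h6
      exact h6

theorem enc_mem {k : ℕ} (hk : k < 4096) : wd (enc k) ∈ golayCode :=
  enc_mem_of golayCode (fun _ hi => basis_mem hi) hk

theorem isCW_xor {m n : ℕ} (hm : isCW m = true) (hn : isCW n = true) : isCW (m ^^^ n) = true := by
  obtain ⟨j, hj, rfl⟩ := isCW_iff.1 hm
  obtain ⟨k, hk, rfl⟩ := isCW_iff.1 hn
  rw [← enc_xor]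
  exact isCW_iff.2 ⟨_, Nat.xor_lt_two_pow (n := 12) hj hk, rfl⟩

theorem mem_golay_iff {w : GolayPt → ZMod 2} : w ∈ golayCode ↔ ∃ k < 4096, w = wd (enc k) := by
  constructor
  · intro h
    have : ∃ m, isCW m = true ∧ w = wd m := by
      refine Submodule.span_induction (p := fun w _ => ∃ m, isCW m = true ∧ w = wd m) ?_ ?_ ?_ ?_ h
      · rintro x (⟨t, rfl⟩ | hx)
        · exact ⟨_, (allN_iff _ _).1 gen_mem _ (ZMod.val_lt t), qrWord_eq t⟩
        · rw [Set.mem_singleton_iff.1 hx]; exact ⟨_, one_memCW, one_eq_wd⟩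
      · exact ⟨0, isCW_iff.2 ⟨0, by norm_num, enc_zero.symm⟩, wd_zero.symm⟩
      · rintro x y _ _ ⟨m, hm, rfl⟩ ⟨n, hn, rfl⟩
        exact ⟨_, isCW_xor hm hn, (wd_xor m n).symm⟩
      · rintro a x _ ⟨m, hm, rfl⟩
        have : a = 0 ∨ a = 1 := by revert a; decide
        rcases this with rfl | rfl
        · exact ⟨0, isCW_iff.2 ⟨0, by norm_num, enc_zero.symm⟩, by rw [zero_smul, wd_zero]⟩
        · exact ⟨m, hm, by rw [one_smul]⟩
    obtain ⟨m, hm, rfl⟩ := this
    obtain ⟨k, hk, rfl⟩ := isCW_iff.1 hm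
    exact ⟨k, hk, rfl⟩
  · rintro ⟨k, hk, rfl⟩; exact enc_mem hk

theorem wd_mem_iff {m : ℕ} (hm : m < 2 ^ 24) : wd m ∈ golayCode ↔ isCW m = true := by
  rw [mem_golay_iff, isCW_iff]
  constructor
  · rintro ⟨k, hk, h⟩; exact ⟨k, hk, wd_inj hm (enc_lt k) h⟩
  · rintro ⟨k, hk, rfl⟩; exact ⟨k, hk, rfl⟩

theorem mem_supports_iff {s : Finset GolayPt} :
    s ∈ supports (golayCode : Set (GolayPt → ZMod 2)) ↔ ∃ k < 4096, s = S (enc k) := by
  constructor
  · rintro ⟨w, hw, rfl⟩
    obtain ⟨k, hk, rfl⟩ := mem_golay_iff.1 hw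
    exact ⟨k, hk, support_wd _⟩
  · rintro ⟨k, hk, rfl⟩
    exact ⟨wd (enc k), enc_mem hk, support_wd _⟩

theorem S_mem_supports_iff {m : ℕ} (hm : m < 2 ^ 24) :
    S m ∈ supports (golayCode : Set (GolayPt → ZMod 2)) ↔ isCW m = true := by
  rw [mem_supports_iff, isCW_iff]
  constructor
  · rintro ⟨k, hk, h⟩; exact ⟨k, hk, S_inj hm (enc_lt k) h⟩
  · rintro ⟨k, hk, rfl⟩; exact ⟨k, hk, rfl⟩

/-- words of weight `n`, as masks -/
theorem mem_weight_iff {n : ℕ} {s : Finset GolayPt} :
    s ∈ wordsOfWeight (golayCode : Set (GolayPt → ZMod 2)) n ↔ ∃ k < 4096, pc (enc k) = n ∧ s = S (enc k) := by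
  constructor
  · rintro ⟨h1, h2⟩
    obtain ⟨k, hk, rfl⟩ := mem_supports_iff.1 h1
    exact ⟨k, hk, by rw [← card_S, h2], rfl⟩
  · rintro ⟨k, hk, h, rfl⟩
    exact ⟨mem_supports_iff.2 ⟨k, hk, rfl⟩, by rw [card_S, h]⟩

theorem mem_octads_iff {s : Finset GolayPt} : s ∈ octads ↔ ∃ k < 4096, pc (enc k) = 8 ∧ s = S (enc k) :=
  mem_weight_iff

theorem mem_dodecads_iff {s : Finset GolayPt} : s ∈ dodecads ↔ ∃ k < 4096, pc (enc k) = 12 ∧ s = S (enc k) :=
  mem_weight_iff

/-- counting the code words with a Boolean property -/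
noncomputable def cnt (f : ℕ → Bool) : ℕ := sumR (fun k => @Bool.rec (fun _ => ℕ) 0 1 (f k)) 12 0

theorem ncard_cnt (f : ℕ → Bool) (X : Set (Finset GolayPt))
    (h : ∀ s, s ∈ X ↔ ∃ k < 4096, f k = true ∧ s = S (enc k)) : X.ncard = cnt f := by
  have h1 : X = (((Finset.range 4096).filter fun k => f k = true).image fun k => S (enc k) : Finset (Finset GolayPt)) := by
    ext s
    rw [h s]
    simp only [Finset.coe_image, Set.mem_image, Finset.mem_coe, Finset.mem_filter, Finset.mem_range]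
    constructor
    · rintro ⟨k, hk, h1, rfl⟩; exact ⟨k, ⟨hk, h1⟩, rfl⟩
    · rintro ⟨k, ⟨hk, h1⟩, rfl⟩; exact ⟨k, hk, h1, rfl⟩
  rw [h1, Set.ncard_coe_finset, Finset.card_image_of_injOn, cnt, sumR_spec, Finset.card_filter]
  · rw [Finset.range_eq_Ico]
    apply Finset.sum_congr rfl
    intro k _
    cases f k <;> simp
  · intro a ha b hb hab
    simp only [Finset.coe_filter, Finset.mem_range, Set.mem_ofPred_eq] at ha hb
    exact enc_inj ha.1 hb.1 (S_inj (enc_lt _) (enc_lt _) hab)

end Cfsg.Agent.H9
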