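import Cfsg.Agent.H9.Dod
set_option autoImplicit false

/-! Transport of the stabilizers to standard position. -/

namespace Cfsg.Agent.H9
open Cfsg
open scoped Pointwise

theorem stab_prod {G X Y : Type*} [Group G] [MulAction G X] [MulAction G Y] (a : X) (b : Y) :
    MulAction.stabilizer G (a, b) = MulAction.stabilizer G a ⊓ MulAction.stabilizer G b := by
  ext g
  rw [Subgroup.mem_inf, MulAction.mem_stabilizer_iff, MulAction.mem_stabilizer_iff, MulAction.mem_stabilizer_iff,
    Prod.smul_mk, Prod.mk.injEq]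

/-- stabilizer of `a` in `K`, moved to position `b`, as a subgroup of the ambient group. -/
theorem stab_transport {G X : Type*} [Group G] [MulAction G X] (K : Subgroup G) {a b : X}
    (h : ∃ g ∈ K, g • a = b) : Nonempty (MulAction.stabilizer K a ≃* ↥(K ⊓ MulAction.stabilizer G b)) := by
  obtain ⟨g, hg, h⟩ := h
  exact ⟨(MulAction.stabilizerEquivStabilizer (G := K) (g := ⟨g, hg⟩) h.symm).trans (stabEquiv K b)⟩

theorem B_zero : B 0 = none := by
  apply idx_inj
  rw [B, idx_pt (bs_lt' (by norm_num))]; decide +kernel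

theorem B_one : B 1 = some 0 := by
  apply idx_inj
  rw [B, idx_pt (bs_lt' (by norm_num))]; decide +kernel

theorem D_zero : D 0 = some 0 := by
  apply idx_inj
  rw [D, idx_pt (g12_base' (by norm_num))]; decide +kernel

theorem equivHc1 (p : GolayPt) : Nonempty (MulAction.stabilizer M24 p ≃* Hc 1) := by
  obtain ⟨g, hg, h⟩ := exists_to_base 1 (by norm_num) (fun _ => p) (by intro i hi j hj; omega)
  exact stab_transport M24 ⟨g, hg, h 0 (by norm_num)⟩

theorem Hc2_eq : M24 ⊓ MulAction.stabilizer (Equiv.Perm GolayPt) (B 0, B 1) = Hc 2 := by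
  rw [stab_prod, ← inf_assoc]; rfl

theorem equivHc2 {p q : GolayPt} (hpq : p ≠ q) :
    Nonempty (↥(MulAction.stabilizer M24 p ⊓ MulAction.stabilizer M24 q) ≃* Hc 2) := by
  rw [← stab_prod, ← Hc2_eq]
  obtain ⟨g, hg, h⟩ := m24_transOn [p, q] [B 0, B 1] (by simpa using hpq)
    (by simpa using (B_ne (i := 1) (j := 0) (by norm_num) (by norm_num)).symm) rfl (by simp) (by simp) (by simp)
  simp only [List.map_cons, List.map_nil, List.cons.injEq, and_true] at h
  exact stab_transport M24 ⟨g, hg, Prod.ext h.1 h.2⟩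

theorem Hc3_eq : M24 ⊓ MulAction.stabilizer (Equiv.Perm GolayPt) (B 0, B 1, B 2) = Hc 3 := by
  rw [stab_prod, stab_prod, ← inf_assoc, ← inf_assoc]; rfl

theorem equivHc3 {p q r : GolayPt} (hpq : p ≠ q) (hpr : p ≠ r) (hqr : q ≠ r) :
    Nonempty (↥(MulAction.stabilizer M24 p ⊓ MulAction.stabilizer M24 q ⊓ MulAction.stabilizer M24 r) ≃* Hc 3) := by
  rw [inf_assoc, ← stab_prod, ← stab_prod, ← Hc3_eq]
  obtain ⟨g, hg, h⟩ := m24_transOn [p, q, r] [B 0, B 1, B 2] (by simp [hpq, hpr, hqr])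
    (by
      have h10 := (B_ne (i := 1) (j := 0) (by norm_num) (by norm_num)).symm
      have h20 := (B_ne (i := 2) (j := 0) (by norm_num) (by norm_num)).symm
      have h21 := (B_ne (i := 2) (j := 1) (by norm_num) (by norm_num)).symm
      simp [h10, h20, h21]) rfl (by simp) (by simp) (by simp)
  simp only [List.map_cons, List.map_nil, List.cons.injEq, and_true] at h
  exact stab_transport M24 ⟨g, hg, Prod.ext h.1 (Prod.ext h.2.1 h.2.2)⟩

theorem equivK12 {d : Finset GolayPt} (hd : d ∈ dodecads) : Nonempty (MulAction.stabilizer M24 d ≃* K12) :=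
  stab_transport M24 (dodecad_trans hd dod0_mem)

/-- dodecad frames -/
theorem dod_frame {d : Finset GolayPt} (hd : d ∈ dodecads) (l l' : List GolayPt) (hl : l.Nodup) (hl' : l'.Nodup)
    (hlen : l.length = l'.length) (h5 : l.length ≤ 5) (hO : ∀ x ∈ l, x ∈ d) (hO' : ∀ x ∈ l', x ∈ S dod0) :
    ∃ g ∈ M24, g • d = S dod0 ∧ l.map g = l' := by
  obtain ⟨g, hg, h⟩ := dodecad_trans hd dod0_mem
  obtain ⟨u, hu, h1⟩ := K12_transOn (l.map g) l' (hl.map g.injective) hl' (by rw [List.length_map, hlen])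
    (by rw [List.length_map]; exact h5) (by
      intro x hx
      rw [List.mem_map] at hx
      obtain ⟨y, hy, rfl⟩ := hx
      rw [← h]; exact Finset.mem_smul_finset.2 ⟨y, hO y hy, rfl⟩) hO'
  refine ⟨u * g, M24.mul_mem hu.1 hg, ?_, ?_⟩
  · rw [mul_smul, h]; exact hu.2
  · rw [← h1, List.map_map]; rfl

theorem K11_eq : M24 ⊓ MulAction.stabilizer (Equiv.Perm GolayPt) (S dod0, D 0) = chn K12 g12B 1 := by
  rw [stab_prod, ← inf_assoc]; rfl

theorem equivK11 {d : Finset GolayPt} (hd : d ∈ dodecads) {p : GolayPt} (hp : p ∈ d) :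
    Nonempty (↥(MulAction.stabilizer M24 d ⊓ MulAction.stabilizer M24 p) ≃* chn K12 g12B 1) := by
  rw [← stab_prod, ← K11_eq]
  obtain ⟨g, hg, h1, h2⟩ := dod_frame hd [p] [D 0] (by simp) (by simp) rfl (by simp) (by simpa using hp)
    (by simpa using D_mem (by norm_num))
  simp only [List.map_cons, List.map_nil, List.cons.injEq, and_true] at h2
  exact stab_transport M24 ⟨g, hg, Prod.ext h1 h2⟩

/-- the named groups of Def_Spor_Mathieu -/
theorem M23_eq : Spor.M23 = Hc 1 := by
  rw [Spor.M23, ← B_zero]; rfl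

theorem M22_eq : Spor.M22 = Hc 2 := by
  rw [Spor.M22, M23_eq, ← B_one]; rfl

theorem M12_eq : Spor.M12 = K12 := by
  rw [Spor.M12, squareDodecad_eq]; rfl

theorem M11_eq : Spor.M11 = chn K12 g12B 1 := by
  rw [Spor.M11, M12_eq, ← D_zero]; rfl

end Cfsg.Agent.H9
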