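import Cfsg.Agent.H9.ModP
import Cfsg.Agent.H9.Mathieu
set_option autoImplicit false

/-! Subgroups of small index in the Mathieu groups fix a point. -/

namespace Cfsg.Agent.H9
open Cfsg
open scoped Pointwise

/-- element with a standard path of length four -/
def t8P : ℕ := 0x45902492e9acb46a1f53a8d7b0c41

theorem t8_m : checkM24 t8P = true := by decide +kernel
theorem t8_im : allN (fun i => Nat.beq (im t8P (bs i)) (bs (Nat.add i 1))) 4 = true := by decide +kernel
theorem t8_all : all4 t8P (fun P => @Bool.rec (fun _ => Bool) true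
    (@Bool.rec (fun _ => Bool) true false (ffOK P)) (powOK P 8)) = true := by decide +kernel

/-- elements of order 8 have fixed points -/
theorem fix8 {g : Equiv.Perm GolayPt} (hg : g ∈ M24) (h8 : g ^ 8 = 1) (h4 : g ^ 4 ≠ 1) : ∃ p, g p = p := by
  obtain ⟨p, hp⟩ : ∃ p, (g ^ 4) p ≠ p := by
    by_contra hcon
    push Not at hcon
    exact h4 (Equiv.ext hcon)
  have hne : ∀ j, 1 ≤ j → j ≤ 4 → (g ^ j) p ≠ p := by
    intro j h1 h2 h
    apply hp
    have hj : ∀ n, (g ^ (j * n)) p = p := by
      intro n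
      induction n with
      | zero => rfl
      | succ n ih => rw [Nat.mul_succ, pow_add, Equiv.Perm.mul_apply, h, ih]
    interval_cases j
    · exact hj 4
    · exact hj 2
    · have h9 := hj 4
      have e : g ^ (3 * 4) = g ^ 4 := by
        rw [show 3 * 4 = 8 + 4 by norm_num, pow_add, h8, one_mul]
      rwa [e] at h9
    · exact h
  have hne' : ∀ i j, i < j → j ≤ 4 → (g ^ i) p ≠ (g ^ j) p := by
    intro i j hij hj h
    apply hne (j - i) (by omega) (by omega)
    have : g ^ j = g ^ i * g ^ (j - i) := by rw [← pow_add]; congr 1; omega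
    rw [this, Equiv.Perm.mul_apply] at h
    exact ((g ^ i).injective h).symm
  have hl : [p, (g ^ 1) p, (g ^ 2) p, (g ^ 3) p, (g ^ 4) p].Nodup := by
    simp only [List.nodup_cons, List.mem_cons, List.not_mem_nil, or_false, not_or, not_false_eq_true, and_true,
      List.nodup_nil]
    exact ⟨⟨hne' 0 1 (by norm_num) (by norm_num), hne' 0 2 (by norm_num) (by norm_num), hne' 0 3 (by norm_num) (by norm_num),
      hne' 0 4 (by norm_num) (by norm_num)⟩, ⟨hne' 1 2 (by norm_num) (by norm_num), hne' 1 3 (by norm_num) (by norm_num),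
      hne' 1 4 (by norm_num) (by norm_num)⟩, ⟨hne' 2 3 (by norm_num) (by norm_num), hne' 2 4 (by norm_num) (by norm_num)⟩,
      hne' 3 4 (by norm_num) (by norm_num)⟩
  obtain ⟨u, hu, h⟩ := to_base_list _ hl (by simp)
  simp only [List.length_cons, List.length_nil, List.range, List.range.loop, List.map_cons, List.map_nil,
    List.cons.injEq, and_true] at h
  obtain ⟨e0, e1, e2, e3, e4⟩ := h
  have hB : ∀ i < 4, toPerm t8P (B i) = B (i + 1) := by
    intro i hi
    show toPerm t8P (pt (bs i)) = pt (bs (i+1))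
    rw [toPerm_pt (checkM24_perm t8_m) (bs_lt' (by omega)), Nat.eq_of_beq_eq_true ((allN_iff _ _).1 t8_im i hi)]
  obtain ⟨P, hP, hP', h9⟩ := all4_spec t8_m t8_all (conj_mem hg hu) (by
    intro i hi
    rw [hB i hi]
    interval_cases i
    · exact conj_pattern e0 e1 (by rw [pow_one])
    · exact conj_pattern e1 e2 rfl
    · exact conj_pattern e2 e3 rfl
    · exact conj_pattern e3 e4 rfl)
  have h10 : powOK P 8 = true := by
    rw [powOK_iff hP, ← hP', conj_pow', h8]; group
  rw [h10] at h9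
  cases h11 : ffOK P
  · have h12 : ¬ ∀ q, toPerm P q ≠ q := by rw [← ffOK_iff hP, h11]; simp
    push Not at h12
    obtain ⟨q, hq⟩ := h12
    rw [← hP'] at hq
    have : q ∈ fx (u * g * u⁻¹) := mem_fx.2 hq
    rw [fx_conj, ← Finset.inv_smul_mem_iff, mem_fx] at this
    exact ⟨_, this⟩
  · rw [h11] at h9
    exact absurd h9 (by simp)

theorem idx23 {K : Subgroup (Equiv.Perm GolayPt)} (hK : K ≤ Hc 1) (hc : Nat.card K = 443520) :
    ∃ b, b ≠ B 0 ∧ ∀ g ∈ K, g b = b := by
  have hM : ∀ g ∈ K, g ∈ M24 := fun g hg => (mem_Hc.1 (hK hg)).1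
  have hF : ∀ q ∈ ({B 0} : Finset GolayPt), ∀ g ∈ K, g q = q := by
    intro q hq g hg
    rw [Finset.mem_singleton.1 hq]
    exact (mem_Hc.1 (hK hg)).2 0 (by norm_num)
  obtain ⟨x, hx, hx1, hx2⟩ := cauchy (K := K) (p := 11) (by norm_num) (by rw [hc]; norm_num)
  have hfx := fx11 (hM x hx) hx2 hx1
  obtain ⟨a, ha, hfa⟩ := fx_extend (F := {B 0}) (fun q hq => hF q hq x hx) (by rw [hfx, Finset.card_singleton])
  have h1 := orbF_mod (a := a) (by norm_num) hx hx1
  rw [inter_one hF ha hfa] at h1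
  have h2 := orbF_card_le hF ha
  rw [Finset.card_singleton] at h2
  have h3 : (orbF K a).card ∣ 443520 := ⟨_, by rw [← hc]; exact card_orbF K a⟩
  unfold Nat.ModEq at h1
  have h4 : (orbF K a).card = 1 ∨ (orbF K a).card = 12 := by
    have h5 : (orbF K a).card = 1 ∨ (orbF K a).card = 12 ∨ (orbF K a).card = 23 := by omega
    rcases h5 with h5 | h5 | h5
    · exact Or.inl h5
    · exact Or.inr h5
    · rw [h5] at h3; norm_num at h3
  rcases h4 with h4 | h4
  · refine ⟨a, fun h => ha (by rw [h]; simp), orbF_one h4⟩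
  · exfalso
    obtain ⟨y, hy, hy1, hy2⟩ := cauchy (K := K) (p := 7) (by norm_num) (by rw [hc]; norm_num)
    have hfy := fx7 (hM y hy) hy2 hy1
    set C : Finset GolayPt := (insert (B 0) (orbF K a))ᶜ with hC
    have hB0 : B 0 ∉ orbF K a := by
      intro h
      exact Finset.mem_compl.1 (orbF_subset hF ha h) (by simp)
    have hCc : C.card = 11 := by
      rw [hC, Finset.card_compl, Finset.card_insert_of_notMem hB0, card_pt, h4]
    have hCi : ∀ q ∈ C, y q ∈ C := by
      intro q hq
      rw [hC, Finset.mem_compl, Finset.mem_insert, not_or] at hq ⊢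
      constructor
      · intro h
        apply hq.1
        have := (hF (B 0) (by simp) y hy)
        exact y.injective (h.trans this.symm)
      · intro h
        apply hq.2
        have := orbF_inv (K.inv_mem hy) _ h
        rwa [← Equiv.Perm.mul_apply, inv_mul_cancel, Equiv.Perm.one_apply] at this
    have h5 := mod_p (O := C) (by norm_num) hy1 hCi
    rw [hCc] at h5
    have h6 : (C ∩ fx y).card ≤ 2 := by
      have : C ∩ fx y ⊆ (fx y).erase (B 0) := by
        intro q hq
        rw [Finset.mem_inter] at hq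
        refine Finset.mem_erase.2 ⟨?_, hq.2⟩
        rintro rfl
        rw [hC, Finset.mem_compl] at hq
        exact hq.1 (by simp)
      have h7 := Finset.card_le_card this
      rw [Finset.card_erase_of_mem (mem_fx.2 (hF (B 0) (by simp) y hy)), hfy] at h7
      exact h7
    unfold Nat.ModEq at h5
    omega

/-- a subgroup acting on a set with trivial kernel -/
theorem card_le_of_faithful {K : Subgroup (Equiv.Perm GolayPt)} {C : Finset GolayPt} (hC : ∀ g ∈ K, ∀ q ∈ C, g q ∈ C)
    (hf : ∀ g ∈ K, (∀ q ∈ C, g q = q) → g = 1) : Nat.card K ≤ C.card.factorial := by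
  classical
  have hC' : ∀ g ∈ K, ∀ q, g q ∈ C ↔ q ∈ C := by
    intro g hg q
    refine ⟨fun h => ?_, hC g hg q⟩
    have := hC g⁻¹ (K.inv_mem hg) _ h
    rwa [← Equiv.Perm.mul_apply, inv_mul_cancel, Equiv.Perm.one_apply] at this
  let f : K → Equiv.Perm C := fun g => (g : Equiv.Perm GolayPt).subtypePerm (hC' g g.2)
  have hinj : Function.Injective f := by
    intro g h hgh
    have h1 : ∀ q ∈ C, ((g⁻¹ * h : K) : Equiv.Perm GolayPt) q = q := by
      intro q hq
      have h2 : (f g ⟨q, hq⟩ : GolayPt) = f h ⟨q, hq⟩ := by rw [hgh]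
      have h3 : (g : Equiv.Perm GolayPt) q = (h : Equiv.Perm GolayPt) q := h2
      show (((g : Equiv.Perm GolayPt))⁻¹ * (h : Equiv.Perm GolayPt)) q = q
      rw [Equiv.Perm.mul_apply, ← h3, ← Equiv.Perm.mul_apply, inv_mul_cancel, Equiv.Perm.one_apply]
    have h2 := hf _ (g⁻¹ * h : K).2 h1
    have h3 : g⁻¹ * h = 1 := Subtype.ext h2
    rw [inv_mul_eq_one] at h3
    exact h3
  have := Nat.card_le_card_of_injective f hinj
  have h5 : Nat.card C = C.card := by rw [Nat.card_eq_fintype_card, Fintype.card_coe]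
  rwa [Nat.card_perm, h5] at this

theorem idx22 {K : Subgroup (Equiv.Perm GolayPt)} (hK : K ≤ Hc 2) (hc : Nat.card K = 20160) :
    ∃ b, b ≠ B 0 ∧ b ≠ B 1 ∧ ∀ g ∈ K, g b = b := by
  have hM : ∀ g ∈ K, g ∈ M24 := fun g hg => (mem_Hc.1 (hK hg)).1
  have h01 : B 0 ≠ B 1 := fun h => B_ne (i := 1) (j := 0) (by norm_num) (by norm_num) h.symm
  have hF : ∀ q ∈ ({B 0, B 1} : Finset GolayPt), ∀ g ∈ K, g q = q := by
    intro q hq g hg
    rw [Finset.mem_insert, Finset.mem_singleton] at hq
    rcases hq with rfl | rfl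
    · exact (mem_Hc.1 (hK hg)).2 0 (by norm_num)
    · exact (mem_Hc.1 (hK hg)).2 1 (by norm_num)
  have hFc : ({B 0, B 1} : Finset GolayPt).card = 2 := Finset.card_pair h01
  obtain ⟨x, hx, hx1, hx2⟩ := cauchy (K := K) (p := 7) (by norm_num) (by rw [hc]; norm_num)
  have hfx := fx7 (hM x hx) hx2 hx1
  obtain ⟨a, ha, hfa⟩ := fx_extend (F := {B 0, B 1}) (fun q hq => hF q hq x hx) (by rw [hfx, hFc])
  have h1 := orbF_mod (a := a) (by norm_num) hx hx1
  rw [inter_one hF ha hfa] at h1
  have h2 := orbF_card_le hF ha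
  rw [hFc] at h2
  have h3 : (orbF K a).card ∣ 20160 := ⟨_, by rw [← hc]; exact card_orbF K a⟩
  unfold Nat.ModEq at h1
  have h4 : (orbF K a).card = 1 ∨ (orbF K a).card = 8 ∨ (orbF K a).card = 15 := by
    have h5 : (orbF K a).card = 1 ∨ (orbF K a).card = 8 ∨ (orbF K a).card = 15 ∨ (orbF K a).card = 22 := by omega
    rcases h5 with h5 | h5 | h5 | h5
    · exact Or.inl h5
    · exact Or.inr (Or.inl h5)
    · exact Or.inr (Or.inr h5)
    · rw [h5] at h3; norm_num at h3
  rcases h4 with h4 | h4 | h4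
  · refine ⟨a, fun h => ha (by rw [h]; simp), fun h => ha (by rw [h]; simp), orbF_one h4⟩
  · exfalso
    obtain ⟨y, hy, hy1, hy2⟩ := cauchy (K := K) (p := 5) (by norm_num) (by rw [hc]; norm_num)
    have hfy := fx5 (hM y hy) hy2 hy1
    have h5 := orbF_mod (a := a) (by norm_num) hy hy1
    rw [h4] at h5
    have h6 : (orbF K a ∩ fx y).card ≤ 2 := by
      have : orbF K a ∩ fx y ⊆ fx y \ {B 0, B 1} := by
        intro q hq
        rw [Finset.mem_inter] at hq
        exact Finset.mem_sdiff.2 ⟨hq.2, Finset.mem_compl.1 (orbF_subset hF ha hq.1)⟩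
      have h7 := Finset.card_le_card this
      have hsub : ({B 0, B 1} : Finset GolayPt) ⊆ fx y := fun q hq => mem_fx.2 (hF q hq y hy)
      rw [Finset.card_sdiff_of_subset hsub, hfy, hFc] at h7
      exact h7
    unfold Nat.ModEq at h5
    omega
  · exfalso
    set C : Finset GolayPt := ({B 0, B 1} ∪ orbF K a)ᶜ with hC
    have hdis : Disjoint ({B 0, B 1} : Finset GolayPt) (orbF K a) := by
      rw [Finset.disjoint_right]
      intro q hq
      exact Finset.mem_compl.1 (orbF_subset hF ha hq)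
    have hCc : C.card = 7 := by
      rw [hC, Finset.card_compl, Finset.card_union_of_disjoint hdis, card_pt, h4, hFc]
    have hCi : ∀ g ∈ K, ∀ q ∈ C, g q ∈ C := by
      intro y hy q hq
      rw [hC, Finset.mem_compl, Finset.mem_union, not_or] at hq ⊢
      constructor
      · intro h
        apply hq.1
        have := hF _ h y⁻¹ (K.inv_mem hy)
        rw [← Equiv.Perm.mul_apply, inv_mul_cancel, Equiv.Perm.one_apply] at this
        rw [this]; exact h
      · intro h
        apply hq.2
        have := orbF_inv (K.inv_mem hy) _ h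
        rwa [← Equiv.Perm.mul_apply, inv_mul_cancel, Equiv.Perm.one_apply] at this
    have h5 := card_le_of_faithful hCi (by
      intro g hg hfix
      by_contra hne
      have h6 := fx_le (hM g hg) hne
      have h7 : C ∪ {B 0, B 1} ⊆ fx g := by
        intro q hq
        rcases Finset.mem_union.1 hq with h | h
        · exact mem_fx.2 (hfix q h)
        · exact mem_fx.2 (hF q h g hg)
      have h8 : Disjoint C {B 0, B 1} := by
        rw [Finset.disjoint_left]
        intro q hq h
        rw [hC, Finset.mem_compl] at hq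
        exact hq (Finset.mem_union_left _ h)
      have h9 := Finset.card_le_card h7
      rw [Finset.card_union_of_disjoint h8, hCc, hFc] at h9
      omega)
    rw [hCc, hc] at h5
    norm_num [Nat.factorial] at h5

/-- a group of order 40 has an involution centralizing its Sylow 5-subgroup -/
theorem order40 {G : Type*} [Group G] (hG : Nat.card G = 40) : ∃ z t : G, z ^ 5 = 1 ∧ z ≠ 1 ∧ t ^ 2 = 1 ∧ t ≠ 1 ∧ t * z = z * t := by
  classical
  haveI : Finite G := Nat.finite_of_card_ne_zero (by rw [hG]; norm_num)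
  haveI : Fact (Nat.Prime 5) := ⟨by norm_num⟩
  haveI : Fact (Nat.Prime 2) := ⟨by norm_num⟩
  obtain ⟨P⟩ : Nonempty (Sylow 5 G) := inferInstance
  have hPc : Nat.card P = 5 := by
    have h := P.card_eq_multiplicity
    rw [hG] at h
    have : Nat.factorization 40 5 = 1 := by
      have : (40 : ℕ) = 5 ^ 1 * 8 := by norm_num
      rw [this, Nat.factorization_mul (by norm_num) (by norm_num)]
      simp only [Finsupp.add_apply]
      rw [Nat.Prime.factorization_pow (by norm_num), Finsupp.single_eq_same,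
        Nat.factorization_eq_zero_of_not_dvd (by norm_num)]
    rw [this] at h
    simpa using h
  have hidx : (P : Subgroup G).index = 8 := by
    have := (P : Subgroup G).card_mul_index
    rw [hG] at this
    have h2 : Nat.card (P : Subgroup G) = 5 := hPc
    rw [h2] at this
    omega
  have hn : Nat.card (Sylow 5 G) = 1 := by
    have h1 := Sylow.card_dvd_index P
    rw [hidx] at h1
    have h2 := card_sylow_modEq_one 5 G
    unfold Nat.ModEq at h2
    have h3 : Nat.card (Sylow 5 G) ≤ 8 := Nat.le_of_dvd (by norm_num) h1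
    interval_cases (Nat.card (Sylow 5 G)) <;> omega
  have hsub : Subsingleton (Sylow 5 G) := (Nat.card_eq_one_iff_unique.1 hn).1
  haveI hnorm : (P : Subgroup G).Normal := Sylow.normal_of_subsingleton P
  obtain ⟨⟨z, hzP⟩, hz⟩ := exists_prime_orderOf_dvd_card' (G := P) 5 (by rw [hPc])
  have hz' : orderOf z = 5 := by
    rw [← hz]; exact (Subgroup.orderOf_mk z hzP).symm
  have hPz : (P : Subgroup G) = Subgroup.zpowers z := by
    symm
    apply Subgroup.eq_of_le_of_card_ge
    · rw [Subgroup.zpowers_le]; exact hzP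
    · rw [Nat.card_zpowers, hz']; exact hPc.le
  obtain ⟨T⟩ : Nonempty (Sylow 2 G) := inferInstance
  have hTc : Nat.card T = 8 := by
    have h := T.card_eq_multiplicity
    rw [hG] at h
    have : Nat.factorization 40 2 = 3 := by
      have : (40 : ℕ) = 2 ^ 3 * 5 := by norm_num
      rw [this, Nat.factorization_mul (by norm_num) (by norm_num)]
      simp only [Finsupp.add_apply]
      rw [Nat.Prime.factorization_pow (by norm_num), Finsupp.single_eq_same,
        Nat.factorization_eq_zero_of_not_dvd (by norm_num)]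
    rw [this] at h
    simpa using h
  -- the map T → {1,2,3,4}: t z t⁻¹ = z ^ i
  have hconj : ∀ t : G, ∃ i : Fin 5, t * z * t⁻¹ = z ^ (i : ℕ) := by
    intro t
    have h1 : t * z * t⁻¹ ∈ (P : Subgroup G) := hnorm.conj_mem z hzP t
    rw [hPz, Subgroup.mem_zpowers_iff] at h1
    obtain ⟨k, hk⟩ := h1
    refine ⟨⟨(k % 5).toNat, ?_⟩, ?_⟩
    · have := Int.emod_nonneg k (by norm_num : (5 : ℤ) ≠ 0)
      have := Int.emod_lt_of_pos k (by norm_num : (0 : ℤ) < 5)
      omega
    · rw [← hk]
      have h2 : z ^ k = z ^ (k % 5) := by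
        have := zpow_mod_orderOf z k
        rw [hz'] at this
        exact this.symm
      rw [h2, ← zpow_natCast]
      congr 1
      have := Int.emod_nonneg k (by norm_num : (5 : ℤ) ≠ 0)
      show k % 5 = ((k % 5).toNat : ℤ)
      omega
  choose f hf using hconj
  obtain ⟨t1, t2, hne, heq⟩ : ∃ t1 t2 : (T : Subgroup G), t1 ≠ t2 ∧ f t1 = f t2 := by
    by_contra hcon
    push Not at hcon
    have hinj : Function.Injective (fun t : (T : Subgroup G) => f t) := fun a b h => by
      by_contra hab; exact hcon a b hab h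
    have := Nat.card_le_card_of_injective _ hinj
    rw [hTc, Nat.card_eq_fintype_card, Fintype.card_fin] at this
    omega
  have hcomm : ((t1 : G)⁻¹ * (t2 : G)) * z = z * ((t1 : G)⁻¹ * (t2 : G)) := by
    have h1 := hf t1
    have h2 := hf t2
    rw [← heq, ← h1] at h2
    have h3 : (t2 : G) * z = t1 * z * (t1 : G)⁻¹ * t2 := by rw [← h2]; group
    rw [mul_assoc, h3]; group
  -- an involution among the powers
  set s : G := ((t1 : G)⁻¹ * (t2 : G)) with hs
  have hs1 : s ≠ 1 := by
    intro h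
    apply hne
    have : (t1 : G) = t2 := by
      rw [hs, inv_mul_eq_one] at h; exact h
    exact Subtype.ext this
  have hsT : s ∈ (T : Subgroup G) := (T : Subgroup G).mul_mem ((T : Subgroup G).inv_mem t1.2) t2.2
  have ho : orderOf s ∣ 8 := by
    have : orderOf (⟨s, hsT⟩ : T) ∣ Nat.card T := orderOf_dvd_natCard _
    rw [hTc] at this
    rwa [Subgroup.orderOf_mk] at this
  have ho1 : orderOf s ≠ 1 := by rwa [Ne, orderOf_eq_one_iff]
  have h2o : 2 ∣ orderOf s := by
    have h8 : orderOf s ∣ 2 ^ 3 := by simpa using ho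
    obtain ⟨k, hk, hk'⟩ := (Nat.dvd_prime_pow (by norm_num)).1 h8
    rw [hk']
    have : k ≠ 0 := by rintro rfl; rw [pow_zero] at hk'; exact ho1 hk'
    exact dvd_pow_self 2 this
  refine ⟨z, s ^ (orderOf s / 2), by rw [← hz']; exact pow_orderOf_eq_one z, ?_, ?_, ?_, ?_⟩
  · intro h; rw [h, orderOf_one] at hz'; omega
  · rw [← pow_mul, Nat.div_mul_cancel h2o]; exact pow_orderOf_eq_one s
  · intro h
    have h3 := orderOf_dvd_of_pow_eq_one h
    have h4 : 0 < orderOf s := orderOf_pos s
    have h5 := Nat.le_of_dvd (Nat.div_pos (Nat.le_of_dvd h4 h2o) (by norm_num)) h3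
    omega
  · have : Commute s z := hcomm
    exact this.pow_left _

theorem idx24 {K : Subgroup (Equiv.Perm GolayPt)} (hK : K ≤ M24) (hc : Nat.card K = 10200960) :
    ∃ b, ∀ g ∈ K, g b = b := by
  have key : ∀ {L : Subgroup (Equiv.Perm GolayPt)} {F : Finset GolayPt} (hL : ∀ g ∈ L, g ∈ M24)
      (hF : ∀ q ∈ F, ∀ g ∈ L, g q = q) (a : GolayPt), (∀ g ∈ st L a, g ∈ M24) ∧
      (∀ q ∈ insert a F, ∀ g ∈ st L a, g q = q) := by
    intro L F hL hF a
    refine ⟨fun g hg => hL g hg.1, fun q hq g hg => ?_⟩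
    rcases Finset.mem_insert.1 hq with rfl | h
    · exact hg.2
    · exact hF q h g hg.1
  have hM : ∀ g ∈ K, g ∈ M24 := hK
  -- step A
  obtain ⟨x, hx, hx1, hx2⟩ := cauchy (K := K) (p := 23) (by norm_num) (by rw [hc]; norm_num)
  have hF0 : ∀ q ∈ (∅ : Finset GolayPt), ∀ g ∈ K, g q = q := by simp
  obtain ⟨a, ha, hfa⟩ := fx_extend (F := ∅) (fun q hq => hF0 q hq x hx) (by rw [fx23 (hM x hx) hx2 hx1]; simp)
  have h1 := orbF_mod (a := a) (by norm_num) hx hx1
  rw [inter_one hF0 ha hfa] at h1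
  have h2 := orbF_card_le hF0 ha
  rw [Finset.card_empty] at h2
  unfold Nat.ModEq at h1
  have h3 : (orbF K a).card = 1 ∨ (orbF K a).card = 24 := by omega
  rcases h3 with h3 | h3
  · exact ⟨a, orbF_one h3⟩
  exfalso
  have hc1 := card_orbF K a
  rw [hc, h3] at hc1
  have hc1' : Nat.card (st K a) = 425040 := by omega
  obtain ⟨hM1, hF1⟩ := key hM hF0 a
  -- step B
  obtain ⟨x, hx, hx1, hx2⟩ := cauchy (K := st K a) (p := 23) (by norm_num) (by rw [hc1']; norm_num)
  have hfx := fx_eq_of (F := insert a ∅) (fun q hq => hF1 q hq x hx) (by rw [fx23 (hM1 x hx) hx2 hx1]; simp)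
  obtain ⟨b, hb⟩ : ∃ b, b ∉ (insert a ∅ : Finset GolayPt) := by
    by_contra hcon
    push Not at hcon
    have := Finset.card_le_card (fun q _ => hcon q : (Finset.univ : Finset GolayPt) ⊆ insert a ∅)
    rw [Finset.card_univ, card_pt] at this
    simp at this
  have h1 := orbF_mod (a := b) (by norm_num) hx hx1
  rw [inter_zero hF1 hb hfx] at h1
  have h2 := orbF_card_le hF1 hb
  have hpos := orbF_pos (st K a) b
  have e1 : (insert a ∅ : Finset GolayPt).card = 1 := by simp
  rw [e1] at h2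
  unfold Nat.ModEq at h1
  have h3 : (orbF (st K a) b).card = 23 := by omega
  have hc2 := card_orbF (st K a) b
  rw [hc1', h3] at hc2
  have hc2' : Nat.card (st (st K a) b) = 18480 := by omega
  obtain ⟨hM2, hF2⟩ := key hM1 hF1 b
  have e2 : (insert b (insert a ∅) : Finset GolayPt).card = 2 := by rw [Finset.card_insert_of_notMem hb, e1]
  -- step C
  obtain ⟨x, hx, hx1, hx2⟩ := cauchy (K := st (st K a) b) (p := 11) (by norm_num) (by rw [hc2']; norm_num)
  have hfx := fx_eq_of (fun q hq => hF2 q hq x hx) (by rw [fx11 (hM2 x hx) hx2 hx1, e2])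
  obtain ⟨y, hy, hy1, hy2⟩ := cauchy (K := st (st K a) b) (p := 7) (by norm_num) (by rw [hc2']; norm_num)
  obtain ⟨c, hcF, hfc⟩ := fx_extend (fun q hq => hF2 q hq y hy) (by rw [fx7 (hM2 y hy) hy2 hy1, e2])
  have h1 := orbF_mod (a := c) (by norm_num) hx hx1
  rw [inter_zero hF2 hcF hfx] at h1
  have h1' := orbF_mod (a := c) (by norm_num) hy hy1
  rw [inter_one hF2 hcF hfc] at h1'
  have h2 := orbF_card_le hF2 hcF
  rw [e2] at h2
  unfold Nat.ModEq at h1 h1'
  have h3 : (orbF (st (st K a) b) c).card = 22 := by omega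
  have hc3 := card_orbF (st (st K a) b) c
  rw [hc2', h3] at hc3
  have hc3' : Nat.card (st (st (st K a) b) c) = 840 := by omega
  obtain ⟨hM3, hF3⟩ := key hM2 hF2 c
  have e3 : (insert c (insert b (insert a ∅)) : Finset GolayPt).card = 3 := by rw [Finset.card_insert_of_notMem hcF, e2]
  -- step D
  obtain ⟨x, hx, hx1, hx2⟩ := cauchy (K := st (st (st K a) b) c) (p := 7) (by norm_num) (by rw [hc3']; norm_num)
  have hfx := fx_eq_of (fun q hq => hF3 q hq x hx) (by rw [fx7 (hM3 x hx) hx2 hx1, e3])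
  obtain ⟨y, hy, hy1, hy2⟩ := cauchy (K := st (st (st K a) b) c) (p := 5) (by norm_num) (by rw [hc3']; norm_num)
  obtain ⟨d, hdF, hfd⟩ := fx_extend (fun q hq => hF3 q hq y hy) (by rw [fx5 (hM3 y hy) hy2 hy1, e3])
  have h1 := orbF_mod (a := d) (by norm_num) hx hx1
  rw [inter_zero hF3 hdF hfx] at h1
  have h1' := orbF_mod (a := d) (by norm_num) hy hy1
  rw [inter_one hF3 hdF hfd] at h1'
  have h2 := orbF_card_le hF3 hdF
  rw [e3] at h2
  unfold Nat.ModEq at h1 h1'
  have h3 : (orbF (st (st (st K a) b) c) d).card = 21 := by omega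
  have hc4 := card_orbF (st (st (st K a) b) c) d
  rw [hc3', h3] at hc4
  have hc4' : Nat.card (st (st (st (st K a) b) c) d) = 40 := by omega
  obtain ⟨hM4, hF4⟩ := key hM3 hF3 d
  have e4 : (insert d (insert c (insert b (insert a ∅))) : Finset GolayPt).card = 4 := by
    rw [Finset.card_insert_of_notMem hdF, e3]
  -- step E
  obtain ⟨z, t, hz5, hz1, ht2, ht1, hcomm⟩ := order40 hc4'
  have hz5' : (z : Equiv.Perm GolayPt) ^ 5 = 1 := congrArg Subtype.val hz5
  have hz1' : (z : Equiv.Perm GolayPt) ≠ 1 := fun h => hz1 (Subtype.ext h)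
  have ht2' : (t : Equiv.Perm GolayPt) ^ 2 = 1 := congrArg Subtype.val ht2
  have ht1' : (t : Equiv.Perm GolayPt) ≠ 1 := fun h => ht1 (Subtype.ext h)
  have hcomm' : (t : Equiv.Perm GolayPt) * z = z * t := congrArg Subtype.val hcomm
  have hft := octad_card (fx_2A (hM4 t t.2) ht2' ht1' ⟨d, hF4 d (by simp) t t.2⟩)
  have hfz := fx_eq_of (fun q hq => hF4 q hq z z.2) (by rw [fx5 (hM4 z z.2) hz1' hz5', e4])
  have h1 := mod_p (O := fx (t : Equiv.Perm GolayPt)) (p := 5) (by norm_num) hz5' (by
    intro q hq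
    rw [mem_fx] at hq ⊢
    rw [← Equiv.Perm.mul_apply, hcomm', Equiv.Perm.mul_apply, hq])
  rw [hft] at h1
  have h2 : fx (t : Equiv.Perm GolayPt) ∩ fx (z : Equiv.Perm GolayPt) = fx (z : Equiv.Perm GolayPt) := by
    rw [Finset.inter_eq_right, hfz]
    intro q hq
    exact mem_fx.2 (hF4 q hq t t.2)
  rw [h2, hfz, e4] at h1
  unfold Nat.ModEq at h1
  omega

theorem idx12 {K : Subgroup (Equiv.Perm GolayPt)} (hK : K ≤ K12) (hc : Nat.card K = 7920) {h : Equiv.Perm GolayPt}
    (hh : h ∈ K) (h8 : h ^ 8 = 1) (h4 : h ^ 4 ≠ 1) : ∃ b, ∀ g ∈ K, g b = b := by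
  have hM : ∀ g ∈ K, g ∈ M24 := fun g hg => (hK hg).1
  have hDi : ∀ g ∈ K, ∀ q, g q ∈ S dod0 ↔ q ∈ S dod0 := fun g hg q => K12_inv (hK hg)
  obtain ⟨x, hx, hx1, hx2⟩ := cauchy (K := K) (p := 11) (by norm_num) (by rw [hc]; norm_num)
  have hfx := fx11 (hM x hx) hx2 hx1
  have hDc : (S dod0).card = 12 := by rw [card_S, dod0_pc]
  have hDc' : ((S dod0)ᶜ).card = 12 := by rw [Finset.card_compl, card_pt, hDc]
  have m1 := mod_p (O := S dod0) (p := 11) (by norm_num) hx1 (fun q hq => (hDi x hx q).2 hq)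
  have m2 := mod_p (O := (S dod0)ᶜ) (p := 11) (by norm_num) hx1 (fun q hq => by
    rw [Finset.mem_compl] at hq ⊢; rwa [hDi x hx q])
  rw [hDc] at m1
  rw [hDc'] at m2
  unfold Nat.ModEq at m1 m2
  have l1 : (S dod0 ∩ fx x).card ≤ 2 := by rw [← hfx]; exact Finset.card_le_card Finset.inter_subset_right
  have l2 : ((S dod0)ᶜ ∩ fx x).card ≤ 2 := by rw [← hfx]; exact Finset.card_le_card Finset.inter_subset_right
  -- general argument for an invariant set of size 12
  have gen : ∀ E : Finset GolayPt, (∀ g ∈ K, ∀ q ∈ E, g q ∈ E) → E.card = 12 → (E ∩ fx x).card = 1 →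
      (∃ c ∈ E, h c = c) → ∃ b, ∀ g ∈ K, g b = b := by
    intro E hE hEc hEx hc'
    obtain ⟨a, ha⟩ := Finset.card_eq_one.1 hEx
    have haE : a ∈ E ∩ fx x := by rw [ha]; simp
    have hsub : orbF K a ⊆ E := by
      intro q hq
      obtain ⟨k, hk, rfl⟩ := mem_orbF.1 hq
      exact hE k hk a (Finset.mem_inter.1 haE).1
    have h1 := orbF_mod (a := a) (p := 11) (by norm_num) hx hx1
    have h2 : (orbF K a ∩ fx x).card = 1 := by
      rw [Finset.card_eq_one]
      refine ⟨a, ?_⟩
      ext q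
      rw [Finset.mem_singleton]
      constructor
      · intro hq
        rw [Finset.mem_inter] at hq
        have : q ∈ E ∩ fx x := Finset.mem_inter.2 ⟨hsub hq.1, hq.2⟩
        rw [ha] at this
        exact Finset.mem_singleton.1 this
      · rintro rfl
        exact Finset.mem_inter.2 ⟨self_orbF K q, (Finset.mem_inter.1 haE).2⟩
    rw [h2] at h1
    have h3 := Finset.card_le_card hsub
    rw [hEc] at h3
    unfold Nat.ModEq at h1
    have h5 : (orbF K a).card = 1 ∨ (orbF K a).card = 12 := by omega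
    rcases h5 with h5 | h5
    · exact ⟨a, orbF_one h5⟩
    · exfalso
      have h6 : orbF K a = E := Finset.eq_of_subset_of_card_le hsub (by rw [hEc, h5])
      obtain ⟨c, hcE, hcc⟩ := hc'
      rw [← h6] at hcE
      obtain ⟨k, hk, rfl⟩ := mem_orbF.1 hcE
      have h7 := card_orbF K a
      rw [hc, h5] at h7
      have h8' : Nat.card (st K a) = 660 := by omega
      have h9 : k⁻¹ * h * k ∈ st K a := by
        refine ⟨K.mul_mem (K.mul_mem (K.inv_mem hk) hh) hk, ?_⟩
        show (k⁻¹ * h * k) a = a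
        rw [Equiv.Perm.mul_apply, Equiv.Perm.mul_apply, hcc, ← Equiv.Perm.mul_apply, inv_mul_cancel, Equiv.Perm.one_apply]
      have hp : ∀ n, (k⁻¹ * h * k) ^ n = k⁻¹ * h ^ n * k := by
        intro n
        have := conj_pow (i := n) (a := k⁻¹) (b := h)
        rwa [inv_inv] at this
      have h10 : orderOf (k⁻¹ * h * k) = 2 ^ 3 := by
        apply orderOf_eq_prime_pow
        · rw [hp]
          intro h11
          apply h4
          have : h ^ 2 ^ 2 = k * (k⁻¹ * h ^ 2 ^ 2 * k) * k⁻¹ := by group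
          have e : h ^ 4 = h ^ 2 ^ 2 := by norm_num
          rw [e, this, h11]; group
        · rw [hp]
          have e : h ^ 2 ^ (2 + 1) = h ^ 8 := by norm_num
          rw [e, h8]; group
      have h11 : orderOf (⟨k⁻¹ * h * k, h9⟩ : st K a) ∣ Nat.card (st K a) := orderOf_dvd_natCard _
      rw [Subgroup.orderOf_mk, h10, h8'] at h11
      norm_num at h11
  obtain ⟨c, hc'⟩ := fix8 (hM h hh) h8 h4
  by_cases hcD : c ∈ S dod0
  · exact gen (S dod0) (fun g hg q hq => (hDi g hg q).2 hq) hDc (by omega) ⟨c, hcD, hc'⟩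
  · exact gen (S dod0)ᶜ (fun g hg q hq => by
      rw [Finset.mem_compl] at hq ⊢; rwa [hDi g hg q]) hDc' (by omega) ⟨c, Finset.mem_compl.2 hcD, hc'⟩

end Cfsg.Agent.H9
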