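import Cfsg.Agent.H9.GolMod
import Cfsg.Agent.H9.DodComp
import Cfsg.Agent.H9.Mathieu
import Cfsg.Agent.H9.ClsThm
set_option autoImplicit false

/-! The two classes of point stabilisers in the dodecad group. -/

namespace Cfsg.Agent.H9
open Cfsg
open scoped Pointwise

theorem none_dod : (none : GolayPt) ∉ S dod0 := by decide +kernel

theorem M11_mem {g : Equiv.Perm GolayPt} : g ∈ Spor.M11 ↔ (g ∈ M24 ∧ g • S dod0 = S dod0) ∧ g (some 0) = some 0 := by
  rw [Spor.M11, Subgroup.mem_inf, M12_eq]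
  exact Iff.rfl

theorem M12n_mem {g : Equiv.Perm GolayPt} : g ∈ Spor.M12 ⊓ MulAction.stabilizer (Equiv.Perm GolayPt) (none : GolayPt) ↔
    (g ∈ M24 ∧ g • S dod0 = S dod0) ∧ g none = none := by
  rw [Subgroup.mem_inf, M12_eq]
  exact Iff.rfl

theorem not_conj : ¬ ∃ k ∈ Spor.M12, MulAut.conj k • Spor.M11 = Spor.M12 ⊓ MulAction.stabilizer (Equiv.Perm GolayPt) (none : GolayPt) := by
  rintro ⟨k, hk, h⟩
  rw [M12_eq] at hk
  have hk' : k⁻¹ none ∉ S dod0 := by
    rw [K12_inv (K12.inv_mem hk)]; exact none_dod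
  obtain ⟨y, hy, hyne⟩ : ∃ y, y ∉ S dod0 ∧ y ≠ k⁻¹ none := by
    by_contra hh
    push Not at hh
    have h1 : (S dod0)ᶜ ⊆ {k⁻¹ none} := fun y hy => Finset.mem_singleton.2 (hh y (Finset.mem_compl.1 hy))
    have h2 := Finset.card_le_card h1
    rw [Finset.card_compl, card_pt, dodecad_card dod0_mem, Finset.card_singleton] at h2
    omega
  obtain ⟨m, hm, hmi⟩ := K11_comp_trans [k⁻¹ none] [y] (by simp) (by simp) rfl (by simp) (by simpa using hk') (by simpa using hy)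
  have hmi' : m (k⁻¹ none) = y := by simpa using hmi
  rw [← M11_eq] at hm
  have h3 : k * m * k⁻¹ ∈ Spor.M12 ⊓ MulAction.stabilizer (Equiv.Perm GolayPt) (none : GolayPt) := by
    rw [← h]
    exact Subgroup.smul_mem_pointwise_smul m (MulAut.conj k) _ hm
  have h4 := (M12n_mem.1 h3).2
  rw [Equiv.Perm.mul_apply, Equiv.Perm.mul_apply, hmi'] at h4
  exact hyne (by rw [← h4]; simp)

theorem exists_swap : ∃ g ∈ M24, g • Spor.squareDodecad = Finset.univ \ Spor.squareDodecad ∧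
    MulAut.conj g • Spor.M11 = Spor.M12 ⊓ MulAction.stabilizer (Equiv.Perm GolayPt) (none : GolayPt) := by
  rw [squareDodecad_eq]
  have hc : (S dod0)ᶜ ∈ dodecads := ⟨supp_compl dod0_mem.1, by rw [Finset.card_compl, card_pt, dodecad_card dod0_mem]⟩
  obtain ⟨g0, hg0, h0⟩ := dodecad_trans dod0_mem hc
  have h1 : g0 (some 0) ∉ S dod0 := by
    rw [← Finset.mem_compl, ← h0]
    refine Finset.mem_smul_finset.2 ⟨some 0, ?_, rfl⟩
    rw [← D_zero]; exact D_mem (by norm_num)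
  obtain ⟨m, hm, hmi⟩ := K11_comp_trans [g0 (some 0)] [none] (by simp) (by simp) rfl (by simp) (by simpa using h1) (by simpa using none_dod)
  have hmi' : m (g0 (some 0)) = none := by simpa using hmi
  have hmK : m ∈ M24 ∧ m • S dod0 = S dod0 := (mem_chn.1 hm).1
  have hg : (m * g0) • S dod0 = (S dod0)ᶜ := by
    rw [mul_smul, h0, smul_compl', hmK.2]
  refine ⟨m * g0, M24.mul_mem hmK.1 hg0, ?_, ?_⟩
  · rw [hg]; exact Finset.compl_eq_univ_sdiff _
  · obtain ⟨g, hgdef⟩ : ∃ g, g = m * g0 := ⟨_, rfl⟩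
    rw [← hgdef] at hg ⊢
    have hgM : g ∈ M24 := by rw [hgdef]; exact M24.mul_mem hmK.1 hg0
    have hg0' : g (some 0) = none := by rw [hgdef]; exact hmi'
    have hcc : ∀ x : Equiv.Perm GolayPt, x • (S dod0)ᶜ = (S dod0)ᶜ ↔ x • S dod0 = S dod0 := by
      intro x
      rw [smul_compl']
      exact compl_inj_iff
    ext x
    rw [Subgroup.mem_pointwise_smul_iff_inv_smul_mem, M12n_mem, ← map_inv, MulAut.smul_def, MulAut.conj_apply, inv_inv, M11_mem]
    constructor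
    · rintro ⟨⟨k1, k2⟩, k3⟩
      have e : x = g * (g⁻¹ * x * g) * g⁻¹ := by group
      refine ⟨⟨?_, ?_⟩, ?_⟩
      · rw [e]; exact M24.mul_mem (M24.mul_mem hgM k1) (M24.inv_mem hgM)
      · rw [← hcc, e, mul_smul, mul_smul, ← hg, inv_smul_smul, k2]
      · have e2 : g⁻¹ none = some 0 := by rw [← hg0']; simp
        rw [e, Equiv.Perm.mul_apply, Equiv.Perm.mul_apply, e2, k3, hg0']
    · rintro ⟨⟨k1, k2⟩, k3⟩
      refine ⟨⟨M24.mul_mem (M24.mul_mem (M24.inv_mem hgM) k1) hgM, ?_⟩, ?_⟩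
      · rw [mul_smul, mul_smul, hg, (hcc x).2 k2, ← hg, inv_smul_smul]
      · rw [Equiv.Perm.mul_apply, Equiv.Perm.mul_apply, hg0', k3, ← hg0']; simp

theorem two_classes : Nonempty (↥(Spor.M12 ⊓ MulAction.stabilizer (Equiv.Perm GolayPt) (none : GolayPt)) ≃* ↥Spor.M11) ∧
    (¬ ∃ k ∈ Spor.M12, MulAut.conj k • Spor.M11 = Spor.M12 ⊓ MulAction.stabilizer (Equiv.Perm GolayPt) (none : GolayPt)) ∧
    ∃ g ∈ M24, g • Spor.squareDodecad = Finset.univ \ Spor.squareDodecad ∧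
      MulAut.conj g • Spor.M11 = Spor.M12 ⊓ MulAction.stabilizer (Equiv.Perm GolayPt) (none : GolayPt) := by
  refine ⟨?_, not_conj, exists_swap⟩
  obtain ⟨g, _, _, h⟩ := exists_swap
  rw [← h]
  exact ⟨(Subgroup.equivSMul (MulAut.conj g) Spor.M11).symm⟩

/-! ### elusive action -/

theorem fx_card_2 {g : Equiv.Perm GolayPt} (hg : g ∈ M24) (h2 : g ^ 2 = 1) (h1 : g ≠ 1) (hf : ∃ p, g p = p) : (fx g).card = 8 := by
  obtain ⟨u, _, h⟩ := conj_2A hg h2 h1 hf
  rw [← fx_conj_card g u, h, fx_c2A, card_S, fx2A_pc]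

theorem fx_card_3 {g : Equiv.Perm GolayPt} (hg : g ∈ M24) (h2 : g ^ 3 = 1) (h1 : g ≠ 1) (hf : ∃ p, g p = p) : (fx g).card = 6 := by
  obtain ⟨u, _, h⟩ := conj_3A hg h2 h1 hf
  rw [← fx_conj_card g u, h, fx_c3A, card_S, fx3A_pc]

theorem fx_dod {g : Equiv.Perm GolayPt} (hg : g ∈ K12) (h1 : g ≠ 1) : (fx g ∩ S dod0).card ≤ 4 := by
  by_contra hh
  obtain ⟨s, hs, hs5⟩ := Finset.exists_subset_card_eq (s := fx g ∩ S dod0) (n := 5) (by omega)
  apply h1
  refine K12_eq_one hg s.toList s.nodup_toList (by rw [Finset.length_toList, hs5]) ?_ ?_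
  · intro x hx
    exact (Finset.mem_inter.1 (hs (Finset.mem_toList.1 hx))).2
  · intro x hx
    exact mem_fx.1 (Finset.mem_inter.1 (hs (Finset.mem_toList.1 hx))).1

theorem elusive {g : Equiv.Perm GolayPt} (hg : g ∈ Spor.M11) (hord : (orderOf g).Prime) : ∃ x : GolayPt, x ∉ Spor.squareDodecad ∧ g x = x := by
  rw [squareDodecad_eq]
  have hK : g ∈ K12 := (M11_mem.1 hg).1
  have h0 : g (some 0) = some 0 := (M11_mem.1 hg).2
  have h1 : g ≠ 1 := by
    rintro rfl
    rw [orderOf_one] at hord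
    exact Nat.not_prime_one hord
  have hpow : g ^ orderOf g = 1 := pow_orderOf_eq_one g
  have hsmall : 5 ≤ (fx g).card → ∃ x : GolayPt, x ∉ S dod0 ∧ g x = x := by
    intro h5
    have h6 := fx_dod hK h1
    have h7 := Finset.card_sdiff_add_card_inter (fx g) (S dod0)
    obtain ⟨x, hx⟩ := Finset.card_pos.1 (show 0 < (fx g \ S dod0).card by omega)
    rw [Finset.mem_sdiff] at hx
    exact ⟨x, hx.2, mem_fx.1 hx.1⟩
  by_cases hd : orderOf g ∣ 12
  · have h23 : orderOf g = 2 ∨ orderOf g = 3 := by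
      have : orderOf g ∣ 2 ^ 2 * 3 := by simpa using hd
      rcases hord.dvd_mul.1 this with h | h
      · left; exact (Nat.prime_dvd_prime_iff_eq hord Nat.prime_two).1 (hord.dvd_of_dvd_pow h)
      · right; exact (Nat.prime_dvd_prime_iff_eq hord Nat.prime_three).1 h
    rcases h23 with h | h
    · rw [h] at hpow
      exact hsmall (by rw [fx_card_2 hK.1 hpow h1 ⟨_, h0⟩]; norm_num)
    · rw [h] at hpow
      exact hsmall (by rw [fx_card_3 hK.1 hpow h1 ⟨_, h0⟩]; norm_num)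
  · haveI : Fact (orderOf g).Prime := ⟨hord⟩
    have hinv : ∀ x, g x ∉ S dod0 ↔ x ∉ S dod0 := fun x => not_congr (K12_inv hK)
    have hc : Fintype.card {x : GolayPt // x ∉ S dod0} = 12 := by
      rw [Fintype.card_subtype_compl, Fintype.card_coe, card_pt, dodecad_card dod0_mem]
    obtain ⟨a, ha⟩ := Equiv.Perm.exists_fixed_point_of_prime (p := orderOf g) (n := 1) (α := {x : GolayPt // x ∉ S dod0})
      (by rw [hc]; exact hd) (σ := g.subtypePerm hinv) (by
        rw [pow_one, Equiv.Perm.subtypePerm_pow]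
        apply Equiv.ext
        intro x
        apply Subtype.ext
        rw [Equiv.Perm.subtypePerm_apply]
        change (g ^ orderOf g) (x : GolayPt) = x
        rw [hpow]; rfl)
    exact ⟨a.1, a.2, congrArg Subtype.val ha⟩

end Cfsg.Agent.H9
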