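import Cfsg.Agent.H9.PermMask
import Cfsg.Agent.H9.Chain
set_option autoImplicit false

/-! The group of the length-24 code: order and 5-transitivity. -/

namespace Cfsg.Agent.H9
open Cfsg
open scoped Pointwise

/-- base points -/
def bs (i : ℕ) : ℕ := lookW 5 31 4465951767 i

/-- basic orbits -/
def orb (i : ℕ) : ℕ := look24 0x7dbfd00240207ffff87ffffc7ffffe7fffffffffff i

/-- transversals -/
def trTab : ℕ := 0xbdab49ca307b9ac5a928398a418820b926faa22da3a0b6255231cb618820bcc8cb2a265b8f47c9096c0b518820bbd8459e29b39559b606920b418820bd6cb22627638cfa224a834b318820ba1474922b3398d85676a3cb218820bdab49ca307b9ac5a928398a418820bb4c93ae2453ac893e8c9d4b018820bd17661a2a23933ac1a7448af18820bdab49ca307b9ac5a928398a418820bc0ea332364b892451ebaccad18820bae957b6289ba44b1cd0524ac18820bb1f3a4232ab916218ed4a8ab18820ba64d4562f83a87312d362caa18820ba91094e346b9e63d8955b0a918820bc92655a2c3b9706cea47d0a818820b99b28523343aaa4b16f258a718820b9e086be3593a6952d94b10a618820bdab49ca307b9ac5a928398a41882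0bdab49ca307b9ac5a928398a418820bdab49ca307b9ac5a928398a418820bdab49ca307b9ac5a928398a418820bdab49ca307b9ac5a928398a418820bdab49ca307b9ac5a928398a418820bdab49ca307b9ac5a928398a418820bdab49ca307b9ac5a928398a418820bdab49ca307b9ac5a928398a418820bdab49ca307b9ac5a928398a418820bdab49ca307b9ac5a928398a418820bdab49ca307b9ac5a928398a418820bb2c9819c8795753d1536923218820bdab49ca307b9ac5a928398a418820bdab49ca307b9ac5a928398a418820bd58a410b37c4f66a6905c9c618820bdab49ca307b9ac5a928398a418820bdab49ca307b9ac5a928398a418820bdab49ca307b9ac5a928398a418820bdab49ca307b9ac5a928398a418820bdab49ca307b9ac5a928398a418820bdab49ca307b9ac5a928398a418820bdab49ca307b9ac5a928398a418820bdab49ca307b9ac5a928398a418820bdab49ca307b9ac5a928398a418820bdab49ca307b9ac5a928398a418820bdab49ca307b9ac5a928398a418820bdab49ca307b9ac5a928398a418820bdab49ca307b9ac5a928398a418820bdab49ca307b9ac5a928398a418820bdab49ca307b9ac5a928398a418820bd5f2a39b3640e32ad114a886b0820ba22f19272a1970b254d714eca8820bc10e619368a89538cb392d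eda0820bb0a9712ab51e50b3e8d1c4c898820b9d25a11751b270b45cd53d0690820bd952799c458e079a1954d0ad88820bc92e7d6c81b58731633a288b80820bc1c72ca8d32acb4566c88d2478820bb286790b238d0d84eb65262b70820bce43452078daaf515c962c8668820bd9e649570aa1a389e6e5524460820bc0c39a50d732cfa44aaa9e4458820b91d32ad36abdb2618e888e9050820ba265a914c7525668e3031deb48820bb46f2cd9652e063d1357464440820bc86a890c84cd90b51ed2baab38820bb5514c8f61d608638aba3e6430820bad33511c8ac64d818f67d06c28820bae8e519ac1d913a96274be1220820bdab49ca307b9ac5a928398a418820bdab49ca307b9ac5a928398a418820bdab49ca307b9ac5a928398a418820bdab49ca307b9ac5a928398a418820bdab49ca307b9ac5a928398a418820b9d22719ea83172291b444eb11d820bcda34d1467b851832c82ac8795420bd9487cda68b24b242a3125c53d020ba5aa88868291d53c18693e965cc20bcd651292da1de4758d5432111c820bb5cb1a60f3a24c25946116b3a4420bc66250cd56ad12492c7615d47c020bc071b50ae910c954da26550b3bc20baa33141b2b508b3212f195953b820ba452b0d8b7baaa34668240e5a3420bc1afa1a53b20a448eb13b96a13020bb6c638e45831249b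dd48a91512c20ba6062c5cf1d447b21ab9b09492820b960e388cb992aaa590f90e2d62420bda038be496ae6429947a558e12020bd922935ea9962e654d41c08b41c20bb5f481d2a91073a96c25b98889820bced5a09ec4914e8b563918f041420ba66d1d5f1b1d8e50a12a2ca641020bd8c76c675911e5726024296ca0c20bdab49ca307b9ac5a928398a418820bdab49ca307b9ac5a928398a418820bdab49ca307b9ac5a928398a418820bdab49ca307b9ac5a928398a418820ba0ce80487115af65163526728d6c0bb9246a8488c187a5a6358646796a0bc58249cd05b50553ac39c8817d680bb830a558549a4878a2a20da7b2e60bba8ab116d7c52899d90286a219a40bc98229db5820d60cd2a7d08372e20ba6a873221b124612cb49b5e750e00b95b1132617408a326b21ae88b1de0bc0316c8453552f42a633b2c45d1c0bb9f514094b24258a24658e6c51da0b910b49c52b44b474cc17c2a353580b8a8d33e12714359c48a49c6cb2160bc09671a8c88a636ace89552578540bc5f43344a732555c08198ec839520b8a13614c472eaa8d8327b6833a500bc57320dc5b08c14be92ab10d540e0bccb5585c87da098d1ac508f2190c0bae7610e357183263d44a22093b4a0bc54770a697ad90b150daca8618480b8a6f8b526b3a922542541d7053060bace589acc7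cd0d75609a11411c840bdab49ca307b9ac5a928398a418820bdab49ca307b9ac5a928398a418820bdab49ca307b9ac5a928398a418820bd6939460f7358b525073148310416bd2728c1ee6b16a4a0e629062082d5bce5183dcd62d4941cc520c4105ab4bca307b9ac5a928398a418820b5693bc60f7358b525073148310416ad272bc1ee6b16a4a0e629062082d5a4e51bbdcd62d4941cc520c4105ab49ca30bb9ac5a928398a418820b56939460fbb58b525073148310416ad2728c1eebb16a4a0e629062082d5a4e5183dcdbad4941cc520c4105ab49ca307b9acba928398a418820b56939460f7358bba5073148310416ad2728c1ee6b16aba0e629062082d5a4e5183dcd62d49b9cc520c4105ab49ca307b9ac5a928b98a418820b56939460f7358b52507b948310416ad2728c1ee6b16a4a0e6b9062082d5a4e5183dcd62d4941cc5b8c4105ab49ca307b9ac5a928398a4b8820b56939460f7358b5250731483b8416ad2728c1ee6b16a4a0e629062b82d5a4e5183dcd62d4941cc520c41bdab49ca307b9ac5a928398a418820bdab49ca307b9ac5a928398a418820b2ce568d2289a817926c9220e556e0aa8c4609018166070e4b89ded4d2f6a39f3b262b30112a88703b097695419b5d2aa20a2d8f1a044f32c7761120929768beb37086ca24c02dd0d392018a555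83a926844b9a0b625cec30de084883315c8a362051eb758ac97cd817c462291a79b21649a97506a87496074ab3036c162d17a460433ca93a8436c692b32a05a8f79c1e32b8883242264271aae96524d793dc2234672a0015be50a2a754a0b78b9a11b04621ec053a2f9a65441c978358012c2519ab64cc87118a3a5eaf6b20b75a4142a204152f159b71c5c13ac9054e55a180c3910e0d597141a03286f4ca34996cb31e4e65150485a445963989e0ac4b729a2d5cd2f401833d542905d6a40972160c5490e3d96235121881b59bc77191eb4c4ed355412cd00859949385710dca440cc2d120248f67d5738b437089a93bcab24d161c4d57515283017005883388a1c8f5140b46cd317aed7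

/-- transversal element -/
def tr (i x : ℕ) : ℕ := lookW 120 1329227995784915872903807060280344575 trTab (Nat.add (Nat.mul i 24) x)

/-- the standard octad -/
def oct0 : ℕ := 8536111


/-- check of one transversal level -/
noncomputable def trLevel (i : ℕ) : Bool :=
  allN (fun x => @Bool.rec (fun _ => Bool) true
    (@Bool.rec (fun _ => Bool) false
      (@Bool.rec (fun _ => Bool) false
        (allN (fun j => Nat.beq (im (tr i x) (bs j)) (bs j)) i)
        (Nat.beq (im (tr i x) (bs i)) x))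
      (checkM24 (tr i x)))
    (Nat.beq (bt (orb i) x) 1)) 24

theorem trLevels_ok : allN trLevel 7 = true := by decide +kernel

theorem bs_lt : allN (fun i => Nat.blt (bs i) 24) 7 = true := by decide +kernel

theorem bs_lt' {i : ℕ} (hi : i < 7) : bs i < 24 := by
  have := (allN_iff _ _).1 bs_lt i hi
  simpa [Nat.blt] using this

theorem bt_eq_one {m i : ℕ} (h : m.testBit i = true) : Nat.beq (bt m i) 1 = true := by
  rw [bt_eq, h]; rfl

theorem tr_spec {i x : ℕ} (hi : i < 7) (hx : x < 24) (h : (orb i).testBit x = true) :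
    toPerm (tr i x) ∈ M24 ∧ toPerm (tr i x) (pt (bs i)) = pt x ∧
      ∀ j < i, toPerm (tr i x) (pt (bs j)) = pt (bs j) := by
  have h1 := (allN_iff _ _).1 trLevels_ok i hi
  have h2 := (allN_iff _ _).1 h1 x hx
  rw [bt_eq_one h] at h2
  obtain ⟨h3, h4⟩ := (brec_false _ _).1 h2
  obtain ⟨h5, h6⟩ := (brec_false _ _).1 h4
  have hp := checkM24_perm h3
  refine ⟨checkM24_mem h3, ?_, fun j hj => ?_⟩
  · rw [toPerm_pt hp (bs_lt' hi), Nat.eq_of_beq_eq_true h5]
  · rw [toPerm_pt hp (bs_lt' (by omega)), Nat.eq_of_beq_eq_true ((allN_iff _ _).1 h6 j hj)]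

/-- base point -/
def B (i : ℕ) : GolayPt := pt (bs i)

/-- pointwise stabilizers of initial segments of the base -/
def Hc : ℕ → Subgroup (Equiv.Perm GolayPt)
  | 0 => M24
  | i+1 => Hc i ⊓ MulAction.stabilizer (Equiv.Perm GolayPt) (B i)

theorem mem_Hc {i : ℕ} {g : Equiv.Perm GolayPt} : g ∈ Hc i ↔ g ∈ M24 ∧ ∀ j < i, g (B j) = B j := by
  induction i with
  | zero => simp [Hc]
  | succ i ih =>
    rw [Hc, Subgroup.mem_inf, ih]
    have e : g ∈ MulAction.stabilizer (Equiv.Perm GolayPt) (B i) ↔ g (B i) = B i := Iff.rfl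
    rw [e]
    constructor
    · rintro ⟨⟨h1, h2⟩, h3⟩
      refine ⟨h1, fun j hj => ?_⟩
      rcases Nat.lt_succ_iff_lt_or_eq.1 hj with h | rfl
      · exact h2 j h
      · exact h3
    · rintro ⟨h1, h2⟩
      exact ⟨⟨h1, fun j hj => h2 j (by omega)⟩, h2 i (by omega)⟩

theorem trans_step {i : ℕ} (hi : i < 7) {q : GolayPt} (hq : q ∈ S (orb i)) : ∃ g ∈ Hc i, g (B i) = q := by
  rw [mem_S] at hq
  obtain ⟨h1, h2, h3⟩ := tr_spec hi (idx_lt q) hq
  exact ⟨_, mem_Hc.2 ⟨h1, h3⟩, by rw [B, h2, pt_idx]⟩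

theorem orb_small : allN (fun i => allN (fun x => @Bool.rec (fun _ => Bool)
    (allN (fun j => Nat.beq (bt (Nat.shiftLeft 1 (bs j)) x) 0) i == false)
    true (Nat.beq (bt (orb i) x) 1)) 24) 5 = true := by decide +kernel

theorem mem_orb_small {i : ℕ} (hi : i < 5) {q : GolayPt} (h : ∀ j < i, q ≠ B j) : q ∈ S (orb i) := by
  have h1 := (allN_iff _ _).1 ((allN_iff _ _).1 orb_small i hi) (idx q) (idx_lt q)
  rcases (brec_true _ _).1 h1 with h2 | h2
  · rw [mem_S]
    by_contra hc
    have hc' : (orb i).testBit (idx q) = false := by simpa using hc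
    rw [bt_eq, hc'] at h2
    simp at h2
  · exfalso
    have h3 : allN (fun j => Nat.beq (bt (Nat.shiftLeft 1 (bs j)) (idx q)) 0) i = true := by
      rw [allN_iff]
      intro j hj
      rw [bt_eq]
      have h4 : (Nat.shiftLeft 1 (bs j)).testBit (idx q) = false := by
        by_contra h5
        have h6 : (Nat.shiftLeft 1 (bs j)).testBit (idx q) = true := by simpa using h5
        rw [testBit_one_shl] at h6
        apply h j hj
        rw [B, h6, pt_idx]
      rw [h4]; rfl
    rw [h3] at h2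
    simp at h2

theorem oct0_cw : isCW oct0 = true := by decide +kernel
theorem oct0_pc : pc oct0 = 8 := by decide +kernel
theorem oct0_mem : S oct0 ∈ octads := S_mem_octads oct0_cw oct0_pc

/-- mask of the first `n` base points -/
noncomputable def bsMask (n : ℕ) : ℕ := orB (fun i => Nat.shiftLeft 1 (bs i)) n

theorem mem_bsMask {n : ℕ} (hn : n ≤ 7) {p : GolayPt} : p ∈ S (bsMask n) ↔ ∃ i < n, p = B i := by
  rw [mem_S, bsMask, testBit_orB]
  refine exists_congr fun i => and_congr_right fun hi => ?_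
  rw [testBit_one_shl, B]
  constructor
  · intro h; rw [h, pt_idx]
  · rintro rfl; rw [idx_pt (bs_lt' (by omega))]

theorem oct0_base : pc (Nat.land oct0 (bsMask 5)) = 5 := by decide +kernel

theorem fix_oct0 {g : Equiv.Perm GolayPt} (hg : g ∈ Hc 5) : g • S oct0 = S oct0 := by
  rw [mem_Hc] at hg
  apply octad_fixed hg.1 oct0_mem (F := S (bsMask 5))
  · intro p hp
    obtain ⟨i, hi, rfl⟩ := (mem_bsMask (by norm_num)).1 hp
    exact hg.2 i hi
  · rw [pc_and]; exact oct0_base.ge

theorem orb5_eq : orb 5 = Nat.land oct0 (Nat.xor (bsMask 5) 16777215) := by decide +kernel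
theorem orb6_eq : orb 6 = Nat.xor oct0 16777215 := by decide +kernel
theorem B5_mem : B 5 ∈ S oct0 := by
  rw [mem_S, B, idx_pt (bs_lt' (by norm_num))]; decide +kernel
theorem B6_notMem : B 6 ∉ S oct0 := by
  rw [mem_S, B, idx_pt (bs_lt' (by norm_num))]; decide +kernel

theorem smul_mem_of_fix {g : Equiv.Perm GolayPt} {s : Finset GolayPt} (h : g • s = s) {p : GolayPt} :
    g p ∈ s ↔ p ∈ s := by
  constructor
  · intro hp
    rw [← h] at hp
    obtain ⟨q, hq, h2⟩ := Finset.mem_smul_finset.1 hp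
    rw [Equiv.Perm.smul_def] at h2
    rwa [← g.injective h2]
  · intro hp
    rw [← h]; exact Finset.mem_smul_finset.2 ⟨p, hp, rfl⟩

theorem bs_inj : allN (fun i => allN (fun j => Nat.beq (bs j) (bs i) == false) i) 7 = true := by
  decide +kernel

theorem B_ne {i j : ℕ} (hi : i < 7) (hj : j < i) : B i ≠ B j := by
  intro h
  have h1 := (allN_iff _ _).1 ((allN_iff _ _).1 bs_inj i hi) j hj
  have h2 := pt_inj (bs_lt' hi) (bs_lt' (by omega)) h
  rw [h2] at h1
  simp at h1

theorem orbit_step {i : ℕ} (hi : i < 7) {g : Equiv.Perm GolayPt} (hg : g ∈ Hc i) : g (B i) ∈ S (orb i) := by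
  have hlt : i < 5 ∨ i = 5 ∨ i = 6 := by omega
  have hne : ∀ j < i, g (B i) ≠ B j := by
    intro j hj h
    have h1 := (mem_Hc.1 hg).2 j hj
    rw [← h1] at h
    exact B_ne hi hj (g.injective h)
  rcases hlt with h | rfl | rfl
  · exact mem_orb_small h hne
  · have e1 : S (orb 5) = S oct0 ∩ (S (bsMask 5))ᶜ := by
      rw [orb5_eq, ← S_compl, ← S_and]; rfl
    rw [e1, Finset.mem_inter, Finset.mem_compl]
    refine ⟨(smul_mem_of_fix (fix_oct0 hg)).2 B5_mem, fun h => ?_⟩
    obtain ⟨j, hj, h2⟩ := (mem_bsMask (by norm_num)).1 h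
    exact hne j hj h2
  · have e1 : S (orb 6) = (S oct0)ᶜ := by rw [orb6_eq, ← S_compl]; rfl
    rw [e1, Finset.mem_compl]
    have hg5 : g ∈ Hc 5 := mem_Hc.2 ⟨(mem_Hc.1 hg).1, fun j hj => (mem_Hc.1 hg).2 j (by omega)⟩
    rw [smul_mem_of_fix (fix_oct0 hg5)]
    exact B6_notMem

theorem card_Hc_step {i : ℕ} (hi : i < 7) : Nat.card (Hc i) = pc (orb i) * Nat.card (Hc (i+1)) := by
  rw [← card_S]
  exact card_step (Hc i) (B i) (S (orb i)) (fun q hq => trans_step hi hq) (fun g hg => orbit_step hi hg)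

/-- fixing certificate -/
def fixL : List (ℕ × ℕ × ℕ × ℕ) := [(12656663, 8663097, 8663097, 13),
  (3416079, 9543722, 9543722, 20),
  (3416079, 11538486, 11538486, 21),
  (3416079, 3416079, 3416079, 18),
  (11538486, 11538486, 11538486, 12),
  (9347075, 13938692, 13938692, 15),
  (13938692, 13938692, 13938692, 22),
  (1413139, 1413139, 1413139, 16),
  (10825794, 10825794, 10825794, 6),
  (13062145, 4845570, 4845570, 14),
  (13062145, 13062145, 13062145, 17),
  (4845570, 4845570, 4845570, 19),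
  (2019456, 2019456, 2019456, 7),
  (4038912, 4038912, 4038912, 8),
  (8077824, 8077824, 8077824, 9),
  (11654144, 11654144, 11654144, 10),
  (14919680, 14919680, 14919680, 11)]

theorem fixL_ok : fixRun (bsMask 7) fixL = 16777215 := by decide +kernel

theorem Hc7 : Hc 7 = ⊥ := by
  rw [eq_bot_iff]
  intro g hg
  rw [mem_Hc] at hg
  rw [Subgroup.mem_bot]
  apply eq_one_of_fixRun hg.1 fixL_ok
  intro p hp
  obtain ⟨i, hi, rfl⟩ := (mem_bsMask le_rfl).1 hp
  exact hg.2 i hi

theorem card_Hc7 : Nat.card (Hc 7) = 1 := by rw [Hc7]; exact Subgroup.card_bot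
theorem card_Hc6 : Nat.card (Hc 6) = 16 := by
  rw [card_Hc_step (by norm_num), card_Hc7]; decide +kernel
theorem card_Hc5 : Nat.card (Hc 5) = 48 := by
  rw [card_Hc_step (by norm_num), card_Hc6]; decide +kernel
theorem card_Hc4 : Nat.card (Hc 4) = 960 := by
  rw [card_Hc_step (by norm_num), card_Hc5]; decide +kernel
theorem card_Hc3 : Nat.card (Hc 3) = 20160 := by
  rw [card_Hc_step (by norm_num), card_Hc4]; decide +kernel
theorem card_Hc2 : Nat.card (Hc 2) = 443520 := by
  rw [card_Hc_step (by norm_num), card_Hc3]; decide +kernel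
theorem card_Hc1 : Nat.card (Hc 1) = 10200960 := by
  rw [card_Hc_step (by norm_num), card_Hc2]; decide +kernel
theorem card_Hc0 : Nat.card (Hc 0) = 244823040 := by
  rw [card_Hc_step (by norm_num), card_Hc1]; decide +kernel

theorem card_M24 : Nat.card M24 = 244823040 := card_Hc0

/-- 5-transitivity, moving to the standard base -/
theorem exists_to_base : ∀ k ≤ 5, ∀ x : ℕ → GolayPt, (∀ i < k, ∀ j < i, x i ≠ x j) →
    ∃ g ∈ M24, ∀ i < k, g (x i) = B i := by
  intro k
  induction k with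
  | zero => intro _ x _; exact ⟨1, M24.one_mem, by simp⟩
  | succ k ih =>
    intro hk x hx
    obtain ⟨g, hg, h1⟩ := ih (by omega) x (fun i hi => hx i (by omega))
    have h2 : g (x k) ∈ S (orb k) := by
      apply mem_orb_small (by omega)
      intro j hj h
      rw [← h1 j hj] at h
      exact hx k (by omega) j hj (g.injective h)
    obtain ⟨u, hu, h3⟩ := trans_step (by omega) h2
    rw [mem_Hc] at hu
    refine ⟨u⁻¹ * g, M24.mul_mem (M24.inv_mem hu.1) hg, fun i hi => ?_⟩
    rw [Equiv.Perm.mul_apply, Equiv.Perm.inv_eq_iff_eq]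
    rcases Nat.lt_succ_iff_lt_or_eq.1 hi with h | rfl
    · rw [h1 i h, hu.2 i h]
    · exact h3.symm

theorem five_trans (x y : Fin 5 ↪ GolayPt) : ∃ g ∈ M24, ∀ i, g (x i) = y i := by
  have key : ∀ x : Fin 5 ↪ GolayPt, ∃ g ∈ M24, ∀ i : Fin 5, g (x i) = B i := by
    intro x
    obtain ⟨g, hg, h⟩ := exists_to_base 5 le_rfl (fun i => if h : i < 5 then x ⟨i, h⟩ else none) (by
      intro i hi j hj
      have hj' : j < 5 := by omega
      simp only [hi, hj', dif_pos]
      intro h
      have := x.injective h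
      simp only [Fin.mk.injEq] at this
      omega)
    refine ⟨g, hg, fun i => ?_⟩
    have := h i i.2
    simpa using this
  obtain ⟨g, hg, h1⟩ := key x
  obtain ⟨k, hk, h2⟩ := key y
  exact ⟨k⁻¹ * g, M24.mul_mem (M24.inv_mem hk) hg, fun i => by
    rw [Equiv.Perm.mul_apply, Equiv.Perm.inv_eq_iff_eq, h1, h2]⟩

theorem five_trans' : MulAction.IsMultiplyPretransitive M24 GolayPt 5 := by
  refine ⟨fun x y => ?_⟩
  obtain ⟨g, hg, h⟩ := five_trans x y
  exact ⟨⟨g, hg⟩, Function.Embedding.ext fun i => h i⟩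

end Cfsg.Agent.H9
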