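import Cfsg.Agent.H9.M24Stab
import Cfsg.Agent.H9.M24Gen
set_option autoImplicit false

/-! Simplicity of the Mathieu groups. -/

namespace Cfsg.Agent.H9
open Cfsg
open scoped Pointwise

theorem pow_perm_one {P k : ℕ} (hp : isPerm P = true) (h : ∀ i < 24, (im P)^[k] i = i) : toPerm P ^ k = 1 := by
  have key : ∀ n, ∀ p, idx ((toPerm P ^ n) p) = (im P)^[n] (idx p) := by
    intro n
    induction n with
    | zero => intro p; rfl
    | succ n ih =>
      intro p
      rw [pow_succ', Equiv.Perm.mul_apply, idx_toPerm hp, ih, Function.iterate_succ_apply']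
  ext1 p
  apply idx_inj
  rw [key, h _ (idx_lt p)]; rfl

/-- iterate of the packed permutation -/
noncomputable def imN (P k i : ℕ) : ℕ := @Nat.rec (fun _ => ℕ) i (fun _ x => im P x) k

theorem imN_eq (P k i : ℕ) : imN P k i = (im P)^[k] i := by
  induction k with
  | zero => rfl
  | succ k ih => rw [Function.iterate_succ_apply', ← ih]; rfl

theorem pow_perm_one' {P k : ℕ} (hp : isPerm P = true) (h : allN (fun i => Nat.beq (imN P k i) i) 24 = true) :
    toPerm P ^ k = 1 := by
  apply pow_perm_one hp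
  intro i hi
  rw [← imN_eq]; exact Nat.eq_of_beq_eq_true ((allN_iff _ _).1 h i hi)

/-- a subgroup given by two elements is generated by them -/
theorem genG2 (PP : ℕ) : genG PP 2 = Subgroup.closure {toPerm (pk PP 0), toPerm (pk PP 1)} := by
  unfold genG
  congr 1
  ext g
  constructor
  · rintro ⟨i, hi, rfl⟩
    interval_cases i
    · left; rfl
    · right; rfl
  · rintro (rfl | h)
    · exact ⟨0, by norm_num, rfl⟩
    · rw [Set.mem_singleton_iff] at h; exact ⟨1, by norm_num, h⟩

/-- coatom criterion for 2-transitive permutation groups -/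
theorem coatom_two_trans {α : Type*} [DecidableEq α] [Finite α] (G : Subgroup (Equiv.Perm α)) (O : Finset α) (a b : α)
    (haO : a ∈ O) (hbO : b ∈ O) (hab : b ≠ a) (h1 : ∀ q ∈ O, ∃ g ∈ G, g a = q) (h2 : ∀ g ∈ G, g a ∈ O)
    (h3 : ∀ q ∈ O, q ≠ a → ∃ g ∈ G, g a = a ∧ g b = q) : IsCoatom (MulAction.stabilizer G a) := by
  refine coatom_of_suborbits (G := G) a O ?_ (fun _ => 0) {0} (fun _ _ _ => by simp) ?_ ?_ ?_
  · intro x
    constructor
    · intro hx
      obtain ⟨g, hg, h⟩ := h1 x hx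
      exact ⟨⟨g, hg⟩, h⟩
    · rintro ⟨g, rfl⟩; exact h2 g g.2
  · intro x hx y hy hxa hya _
    obtain ⟨g, hg, h4, h5⟩ := h3 x hx hxa
    obtain ⟨k, hk, h6, h7⟩ := h3 y hy hya
    refine ⟨⟨k, hk⟩ * ⟨g, hg⟩⁻¹, ?_, ?_⟩
    · rw [MulAction.mem_stabilizer_iff]
      show k (g⁻¹ a) = a
      rw [Equiv.Perm.inv_eq_iff_eq.2 h4.symm, h6]
    · show k (g⁻¹ x) = y
      rw [Equiv.Perm.inv_eq_iff_eq.2 h5.symm, h7]
  · intro C hC hd
    rw [Finset.subset_singleton_iff] at hC
    rcases hC with rfl | rfl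
    · exact Or.inl rfl
    · right
      rw [Finset.sum_singleton]
      have : (O.filter fun x => x ≠ a ∧ (0:ℕ) = 0) = O.erase a := by
        ext x; simp [and_comm]
      rw [this, Finset.card_erase_of_mem haO]
      have := Finset.card_pos.2 ⟨a, haO⟩
      omega
  · exact Finset.one_lt_card.2 ⟨b, hbO, a, haO, hab⟩

/-- simplicity criterion for 2-transitive permutation groups -/
theorem simple_two_trans {α : Type*} [DecidableEq α] [Finite α] (G : Subgroup (Equiv.Perm α)) (O : Finset α) (a b : α)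
    (haO : a ∈ O) (hbO : b ∈ O) (hab : b ≠ a) (h1 : ∀ q ∈ O, ∃ g ∈ G, g a = q) (h2 : ∀ g ∈ G, g a ∈ O)
    (h3 : ∀ q ∈ O, q ≠ a → ∃ g ∈ G, g a = a ∧ g b = q) (hfaith : ∀ g ∈ G, (∀ q ∈ O, g q = q) → g = 1)
    (p : ℕ) (hp : p.Prime) (hpG : ¬ p ∣ Nat.card G / O.card) (s : Set (Equiv.Perm α))
    (hs : Subgroup.closure s = G) (hsp : ∀ x ∈ s, ∃ k, x ^ (p ^ k) = 1) : IsSimpleGroup G := by
  have hcard := card_step G a O h1 h2
  have hst : Nat.card (MulAction.stabilizer G a) = Nat.card ↥(G ⊓ MulAction.stabilizer (Equiv.Perm α) a) := by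
    have h2 : MulAction.stabilizer G a = (MulAction.stabilizer (Equiv.Perm α) a).subgroupOf G := by
      ext x; rfl
    rw [h2, inf_comm, ← Subgroup.subgroupOf_map_subtype]
    exact (Nat.card_congr (Subgroup.equivMapOfInjective _ _ G.subtype_injective).toEquiv)
  have hOpos : 0 < O.card := Finset.card_pos.2 ⟨a, haO⟩
  have : Nontrivial G := by
    obtain ⟨g, hg, h⟩ := h1 b hbO
    refine ⟨⟨g, hg⟩, 1, fun h' => ?_⟩
    have : g = 1 := congrArg Subtype.val h'
    rw [this] at h
    exact hab h.symm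
  refine simple_of_max' G (MulAction.stabilizer G a) (coatom_two_trans G O a b haO hbO hab h1 h2 h3) ?_ p hp ?_ s hs hsp
  · intro x hx
    apply Subtype.ext
    apply hfaith x x.2
    intro q hq
    obtain ⟨g, hg, rfl⟩ := h1 q hq
    have := hx (⟨g, hg⟩⁻¹)
    rw [MulAction.mem_stabilizer_iff, inv_inv] at this
    have h4 : g⁻¹ ((x : Equiv.Perm α) (g a)) = a := this
    rw [Equiv.Perm.inv_eq_iff_eq] at h4
    exact h4
  · rw [hst]
    rw [hcard, Nat.mul_div_cancel_left _ hOpos] at hpG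
    exact hpG

/-! ### M24 -/

theorem sep_octad {p q : GolayPt} (h : p ≠ q) : ∃ o ∈ octads, p ∈ o ∧ q ∉ o := by
  obtain ⟨g, hg, h1⟩ := exists_to_base 2 (by norm_num) (fun i => if i = 0 then p else q) (by
    intro i hi j hj
    have : i = 1 := by omega
    have : j = 0 := by omega
    subst_vars
    simpa using h.symm)
  have hp : g p = B 0 := by simpa using h1 0 (by norm_num)
  have hq : g q = B 1 := by simpa using h1 1 (by norm_num)
  -- a permutation in M24 fixing B 0 and moving B 1 to B 6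
  obtain ⟨u, hu, h2⟩ := trans_step (i := 1) (by norm_num) (q := B 6) (by
    apply mem_orb_small (by norm_num)
    intro j hj
    exact B_ne (by norm_num) (by omega))
  rw [mem_Hc] at hu
  refine ⟨(u * g)⁻¹ • S oct0, smul_mem_octads (M24.inv_mem (M24.mul_mem hu.1 hg)) oct0_mem, ?_, ?_⟩
  · rw [Finset.mem_inv_smul_finset_iff]
    show u (g p) ∈ S oct0
    rw [hp, hu.2 0 (by norm_num)]
    rw [mem_S, B, idx_pt (bs_lt' (by norm_num))]; decide +kernel
  · rw [Finset.mem_inv_smul_finset_iff]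
    show u (g q) ∉ S oct0
    rw [hq, h2]; exact B6_notMem

theorem eq_one_of_octads {g : Equiv.Perm GolayPt} (h : ∀ o ∈ octads, g • o = o) : g = 1 := by
  ext1 p
  by_contra hne
  obtain ⟨o, ho, h1, h2⟩ := sep_octad (p := p) (q := g p) (fun h => hne h.symm)
  rw [← h o ho] at h2
  exact h2 (Finset.mem_smul_finset.2 ⟨p, h1, rfl⟩)

theorem g24_ord : allN (fun i => Nat.beq (imN (pk g24T 0) 23 i) i) 24 = true ∧
    allN (fun i => Nat.beq (imN (pk g24T 1) 23 i) i) 24 = true := by
  constructor <;> decide +kernel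

theorem g24_mem : allN (fun i => checkM24 (pk g24T i)) 2 = true := by decide +kernel

theorem card_oct_stab {o : Finset GolayPt} (ho : o ∈ octads) : Nat.card (MulAction.stabilizer M24 o) = 322560 := by
  have h2 := Subgroup.card_mul_index (MulAction.stabilizer M24 o)
  rw [MulAction.index_stabilizer] at h2
  have h3 : MulAction.orbit M24 o = octads := by
    ext s
    constructor
    · rintro ⟨g, rfl⟩; exact smul_mem_octads g.2 ho
    · intro hs
      obtain ⟨g, hg, h⟩ := octad_trans ho hs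
      exact ⟨⟨g, hg⟩, h⟩
  rw [h3, octads_ncard, card_M24] at h2
  omega

theorem m24_simple : IsSimpleGroup M24 := by
  have : Nontrivial M24 := by
    rw [← Finite.one_lt_card_iff_nontrivial, card_M24]; norm_num
  have hp : ∀ i < 2, isPerm (pk g24T i) = true := fun i hi => (allN_iff _ _).1 g24_isPerm i hi
  refine simple_of_max' M24 (MulAction.stabilizer M24 (S oct0)) (octad_coatom oct0_mem) ?_ 23 (by norm_num) ?_
    {toPerm (pk g24T 0), toPerm (pk g24T 1)} ?_ ?_
  · intro x hx
    apply Subtype.ext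
    apply eq_one_of_octads
    intro o ho
    obtain ⟨g, hg, rfl⟩ := octad_trans oct0_mem ho
    have := hx (⟨g, hg⟩⁻¹)
    rw [MulAction.mem_stabilizer_iff, inv_inv] at this
    have h4 : (g⁻¹ * (x : Equiv.Perm GolayPt) * g) • S oct0 = S oct0 := this
    rw [mul_smul, mul_smul, inv_smul_eq_iff] at h4
    exact h4
  · rw [card_oct_stab oct0_mem]; norm_num
  · rw [← genG2]
    exact g24_gen (fun i hi => checkM24_mem ((allN_iff _ _).1 g24_mem i hi)) card_M24
  · rintro x (rfl | hx)
    · exact ⟨1, by rw [pow_one]; exact pow_perm_one' (hp 0 (by norm_num)) g24_ord.1⟩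
    · rw [Set.mem_singleton_iff] at hx; subst hx
      exact ⟨1, by rw [pow_one]; exact pow_perm_one' (hp 1 (by norm_num)) g24_ord.2⟩

/-! ### M23 -/

theorem g23_ord : allN (fun i => Nat.beq (imN (pk g23T 0) 23 i) i) 24 = true ∧
    allN (fun i => Nat.beq (imN (pk g23T 1) 23 i) i) 24 = true := by
  constructor <;> decide +kernel

theorem g23_mem : allN (fun i => band (checkM24 (pk g23T i)) (allN (fun j => Nat.beq (im (pk g23T i) (bs j)) (bs j)) 1)) 2
    = true := by decide +kernel

theorem mem_Hc_of_check {P n : ℕ} (hn : n ≤ 7) (h : band (checkM24 P) (allN (fun j => Nat.beq (im P (bs j)) (bs j)) n) = true) :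
    toPerm P ∈ Hc n := by
  obtain ⟨h1, h2⟩ := band_iff.1 h
  refine mem_Hc.2 ⟨checkM24_mem h1, fun j hj => ?_⟩
  rw [B, toPerm_pt (checkM24_perm h1) (bs_lt' (by omega)), Nat.eq_of_beq_eq_true ((allN_iff _ _).1 h2 j hj)]

/-- the chain group fixes the base points and is 2-transitive on the rest -/
theorem Hc_simple (n : ℕ) (hn : n ≤ 3) (p : ℕ) (hp : p.Prime) (hpG : ¬ p ∣ Nat.card (Hc n) / (24 - n))
    (T : ℕ) (hgen : genG T 2 = Hc n)
    (h0 : toPerm (pk T 0) ^ p = 1) (h1 : toPerm (pk T 1) ^ p = 1) : IsSimpleGroup (Hc n) := by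
  classical
  have hcardO : (S (orb n)).card = 24 - n := by
    rw [card_S]
    interval_cases n <;> decide +kernel
  have hmemO : ∀ q, q ∈ S (orb n) ↔ ∀ j < n, q ≠ B j := by
    intro q
    constructor
    · intro hq j hj h
      obtain ⟨g, hg, h2⟩ := trans_step (by omega) hq
      rw [mem_Hc] at hg
      rw [h, ← hg.2 j hj] at h2
      exact B_ne (by omega) hj (g.injective h2)
    · intro h; exact mem_orb_small (by omega) h
  refine simple_two_trans (Hc n) (S (orb n)) (B n) (B (n+1)) ?_ ?_ ?_ (fun q hq => trans_step (by omega) hq)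
    (fun g hg => orbit_step (by omega) hg) ?_ ?_ p hp ?_ {toPerm (pk T 0), toPerm (pk T 1)} ?_ ?_
  · exact (hmemO _).2 fun j hj => B_ne (by omega) hj
  · exact (hmemO _).2 fun j hj => B_ne (by omega) (by omega)
  · exact B_ne (by omega) (by omega)
  · intro q hq hne
    have h2 : q ∈ S (orb (n+1)) := by
      apply mem_orb_small (by omega)
      intro j hj
      rcases Nat.lt_succ_iff_lt_or_eq.1 hj with h | rfl
      · exact (hmemO q).1 hq j h
      · exact hne
    obtain ⟨g, hg, h3⟩ := trans_step (by omega) h2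
    rw [mem_Hc] at hg
    exact ⟨g, mem_Hc.2 ⟨hg.1, fun j hj => hg.2 j (by omega)⟩, hg.2 n (by omega), h3⟩
  · intro g hg h
    ext1 q
    by_cases hq : q ∈ S (orb n)
    · rw [h q hq]; rfl
    · rw [hmemO] at hq
      push Not at hq
      obtain ⟨j, hj, rfl⟩ := hq
      rw [(mem_Hc.1 hg).2 j hj]; rfl
  · rw [hcardO]; exact hpG
  · rw [← genG2]; exact hgen
  · rintro x (rfl | hx)
    · exact ⟨1, by rw [pow_one]; exact h0⟩
    · rw [Set.mem_singleton_iff] at hx; subst hx
      exact ⟨1, by rw [pow_one]; exact h1⟩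

theorem Hc1_simple : IsSimpleGroup (Hc 1) := by
  have hp : ∀ i < 2, isPerm (pk g23T i) = true := fun i hi => (allN_iff _ _).1 g23_isPerm i hi
  refine Hc_simple 1 (by norm_num) 23 (by norm_num) ?_ g23T ?_ ?_ ?_
  · rw [card_Hc1]; norm_num
  · exact g23_gen (fun i hi => mem_Hc_of_check (by norm_num) ((allN_iff _ _).1 g23_mem i hi)) card_Hc1
  · exact pow_perm_one' (hp 0 (by norm_num)) g23_ord.1
  · exact pow_perm_one' (hp 1 (by norm_num)) g23_ord.2

/-! ### M22 -/

theorem g22_ord : allN (fun i => Nat.beq (imN (pk g22T 0) 11 i) i) 24 = true ∧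
    allN (fun i => Nat.beq (imN (pk g22T 1) 11 i) i) 24 = true := by
  constructor <;> decide +kernel

theorem g22_mem : allN (fun i => band (checkM24 (pk g22T i)) (allN (fun j => Nat.beq (im (pk g22T i) (bs j)) (bs j)) 2)) 2
    = true := by decide +kernel

theorem Hc2_simple : IsSimpleGroup (Hc 2) := by
  have hp : ∀ i < 2, isPerm (pk g22T i) = true := fun i hi => (allN_iff _ _).1 g22_isPerm i hi
  refine Hc_simple 2 (by norm_num) 11 (by norm_num) ?_ g22T ?_ ?_ ?_
  · rw [card_Hc2]; norm_num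
  · exact g22_gen (fun i hi => mem_Hc_of_check (by norm_num) ((allN_iff _ _).1 g22_mem i hi)) card_Hc2
  · exact pow_perm_one' (hp 0 (by norm_num)) g22_ord.1
  · exact pow_perm_one' (hp 1 (by norm_num)) g22_ord.2

end Cfsg.Agent.H9
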