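import Cfsg.Agent.H9.M24Orb
set_option autoImplicit false

/-! Point stabilizers, maximality of duad, triad, octad and dodecad pair stabilizers. -/

namespace Cfsg.Agent.H9
open Cfsg
open scoped Pointwise

/-- transitivity of the pointwise stabilizer of `k ≤ 4` points -/
theorem trans_fix (k : ℕ) (hk : k ≤ 4) (x : ℕ → GolayPt) (hx : ∀ i < k + 1, ∀ j < i, x i ≠ x j) {y : GolayPt}
    (hy : ∀ j < k, y ≠ x j) : ∃ g ∈ M24, (∀ j < k, g (x j) = x j) ∧ g (x k) = y := by
  obtain ⟨g, hg, h1⟩ := exists_to_base (k+1) (by omega) x hx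
  obtain ⟨u, hu, h2⟩ := exists_to_base (k+1) (by omega) (fun i => if i = k then y else x i) (by
    intro i hi j hj
    rw [if_neg (by omega : ¬ j = k)]
    split_ifs with h
    · exact hy j (by omega)
    · exact hx i hi j hj)
  refine ⟨u⁻¹ * g, M24.mul_mem (M24.inv_mem hu) hg, fun j hj => ?_, ?_⟩
  · rw [Equiv.Perm.mul_apply, Equiv.Perm.inv_eq_iff_eq, h1 j (by omega)]
    have := h2 j (by omega)
    simp only [if_neg (by omega : ¬ j = k)] at this
    exact this.symm
  · rw [Equiv.Perm.mul_apply, Equiv.Perm.inv_eq_iff_eq, h1 k (by omega)]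
    have := h2 k (by omega)
    simp only [if_true] at this
    exact this.symm

theorem card_stab1 (p : GolayPt) : Nat.card (MulAction.stabilizer M24 p) = 10200960 := by
  have h := card_step (G := M24) (⊤ : Subgroup M24) p Finset.univ (by
    intro q _
    obtain ⟨g, hg, -, h⟩ := trans_fix 0 (by norm_num) (fun _ => p) (by intro i hi j hj; omega) (y := q)
      (by intro j hj; omega)
    exact ⟨⟨g, hg⟩, Subgroup.mem_top _, h⟩) (fun g _ => Finset.mem_univ _)
  rw [Subgroup.card_top, card_M24, Finset.card_univ, card_pt, top_inf_eq] at h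
  omega

theorem card_stab2 (p q : GolayPt) (hpq : p ≠ q) :
    Nat.card ↥(MulAction.stabilizer M24 p ⊓ MulAction.stabilizer M24 q) = 443520 := by
  have h := card_step (G := M24) (MulAction.stabilizer M24 p) q (Finset.univ.erase p) (by
    intro r hr
    rw [Finset.mem_erase] at hr
    obtain ⟨g, hg, h1, h2⟩ := trans_fix 1 (by norm_num) (fun i => if i = 0 then p else q) (by
        intro i hi j hj
        have : i = 1 := by omega
        have : j = 0 := by omega
        subst_vars
        simpa using hpq.symm) (y := r)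
      (by intro j hj; have : j = 0 := by omega
          subst this; simpa using hr.1)
    refine ⟨⟨g, hg⟩, ?_, by simpa using h2⟩
    rw [MulAction.mem_stabilizer_iff]
    simpa using h1 0 (by norm_num)) (by
    intro g hg
    rw [Finset.mem_erase]
    refine ⟨fun h => ?_, Finset.mem_univ _⟩
    rw [MulAction.mem_stabilizer_iff] at hg
    have : g • q = g • p := by rw [h, hg]
    exact hpq (smul_left_cancel g this).symm)
  rw [card_stab1, Finset.card_erase_of_mem (Finset.mem_univ _), Finset.card_univ, card_pt] at h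
  omega

/-! ### Finset versions -/

/-- the octads as a finset -/
noncomputable def wF (w : ℕ) : Finset (Finset GolayPt) :=
  (Set.toFinite (wordsOfWeight (golayCode : Set (GolayPt → ZMod 2)) w)).toFinset

theorem mem_wF {w : ℕ} {s : Finset GolayPt} : s ∈ wF w ↔ s ∈ wordsOfWeight (golayCode : Set (GolayPt → ZMod 2)) w := by
  simp [wF]

theorem card_wF (w : ℕ) : (wF w).card = (wordsOfWeight (golayCode : Set (GolayPt → ZMod 2)) w).ncard := by
  rw [wF, ← Set.ncard_eq_toFinset_card]

theorem filter_wF (w : ℕ) (P : Finset GolayPt → Prop) [DecidablePred P] :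
    ((wF w).filter P).card = {x | x ∈ wordsOfWeight (golayCode : Set (GolayPt → ZMod 2)) w ∧ P x}.ncard := by
  rw [← Set.ncard_coe_finset]
  congr 1
  ext s
  simp [mem_wF]

theorem octad_coatom {o : Finset GolayPt} (ho : o ∈ octads) : IsCoatom (MulAction.stabilizer M24 o) := by
  classical
  have key : ∀ j, j ≠ 8 → ((wF 8).filter fun x => x ≠ o ∧ (o ∩ x).card = j).card =
      cnt (fun k => band (Nat.beq (pc (enc k)) 8) (Nat.beq (pc (Nat.land (enc k) oct0)) j)) := by
    intro j hj
    rw [filter_wF, ← oct_count ho j 8]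
    congr 1
    ext s
    show (_ ∧ _ ∧ _) ↔ (_ ∧ _)
    refine and_congr_right fun _ => ⟨fun h => h.2, fun h => ⟨?_, h⟩⟩
    rintro rfl
    rw [Finset.inter_self, octad_card ho] at h
    exact hj h.symm
  have c0 : cnt (fun k => band (Nat.beq (pc (enc k)) 8) (Nat.beq (pc (Nat.land (enc k) oct0)) 0)) = 30 := by
    decide +kernel
  have c2 : cnt (fun k => band (Nat.beq (pc (enc k)) 8) (Nat.beq (pc (Nat.land (enc k) oct0)) 2)) = 448 := by
    decide +kernel
  have c4 : cnt (fun k => band (Nat.beq (pc (enc k)) 8) (Nat.beq (pc (Nat.land (enc k) oct0)) 4)) = 280 := by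
    decide +kernel
  have hO : (wF 8).card = 759 := by rw [card_wF]; exact octads_ncard
  refine coatom_of_suborbits o (wF 8) ?_ (fun x => (o ∩ x).card) {0, 2, 4} ?_ ?_ ?_ ?_
  · intro x
    rw [mem_wF]
    constructor
    · intro hx
      obtain ⟨g, hg, h⟩ := octad_trans ho hx
      exact ⟨⟨g, hg⟩, h⟩
    · rintro ⟨g, rfl⟩; exact smul_mem_octads g.2 ho
  · intro x hx hne
    rcases octad_inter ho (mem_wF.1 hx) with h | h | h | h
    · exact absurd h.2.symm hne
    all_goals simp [h]
  · intro x hx y hy _ _ h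
    rw [mem_wF] at hx hy
    obtain ⟨g, hg, h1, h2⟩ := oct_words_trans ho hx.1 hy.1 (by rw [hx.2, hy.2]) h
    exact ⟨⟨g, hg⟩, h1, h2⟩
  · intro C hC
    rw [hO]
    have hC' : C ∈ ({0, 2, 4} : Finset ℕ).powerset := Finset.mem_powerset.2 hC
    have e : ∀ i ∈ C, ((wF 8).filter fun x => x ≠ o ∧ (o ∩ x).card = i).card =
        (if i = 0 then 30 else if i = 2 then 448 else 280) := by
      intro i hi
      have := hC hi
      simp only [Finset.mem_insert, Finset.mem_singleton] at this
      rcases this with rfl | rfl | rfl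
      · rw [key 0 (by norm_num), c0]; rfl
      · rw [key 2 (by norm_num), c2]; rfl
      · rw [key 4 (by norm_num), c4]; rfl
    rw [Finset.sum_congr rfl e]
    revert hC'
    generalize C = C'
    revert C'
    decide
  · rw [hO]; norm_num

end Cfsg.Agent.H9
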