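import Cfsg.Agent.H9.ClsThm
set_option autoImplicit false

/-! Congruences for orbits of subgroups of the group of the code. -/

namespace Cfsg.Agent.H9
open Cfsg
open scoped Pointwise

theorem mod_p {O : Finset GolayPt} {x : Equiv.Perm GolayPt} {p : ℕ} (hp : p.Prime) (hx : x ^ p = 1)
    (hO : ∀ q ∈ O, x q ∈ O) : (O ∩ fx x).card ≡ O.card [MOD p] := by
  classical
  have hO' : ∀ q, x q ∈ O ↔ q ∈ O := by
    intro q
    refine ⟨fun h => ?_, hO q⟩
    have key : ∀ n, ∀ r ∈ O, (x ^ n) r ∈ O := by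
      intro n
      induction n with
      | zero => intro r hr; exact hr
      | succ n ih => intro r hr; rw [pow_succ', Equiv.Perm.mul_apply]; exact hO _ (ih r hr)
    have h1 := key (p - 1) (x q) h
    rw [← Equiv.Perm.mul_apply, ← pow_succ, Nat.sub_add_cancel hp.one_le, hx] at h1
    exact h1
  haveI : Fact p.Prime := ⟨hp⟩
  let σ : Equiv.Perm O := x.subtypePerm hO'
  have hσ : σ ^ p ^ 1 = 1 := by
    rw [pow_one]
    ext ⟨q, hq⟩
    have : ∀ n, ((σ ^ n) ⟨q, hq⟩ : GolayPt) = (x ^ n) q := by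
      intro n
      induction n with
      | zero => rfl
      | succ n ih =>
        rw [pow_succ', pow_succ', Equiv.Perm.mul_apply, Equiv.Perm.mul_apply, ← ih]; rfl
    rw [this, hx]; rfl
  have h1 := Equiv.Perm.card_compl_support_modEq hσ
  rw [Fintype.card_coe] at h1
  have h2 : (σ.supportᶜ).card = (O ∩ fx x).card := by
    rw [← Finset.card_map ⟨Subtype.val, Subtype.val_injective⟩]
    congr 1
    ext q
    rw [Finset.mem_map, Finset.mem_inter, mem_fx]
    constructor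
    · rintro ⟨⟨r, hr⟩, h, rfl⟩
      rw [Finset.mem_compl, Equiv.Perm.notMem_support] at h
      exact ⟨hr, congrArg Subtype.val h⟩
    · rintro ⟨h3, h4⟩
      refine ⟨⟨q, h3⟩, ?_, rfl⟩
      rw [Finset.mem_compl, Equiv.Perm.notMem_support]
      exact Subtype.ext h4
  rw [← h2]; exact h1

theorem fx_mod {x : Equiv.Perm GolayPt} {p : ℕ} (hp : p.Prime) (hx : x ^ p = 1) : (fx x).card ≡ 24 [MOD p] := by
  have := mod_p (O := Finset.univ) hp hx (fun _ _ => Finset.mem_univ _)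
  rwa [Finset.univ_inter, Finset.card_univ, card_pt] at this

theorem fx5 {x : Equiv.Perm GolayPt} (hm : x ∈ M24) (h1 : x ≠ 1) (hx : x ^ 5 = 1) : (fx x).card = 4 := by
  have h2 := fx_mod (by norm_num) hx
  have h3 := fx_le hm h1
  unfold Nat.ModEq at h2
  omega

theorem fx7 {x : Equiv.Perm GolayPt} (hm : x ∈ M24) (h1 : x ≠ 1) (hx : x ^ 7 = 1) : (fx x).card = 3 := by
  have h2 := fx_mod (by norm_num) hx
  have h3 := fx_le hm h1
  unfold Nat.ModEq at h2
  omega

theorem fx11 {x : Equiv.Perm GolayPt} (hm : x ∈ M24) (h1 : x ≠ 1) (hx : x ^ 11 = 1) : (fx x).card = 2 := by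
  have h2 := fx_mod (by norm_num) hx
  have h3 := fx_le hm h1
  unfold Nat.ModEq at h2
  omega

theorem fx23 {x : Equiv.Perm GolayPt} (hm : x ∈ M24) (h1 : x ≠ 1) (hx : x ^ 23 = 1) : (fx x).card = 1 := by
  have h2 := fx_mod (by norm_num) hx
  have h3 := fx_le hm h1
  unfold Nat.ModEq at h2
  omega

/-- Cauchy -/
theorem cauchy {K : Subgroup (Equiv.Perm GolayPt)} {p : ℕ} (hp : p.Prime) (h : p ∣ Nat.card K) :
    ∃ x ∈ K, x ^ p = 1 ∧ x ≠ 1 := by
  haveI : Fact p.Prime := ⟨hp⟩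
  obtain ⟨x, hx⟩ := exists_prime_orderOf_dvd_card' p h
  refine ⟨x, x.2, ?_, ?_⟩
  · have := pow_orderOf_eq_one x
    rw [hx] at this
    exact congrArg Subtype.val this
  · intro h1
    have : x = 1 := Subtype.ext h1
    rw [this, orderOf_one] at hx
    exact hp.one_lt.ne hx

open Classical in
/-- orbit of a point as a finset -/
noncomputable def orbF (K : Subgroup (Equiv.Perm GolayPt)) (a : GolayPt) : Finset GolayPt :=
  Finset.univ.filter fun b => ∃ k ∈ K, k a = b

theorem mem_orbF {K : Subgroup (Equiv.Perm GolayPt)} {a b : GolayPt} : b ∈ orbF K a ↔ ∃ k ∈ K, k a = b := by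
  classical simp [orbF]

theorem self_orbF (K : Subgroup (Equiv.Perm GolayPt)) (a : GolayPt) : a ∈ orbF K a := mem_orbF.2 ⟨1, K.one_mem, rfl⟩

theorem orbF_inv {K : Subgroup (Equiv.Perm GolayPt)} {a : GolayPt} {g : Equiv.Perm GolayPt} (hg : g ∈ K) :
    ∀ q ∈ orbF K a, g q ∈ orbF K a := by
  intro q hq
  obtain ⟨k, hk, rfl⟩ := mem_orbF.1 hq
  exact mem_orbF.2 ⟨g * k, K.mul_mem hg hk, rfl⟩

/-- point stabilizer inside `K` -/
def st (K : Subgroup (Equiv.Perm GolayPt)) (a : GolayPt) : Subgroup (Equiv.Perm GolayPt) :=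
  K ⊓ MulAction.stabilizer (Equiv.Perm GolayPt) a

theorem mem_st {K : Subgroup (Equiv.Perm GolayPt)} {a : GolayPt} {g : Equiv.Perm GolayPt} :
    g ∈ st K a ↔ g ∈ K ∧ g a = a := Iff.rfl

theorem card_orbF (K : Subgroup (Equiv.Perm GolayPt)) (a : GolayPt) :
    Nat.card K = (orbF K a).card * Nat.card (st K a) :=
  card_step K a (orbF K a) (fun _ hq => mem_orbF.1 hq) (fun g hg => mem_orbF.2 ⟨g, hg, rfl⟩)

theorem orbF_mod {K : Subgroup (Equiv.Perm GolayPt)} {a : GolayPt} {x : Equiv.Perm GolayPt} {p : ℕ} (hp : p.Prime)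
    (hx : x ∈ K) (h : x ^ p = 1) : (orbF K a ∩ fx x).card ≡ (orbF K a).card [MOD p] :=
  mod_p hp h (orbF_inv hx)

theorem orbF_one {K : Subgroup (Equiv.Perm GolayPt)} {a : GolayPt} (h : (orbF K a).card = 1) : ∀ g ∈ K, g a = a := by
  intro g hg
  obtain ⟨b, hb⟩ := Finset.card_eq_one.1 h
  have h1 := self_orbF K a
  have h2 := orbF_inv hg a h1
  rw [hb, Finset.mem_singleton] at h1 h2
  rw [h2, h1]

/-- points fixed by `K` are not in other orbits -/
theorem orbF_subset {K : Subgroup (Equiv.Perm GolayPt)} {a : GolayPt} {F : Finset GolayPt} (hF : ∀ q ∈ F, ∀ g ∈ K, g q = q)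
    (ha : a ∉ F) : orbF K a ⊆ Fᶜ := by
  intro q hq
  rw [Finset.mem_compl]
  intro hqF
  obtain ⟨k, hk, rfl⟩ := mem_orbF.1 hq
  have := hF _ hqF k⁻¹ (K.inv_mem hk)
  rw [← Equiv.Perm.mul_apply, inv_mul_cancel, Equiv.Perm.one_apply] at this
  apply ha; rw [this]; exact hqF

theorem orbF_card_le {K : Subgroup (Equiv.Perm GolayPt)} {a : GolayPt} {F : Finset GolayPt} (hF : ∀ q ∈ F, ∀ g ∈ K, g q = q)
    (ha : a ∉ F) : (orbF K a).card ≤ 24 - F.card := by
  have := Finset.card_le_card (orbF_subset hF ha)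
  rwa [Finset.card_compl, card_pt] at this

theorem orbF_pos (K : Subgroup (Equiv.Perm GolayPt)) (a : GolayPt) : 0 < (orbF K a).card :=
  Finset.card_pos.2 ⟨a, self_orbF K a⟩

/-- if `x` fixes exactly the points of `insert a F` and `K` fixes `F`, the orbit of `a` meets `fx x` in `a` -/
theorem inter_one {K : Subgroup (Equiv.Perm GolayPt)} {a : GolayPt} {F : Finset GolayPt} {x : Equiv.Perm GolayPt}
    (hF : ∀ q ∈ F, ∀ g ∈ K, g q = q) (ha : a ∉ F) (hx : fx x = insert a F) : (orbF K a ∩ fx x).card = 1 := by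
  rw [Finset.card_eq_one]
  refine ⟨a, ?_⟩
  ext q
  rw [Finset.mem_inter, Finset.mem_singleton, hx, Finset.mem_insert]
  constructor
  · rintro ⟨h1, rfl | h2⟩
    · rfl
    · exact absurd h2 (Finset.mem_compl.1 (orbF_subset hF ha h1))
  · rintro rfl; exact ⟨self_orbF K q, Or.inl rfl⟩

theorem inter_zero {K : Subgroup (Equiv.Perm GolayPt)} {a : GolayPt} {F : Finset GolayPt} {x : Equiv.Perm GolayPt}
    (hF : ∀ q ∈ F, ∀ g ∈ K, g q = q) (ha : a ∉ F) (hx : fx x = F) : (orbF K a ∩ fx x).card = 0 := by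
  rw [Finset.card_eq_zero, Finset.eq_empty_iff_forall_notMem]
  intro q hq
  rw [Finset.mem_inter, hx] at hq
  exact Finset.mem_compl.1 (orbF_subset hF ha hq.1) hq.2

/-- the fixed point set is exactly `F` when it contains `F` and has the same size -/
theorem fx_eq_of {x : Equiv.Perm GolayPt} {F : Finset GolayPt} (hF : ∀ q ∈ F, x q = q) (hc : (fx x).card = F.card) :
    fx x = F := (Finset.eq_of_subset_of_card_le (fun q hq => mem_fx.2 (hF q hq)) hc.le).symm

/-- one more fixed point -/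
theorem fx_extend {x : Equiv.Perm GolayPt} {F : Finset GolayPt} (hF : ∀ q ∈ F, x q = q) (hc : (fx x).card = F.card + 1) :
    ∃ a, a ∉ F ∧ fx x = insert a F := by
  have hsub : F ⊆ fx x := fun q hq => mem_fx.2 (hF q hq)
  obtain ⟨a, ha, ha'⟩ : ∃ a ∈ fx x, a ∉ F := by
    by_contra hcon
    push Not at hcon
    have := Finset.card_le_card (fun q hq => hcon q hq : fx x ⊆ F)
    omega
  refine ⟨a, ha', ?_⟩
  symm
  apply Finset.eq_of_subset_of_card_le
  · intro q hq
    rcases Finset.mem_insert.1 hq with rfl | h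
    · exact ha
    · exact hsub h
  · rw [Finset.card_insert_of_notMem ha', hc]

end Cfsg.Agent.H9
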