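import Cfsg.Agent.H9.Golay
set_option autoImplicit false

/-! Octads: weights, intersections, the Steiner property. -/

namespace Cfsg.Agent.H9
open Cfsg
open scoped Pointwise

theorem weights_ok : allR (fun k => @Bool.rec (fun _ => Bool)
    (@Bool.rec (fun _ => Bool)
      (@Bool.rec (fun _ => Bool)
        (@Bool.rec (fun _ => Bool) (Nat.beq k 0) true (Nat.beq (pc (enc k)) 24))
        true (Nat.beq (pc (enc k)) 16))
      true (Nat.beq (pc (enc k)) 12))
    true (Nat.beq (pc (enc k)) 8)) 12 0 = true := by decide +kernel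

theorem weight_cases {k : ℕ} (hk : k < 4096) :
    k = 0 ∨ pc (enc k) = 8 ∨ pc (enc k) = 12 ∨ pc (enc k) = 16 ∨ pc (enc k) = 24 := by
  have h := allR_spec weights_ok k (Nat.zero_le _) (by simpa using hk)
  rcases (brec_true _ _).1 h with h | h
  · exact Or.inr (Or.inl (Nat.eq_of_beq_eq_true h))
  rcases (brec_true _ _).1 h with h | h
  · exact Or.inr (Or.inr (Or.inl (Nat.eq_of_beq_eq_true h)))
  rcases (brec_true _ _).1 h with h | h
  · exact Or.inr (Or.inr (Or.inr (Or.inl (Nat.eq_of_beq_eq_true h))))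
  rcases (brec_true _ _).1 h with h | h
  · exact Or.inr (Or.inr (Or.inr (Or.inr (Nat.eq_of_beq_eq_true h))))
  · exact Or.inl (Nat.eq_of_beq_eq_true h)

theorem pc_zero : pc 0 = 0 := by decide +kernel

theorem cw_weight {m : ℕ} (hm : isCW m = true) :
    m = 0 ∨ pc m = 8 ∨ pc m = 12 ∨ pc m = 16 ∨ pc m = 24 := by
  obtain ⟨k, hk, rfl⟩ := isCW_iff.1 hm
  rcases weight_cases hk with rfl | h
  · exact Or.inl enc_zero
  · exact Or.inr h

theorem cw_eq_zero {m : ℕ} (hm : isCW m = true) (h : pc m < 8) : m = 0 := by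
  rcases cw_weight hm with h | h | h | h | h <;> first | exact h | omega

theorem isCW_lt {m : ℕ} (hm : isCW m = true) : m < 2 ^ 24 := by
  obtain ⟨k, _, rfl⟩ := isCW_iff.1 hm; exact enc_lt k

theorem pc_xor (m n : ℕ) : pc (m ^^^ n) + 2 * pc (m &&& n) = pc m + pc n := by
  rw [← card_S, ← card_S, ← card_S, ← card_S, S_xor, S_and]
  have h1 := Finset.card_sdiff_add_card_inter (S m) (S n)
  have h2 := Finset.card_sdiff_add_card_inter (S n) (S m)
  have h3 : (symmDiff (S m) (S n)).card = (S m \ S n).card + (S n \ S m).card := by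
    rw [symmDiff_def]
    exact Finset.card_union_of_disjoint disjoint_sdiff_sdiff
  rw [Finset.inter_comm (S n) (S m)] at h2
  omega

theorem pc_and (m n : ℕ) : (S m ∩ S n).card = pc (m &&& n) := by rw [← S_and, card_S]

/-- code words as sets -/
theorem octad_mask {o : Finset GolayPt} (ho : o ∈ octads) : ∃ m, isCW m = true ∧ pc m = 8 ∧ o = S m := by
  obtain ⟨k, hk, h1, h2⟩ := mem_octads_iff.1 ho
  exact ⟨enc k, isCW_iff.2 ⟨k, hk, rfl⟩, h1, h2⟩

theorem dodecad_mask {o : Finset GolayPt} (ho : o ∈ dodecads) :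
    ∃ m, isCW m = true ∧ pc m = 12 ∧ o = S m := by
  obtain ⟨k, hk, h1, h2⟩ := mem_dodecads_iff.1 ho
  exact ⟨enc k, isCW_iff.2 ⟨k, hk, rfl⟩, h1, h2⟩

theorem S_mem_octads {m : ℕ} (h : isCW m = true) (h8 : pc m = 8) : S m ∈ octads := by
  obtain ⟨k, hk, rfl⟩ := isCW_iff.1 h
  exact mem_octads_iff.2 ⟨k, hk, h8, rfl⟩

theorem S_mem_dodecads {m : ℕ} (h : isCW m = true) (h8 : pc m = 12) : S m ∈ dodecads := by
  obtain ⟨k, hk, rfl⟩ := isCW_iff.1 h
  exact mem_dodecads_iff.2 ⟨k, hk, h8, rfl⟩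

theorem octad_card {o : Finset GolayPt} (ho : o ∈ octads) : o.card = 8 := ho.2
theorem dodecad_card {o : Finset GolayPt} (ho : o ∈ dodecads) : o.card = 12 := ho.2

/-- two octads with at least five common points coincide -/
theorem octad_eq_of_inter {o o' : Finset GolayPt} (ho : o ∈ octads) (ho' : o' ∈ octads)
    (h : 5 ≤ (o ∩ o').card) : o = o' := by
  obtain ⟨m, hm, hm8, rfl⟩ := octad_mask ho
  obtain ⟨n, hn, hn8, rfl⟩ := octad_mask ho'
  rw [pc_and] at h
  have h1 := pc_xor m n
  have h2 : m ^^^ n = 0 := cw_eq_zero (isCW_xor hm hn) (by omega)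
  have : m = n := by
    have := congrArg (· ^^^ n) h2
    simpa [Nat.xor_assoc] using this
  rw [this]

theorem octad_inter {o o' : Finset GolayPt} (ho : o ∈ octads) (ho' : o' ∈ octads) :
    (o ∩ o').card = 8 ∧ o = o' ∨ (o ∩ o').card = 4 ∨ (o ∩ o').card = 2 ∨ (o ∩ o').card = 0 := by
  obtain ⟨m, hm, hm8, rfl⟩ := octad_mask ho
  obtain ⟨n, hn, hn8, rfl⟩ := octad_mask ho'
  rw [pc_and]
  have h1 := pc_xor m n
  rcases cw_weight (isCW_xor hm hn) with h | h | h | h | h
  · rw [h, pc_zero] at h1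
    have : m = n := by
      have := congrArg (· ^^^ n) h
      simpa [Nat.xor_assoc] using this
    left; exact ⟨by omega, by rw [this]⟩
  all_goals omega

theorem octads_ncard : octads.ncard = 759 := by
  rw [ncard_cnt (fun k => Nat.beq (pc (enc k)) 8)]
  · decide +kernel
  · intro s; rw [mem_octads_iff]
    constructor
    · rintro ⟨k, hk, h, h'⟩; exact ⟨k, hk, by rw [h]; rfl, h'⟩
    · rintro ⟨k, hk, h, h'⟩; exact ⟨k, hk, Nat.eq_of_beq_eq_true h, h'⟩

theorem dodecads_ncard : dodecads.ncard = 2576 := by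
  rw [ncard_cnt (fun k => Nat.beq (pc (enc k)) 12)]
  · decide +kernel
  · intro s; rw [mem_dodecads_iff]
    constructor
    · rintro ⟨k, hk, h, h'⟩; exact ⟨k, hk, by rw [h]; rfl, h'⟩
    · rintro ⟨k, hk, h, h'⟩; exact ⟨k, hk, Nat.eq_of_beq_eq_true h, h'⟩

/-- every five points lie in an octad -/
theorem octad_through {s : Finset GolayPt} (hs : s.card = 5) : ∃ o ∈ octads, s ⊆ o := by
  classical
  set O : Finset (Finset GolayPt) := octads.toFinite.toFinset with hO
  have hmem : ∀ o, o ∈ O ↔ o ∈ octads := fun o => by simp [hO]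
  have hcard : O.card = 759 := by
    rw [hO, ← Set.ncard_eq_toFinset_card octads]; exact octads_ncard
  have hdis : (O : Set (Finset GolayPt)).PairwiseDisjoint (fun o => o.powersetCard 5) := by
    intro o ho o' ho' hne
    rw [Function.onFun, Finset.disjoint_left]
    intro t ht ht'
    rw [Finset.mem_powersetCard] at ht ht'
    apply hne
    apply octad_eq_of_inter ((hmem _).1 ho) ((hmem _).1 ho')
    calc 5 = t.card := ht.2.symm
      _ ≤ _ := Finset.card_le_card (Finset.subset_inter ht.1 ht'.1)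
  have h1 : (O.biUnion fun o => o.powersetCard 5).card = 42504 := by
    rw [Finset.card_biUnion hdis, Finset.sum_congr rfl (g := fun _ => 56), Finset.sum_const, hcard]
    · rfl
    · intro o ho
      rw [Finset.card_powersetCard, octad_card ((hmem _).1 ho)]; rfl
  have h2 : (O.biUnion fun o => o.powersetCard 5) = (Finset.univ : Finset GolayPt).powersetCard 5 := by
    apply Finset.eq_of_subset_of_card_le
    · intro t ht
      rw [Finset.mem_biUnion] at ht
      obtain ⟨o, _, ht⟩ := ht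
      rw [Finset.mem_powersetCard] at ht ⊢
      exact ⟨Finset.subset_univ _, ht.2⟩
    · rw [h1, Finset.card_powersetCard, Finset.card_univ, card_pt]
      decide
  have h3 : s ∈ (O.biUnion fun o => o.powersetCard 5) := by
    rw [h2, Finset.mem_powersetCard]; exact ⟨Finset.subset_univ _, hs⟩
  rw [Finset.mem_biUnion] at h3
  obtain ⟨o, ho, ht⟩ := h3
  exact ⟨o, (hmem _).1 ho, (Finset.mem_powersetCard.1 ht).1⟩

theorem octads_steiner : IsSteinerSystem 5 8 octads := by
  refine ⟨fun b hb => octad_card hb, fun s hs => ?_⟩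
  obtain ⟨o, ho, h⟩ := octad_through hs
  refine ⟨o, ⟨ho, h⟩, ?_⟩
  rintro o' ⟨ho', h'⟩
  apply octad_eq_of_inter ho' ho
  calc 5 = s.card := hs.symm
    _ ≤ _ := Finset.card_le_card (Finset.subset_inter h' h)

end Cfsg.Agent.H9
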