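import Cfsg.Agent.H9.Mathieu
set_option autoImplicit false

/-! Octad stabilizers: pointwise stabilizer, action on the octad. -/

namespace Cfsg.Agent.H9
open Cfsg
open scoped Pointwise

/-- conjugation equivalence between subgroups -/
noncomputable def conjEquiv {G : Type*} [Group G] (A C : Subgroup G) (u : G) (h : ∀ g, g ∈ A ↔ u * g * u⁻¹ ∈ C) :
    A ≃* C :=
  ((MulAut.conj u).subgroupMap A).trans (MulEquiv.subgroupCongr (by
    ext x
    constructor
    · rintro ⟨g, hg, rfl⟩; exact (h g).1 hg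
    · intro hx
      refine ⟨u⁻¹ * x * u, (h _).2 (by group; simpa using hx), by simp [MulAut.conj_apply]; group⟩))

theorem tr6_ok : allN (fun x => @Bool.rec (fun _ => Bool) true
    (@Bool.rec (fun _ => Bool) false
      (allN (fun y => @Bool.rec (fun _ => Bool) true (Nat.beq (im (tr 6 x) y) y) (Nat.beq (bt oct0 y) 1)) 24)
      (allN (fun y => Nat.beq (im (tr 6 x) (im (tr 6 x) y)) y) 24)) (Nat.beq (bt (orb 6) x) 1)) 24 = true := by
  decide +kernel

theorem Hc6_elt {g : Equiv.Perm GolayPt} (hg : g ∈ Hc 6) :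
    ∃ x < 24, (orb 6).testBit x = true ∧ checkM24 (tr 6 x) = true ∧ g = toPerm (tr 6 x) := by
  have h1 := orbit_step (i := 6) (by norm_num) hg
  rw [mem_S] at h1
  have hx := idx_lt (g (B 6))
  refine ⟨idx (g (B 6)), hx, h1, ?_, ?_⟩
  · have h2 := (allN_iff _ _).1 ((allN_iff _ _).1 trLevels_ok 6 (by norm_num)) _ hx
    rw [bt_eq_one h1] at h2
    exact ((brec_false _ _).1 h2).1
  · obtain ⟨h2, h3, h4⟩ := tr_spec (by norm_num) hx h1
    have h5 : (toPerm (tr 6 (idx (g (B 6)))))⁻¹ * g ∈ Hc 7 := by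
      rw [mem_Hc] at hg ⊢
      refine ⟨M24.mul_mem (M24.inv_mem h2) hg.1, fun j hj => ?_⟩
      rw [Equiv.Perm.mul_apply, Equiv.Perm.inv_eq_iff_eq]
      rcases Nat.lt_succ_iff_lt_or_eq.1 hj with h | rfl
      · rw [hg.2 j h]; exact (h4 j h).symm
      · have : toPerm (tr 6 (idx (g (B 6)))) (B 6) = g (B 6) := by
          have := h3; rw [pt_idx] at this; exact this
        rw [this]
    rw [Hc7, Subgroup.mem_bot, inv_mul_eq_one] at h5
    exact h5.symm

theorem Hc6_fix {g : Equiv.Perm GolayPt} (hg : g ∈ Hc 6) : (∀ p ∈ S oct0, g p = p) ∧ g * g = 1 := by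
  obtain ⟨x, hx, h1, h2, rfl⟩ := Hc6_elt hg
  have hp := checkM24_perm h2
  have h3 := (allN_iff _ _).1 tr6_ok x hx
  rw [bt_eq_one h1] at h3
  obtain ⟨h4, h5⟩ := (brec_false _ _).1 h3
  constructor
  · intro p hp'
    apply idx_inj
    rw [idx_toPerm hp]
    have h6 := (allN_iff _ _).1 h5 _ (idx_lt p)
    rw [bt_eq_one (mem_S.1 hp')] at h6
    exact Nat.eq_of_beq_eq_true h6
  · ext1 p
    rw [Equiv.Perm.mul_apply]
    apply idx_inj
    rw [idx_toPerm hp, idx_toPerm hp]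
    exact Nat.eq_of_beq_eq_true ((allN_iff _ _).1 h4 _ (idx_lt p))

theorem mem_fixing {s : Finset GolayPt} {g : Equiv.Perm GolayPt} :
    g ∈ fixingSubgroup (Equiv.Perm GolayPt) (s : Set GolayPt) ↔ ∀ p ∈ s, g p = p := by
  rw [mem_fixingSubgroup_iff]; rfl

theorem B_mem_oct0 {i : ℕ} (hi : i < 6) : B i ∈ S oct0 := by
  have h : allN (fun i => Nat.beq (bt oct0 (bs i)) 1) 6 = true := by decide +kernel
  have h1 := Nat.eq_of_beq_eq_true ((allN_iff _ _).1 h i hi)
  rw [B, mem_S_pt (bs_lt' (by omega))]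
  rw [bt_eq] at h1
  cases h2 : oct0.testBit (bs i)
  · rw [h2] at h1; simp at h1
  · rfl

theorem Hc6_eq : M24 ⊓ fixingSubgroup (Equiv.Perm GolayPt) (S oct0 : Set GolayPt) = Hc 6 := by
  ext g
  rw [Subgroup.mem_inf, mem_fixing]
  constructor
  · rintro ⟨h1, h2⟩
    exact mem_Hc.2 ⟨h1, fun j hj => h2 _ (B_mem_oct0 hj)⟩
  · intro h
    exact ⟨(mem_Hc.1 h).1, (Hc6_fix h).1⟩

/-- the pointwise stabilizer of an octad is conjugate to `Hc 6` -/
theorem fixing_conj {o : Finset GolayPt} {u : Equiv.Perm GolayPt} (hu : u ∈ M24) (ho : u • o = S oct0)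
    (g : Equiv.Perm GolayPt) : g ∈ M24 ⊓ fixingSubgroup (Equiv.Perm GolayPt) (o : Set GolayPt) ↔
      u * g * u⁻¹ ∈ Hc 6 := by
  rw [← Hc6_eq, Subgroup.mem_inf, Subgroup.mem_inf, mem_fixing, mem_fixing, ← ho]
  constructor
  · rintro ⟨h1, h2⟩
    refine ⟨M24.mul_mem (M24.mul_mem hu h1) (M24.inv_mem hu), fun p hp => ?_⟩
    obtain ⟨q, hq, rfl⟩ := Finset.mem_smul_finset.1 hp
    show u (g (u⁻¹ (u q))) = u q
    rw [Equiv.Perm.inv_eq_iff_eq.2 rfl, h2 q hq]
  · rintro ⟨h1, h2⟩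
    refine ⟨?_, fun p hp => ?_⟩
    · have := M24.mul_mem (M24.mul_mem (M24.inv_mem hu) h1) hu
      have e : u⁻¹ * (u * g * u⁻¹) * u = g := by group
      rwa [e] at this
    · have := h2 (u p) (Finset.mem_smul_finset.2 ⟨p, hp, rfl⟩)
      have h3 : u (g (u⁻¹ (u p))) = u p := this
      rw [Equiv.Perm.inv_eq_iff_eq.2 rfl] at h3
      exact u.injective h3

theorem fixing_card {o : Finset GolayPt} (ho : o ∈ octads) :
    Nat.card ↥(M24 ⊓ fixingSubgroup (Equiv.Perm GolayPt) (o : Set GolayPt)) = 16 ∧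
      ∀ g ∈ M24 ⊓ fixingSubgroup (Equiv.Perm GolayPt) (o : Set GolayPt), g * g = 1 := by
  obtain ⟨u, hu, h⟩ := octad_trans ho oct0_mem
  constructor
  · rw [Nat.card_congr (conjEquiv _ _ u (fixing_conj hu h)).toEquiv, card_Hc6]
  · intro g hg
    have h1 := (Hc6_fix ((fixing_conj hu h g).1 hg)).2
    have e : (u * g * u⁻¹) * (u * g * u⁻¹) = u * (g * g) * u⁻¹ := by group
    rw [e, mul_inv_eq_one, mul_eq_left] at h1
    exact h1

/-- restriction of the stabilizer of a finite set to the set -/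
noncomputable def resHom (K : Subgroup (Equiv.Perm GolayPt)) (o : Finset GolayPt) (h : ∀ g ∈ K, g • o = o) :
    K →* Equiv.Perm ↥o where
  toFun g := (g : Equiv.Perm GolayPt).subtypePerm (fun _ => smul_mem_of_fix (h g g.2))
  map_one' := by ext; rfl
  map_mul' a b := by ext; rfl

theorem resHom_apply {K : Subgroup (Equiv.Perm GolayPt)} {o : Finset GolayPt} (h : ∀ g ∈ K, g • o = o) (g : K) (x : ↥o) :
    ((resHom K o h g x : ↥o) : GolayPt) = (g : Equiv.Perm GolayPt) x := rfl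

/-- setwise octad stabilizer as a subgroup of the symmetric group -/
def octS (o : Finset GolayPt) : Subgroup (Equiv.Perm GolayPt) := M24 ⊓ MulAction.stabilizer (Equiv.Perm GolayPt) o

theorem octS_fix {o : Finset GolayPt} : ∀ g ∈ octS o, g • o = o := fun _ hg => hg.2

theorem card_octS {o : Finset GolayPt} (ho : o ∈ octads) : Nat.card (octS o) = 322560 := by
  rw [← card_oct_stab ho]
  exact (Nat.card_congr (stabEquiv M24 o).toEquiv).symm

theorem ker_resHom {K : Subgroup (Equiv.Perm GolayPt)} {o : Finset GolayPt} (h : ∀ g ∈ K, g • o = o) :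
    (resHom K o h).ker.map K.subtype = K ⊓ fixingSubgroup (Equiv.Perm GolayPt) (o : Set GolayPt) := by
  ext g
  rw [Subgroup.mem_inf, mem_fixing]
  constructor
  · rintro ⟨g, hg, rfl⟩
    refine ⟨g.2, fun p hp => ?_⟩
    have h1 : resHom K o h g = 1 := hg
    have := congrArg (fun f : Equiv.Perm ↥o => ((f ⟨p, hp⟩ : ↥o) : GolayPt)) h1
    exact this
  · rintro ⟨h1, h2⟩
    refine ⟨⟨g, h1⟩, ?_, rfl⟩
    rw [SetLike.mem_coe, MonoidHom.mem_ker]
    apply Equiv.ext
    intro x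
    apply Subtype.ext
    exact h2 x x.2

theorem card_ker_resHom {K : Subgroup (Equiv.Perm GolayPt)} {o : Finset GolayPt} (h : ∀ g ∈ K, g • o = o) :
    Nat.card (resHom K o h).ker = Nat.card ↥(K ⊓ fixingSubgroup (Equiv.Perm GolayPt) (o : Set GolayPt)) := by
  rw [← ker_resHom h]
  exact (Nat.card_congr (Subgroup.equivMapOfInjective _ _ K.subtype_injective).toEquiv)

theorem octS_inf_fixing (o : Finset GolayPt) : octS o ⊓ fixingSubgroup (Equiv.Perm GolayPt) (o : Set GolayPt) =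
    M24 ⊓ fixingSubgroup (Equiv.Perm GolayPt) (o : Set GolayPt) := by
  ext g
  rw [octS, Subgroup.mem_inf, Subgroup.mem_inf, Subgroup.mem_inf, mem_fixing]
  constructor
  · rintro ⟨⟨h1, _⟩, h2⟩; exact ⟨h1, h2⟩
  · rintro ⟨h1, h2⟩
    refine ⟨⟨h1, ?_⟩, h2⟩
    rw [MulAction.mem_stabilizer_iff]
    ext p
    rw [Finset.mem_smul_finset]
    constructor
    · rintro ⟨q, hq, rfl⟩; rw [Equiv.Perm.smul_def, h2 q hq]; exact hq
    · intro hp; exact ⟨p, hp, h2 p hp⟩

theorem card_perm_oct {o : Finset GolayPt} (ho : o ∈ octads) : Nat.card (Equiv.Perm ↥o) = 40320 := by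
  rw [Nat.card_eq_fintype_card, Fintype.card_perm, Fintype.card_coe, octad_card ho]; rfl

theorem octS_range {o : Finset GolayPt} (ho : o ∈ octads) :
    (resHom (octS o) o octS_fix).range = alternatingGroup ↥o := by
  apply Equiv.Perm.eq_alternatingGroup_of_index_eq_two
  have h1 := Subgroup.card_mul_index (resHom (octS o) o octS_fix).ker
  rw [card_ker_resHom, octS_inf_fixing, (fixing_card ho).1, Subgroup.index_ker, card_octS ho] at h1
  have h2 := Subgroup.card_mul_index (resHom (octS o) o octS_fix).range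
  rw [card_perm_oct ho] at h2
  have h3 : Nat.card (resHom (octS o) o octS_fix).range = 20160 := by omega
  rw [h3] at h2
  omega

/-- elements fixing an octad pointwise and an outside point are trivial -/
theorem fixing_point {o : Finset GolayPt} (ho : o ∈ octads) {q : GolayPt} (hq : q ∉ o) {g : Equiv.Perm GolayPt}
    (hg : g ∈ M24) (h1 : ∀ p ∈ o, g p = p) (h2 : g q = q) : g = 1 := by
  obtain ⟨u, hu, h3, -, h4⟩ := oct_frame' 0 (by norm_num) ho (fun _ => q) (by intro i hi; omega)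
    (by intro i hi j hj; omega) hq
  have h5 : u * g * u⁻¹ ∈ Hc 6 := (fixing_conj hu h3 g).1 ⟨hg, mem_fixing.2 h1⟩
  have h6 : u * g * u⁻¹ ∈ Hc 7 := by
    refine ⟨h5, ?_⟩
    show u (g (u⁻¹ (B 6))) = B 6
    rw [Equiv.Perm.inv_eq_iff_eq.2 h4.symm, h2, h4]
  rw [Hc7, Subgroup.mem_bot, mul_inv_eq_one, mul_eq_left] at h6
  exact h6

end Cfsg.Agent.H9
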