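import Cfsg.Agent.H9.Six
set_option autoImplicit false

/-! Generic orbit certificates and orbit lists. -/

namespace Cfsg.Agent.H9
open Cfsg
open scoped Pointwise

/-- pointer entry fields: 36 bits per node: rank 8, generator 4, target 12, root 12 -/
def pE (P i : ℕ) : ℕ := lookW 36 68719476735 P i
def pR (P i : ℕ) : ℕ := Nat.land (pE P i) 255
def pG (P i : ℕ) : ℕ := Nat.land (Nat.shiftRight (pE P i) 8) 15
def pT (P i : ℕ) : ℕ := Nat.land (Nat.shiftRight (pE P i) 12) 4095
def pRt (P i : ℕ) : ℕ := Nat.land (Nat.shiftRight (pE P i) 24) 4095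

/-- node certificate (`n ≤ 4096` nodes, `m` generators) -/
noncomputable def nodeOK (m n : ℕ) (F : ℕ → Bool) (R : ℕ → ℕ → ℕ → Bool) (P : ℕ) : Bool :=
  allB (fun i => @Bool.rec (fun _ => Bool) true
    (@Bool.rec (fun _ => Bool)
      (@Bool.rec (fun _ => Bool) false
        (@Bool.rec (fun _ => Bool) false
          (@Bool.rec (fun _ => Bool) false
            (@Bool.rec (fun _ => Bool) false
              (@Bool.rec (fun _ => Bool) false
                (Nat.beq (pRt P (pT P i)) (pRt P i))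
                (Nat.blt (pR P (pT P i)) (pR P i)))
              (R (pG P i) i (pT P i)))
            (F (pT P i)))
          (Nat.blt (pT P i) n))
        (Nat.blt (pG P i) m))
      (Nat.beq (pRt P i) i)
      (Nat.beq (pR P i) 0))
    (F i)) 12 n

theorem node_spec {X : Type*} [MulAction (Equiv.Perm GolayPt) X] {PP m n : ℕ} (hn : n ≤ 4096) {F : ℕ → Bool}
    {R : ℕ → ℕ → ℕ → Bool} {P : ℕ} (Φ : ℕ → X)
    (hR : ∀ g < m, ∀ i < n, ∀ j < n, F i = true → F j = true → R g i j = true → toPerm (pk PP g) • Φ i = Φ j)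
    (h : nodeOK m n F R P = true) : ∀ i < n, F i = true →
      pRt P i < n ∧ F (pRt P i) = true ∧ ∃ g ∈ genG PP m, g • Φ i = Φ (pRt P i) := by
  have key : ∀ r, ∀ i < n, pR P i = r → F i = true →
      pRt P i < n ∧ F (pRt P i) = true ∧ ∃ g ∈ genG PP m, g • Φ i = Φ (pRt P i) := by
    intro r
    induction r using Nat.strong_induction_on with
    | _ r ih =>
      intro i hi hr hf
      have h1 := allB_spec h (by simpa using hn) i hi
      rw [hf] at h1
      cases h2 : Nat.beq (pR P i) 0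
      · rw [h2] at h1
        obtain ⟨h3, h1⟩ := (brec_false _ _).1 h1
        obtain ⟨h4, h1⟩ := (brec_false _ _).1 h1
        obtain ⟨h5, h1⟩ := (brec_false _ _).1 h1
        obtain ⟨h6, h1⟩ := (brec_false _ _).1 h1
        obtain ⟨h7, h8⟩ := (brec_false _ _).1 h1
        have hg : pG P i < m := by simpa [Nat.blt] using h3
        have ht : pT P i < n := by simpa [Nat.blt] using h4
        have hlt : pR P (pT P i) < r := by rw [← hr]; simpa [Nat.blt] using h7
        obtain ⟨a1, a2, g, hg1, hg2⟩ := ih _ hlt (pT P i) ht rfl h5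
        rw [Nat.eq_of_beq_eq_true h8] at a1 a2 hg2
        refine ⟨a1, a2, g * toPerm (pk PP (pG P i)), (genG PP m).mul_mem hg1 (gen_mem_genG hg), ?_⟩
        rw [mul_smul, hR _ hg i hi _ ht hf h5 h6, hg2]
      · rw [h2] at h1
        have h3 : Nat.beq (pRt P i) i = true := h1
        rw [Nat.eq_of_beq_eq_true h3]
        exact ⟨hi, hf, 1, (genG PP m).one_mem, one_smul _ _⟩
  intro i hi hf
  exact key _ i hi rfl hf

/-- representatives of all the orbits of `H` on `Ω` with the given sizes. -/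
def OrbReps {G X : Type*} [Group G] [MulAction G X] (H : Subgroup G) (Ω : Set X) (R : List X) (L : List ℕ) : Prop :=
  (∀ x ∈ R, x ∈ Ω) ∧ R.map (fun x => (MulAction.orbit H x).ncard) = L ∧
    (∀ x ∈ R, MulAction.orbit H x ⊆ Ω) ∧ ∀ y ∈ Ω, ∃ x ∈ R, y ∈ MulAction.orbit H x

/-- orbit list: representatives of all the orbits of `H` on `Ω` with the given sizes. -/
def OrbList {G X : Type*} [Group G] [MulAction G X] (H : Subgroup G) (Ω : Set X) (L : List ℕ) : Prop :=
  ∃ R : List X, OrbReps H Ω R L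

/-- the orbits of a finite group from a partition into classes, by divisibility -/
theorem orbit_eq_class {G X : Type*} [Group G] [Finite G] [MulAction G X] (Ω : Finset X)
    [DecidableEq X] (hΩ : ∀ g : G, ∀ x ∈ Ω, g • x ∈ Ω) (c : X → ℕ)
    (hc : ∀ x ∈ Ω, ∀ y ∈ Ω, c x = c y → ∃ g : G, g • x = y) (K : Finset ℕ) (hK : ∀ x ∈ Ω, c x ∈ K)
    (hdiv : ∀ C ⊆ K, 2 ≤ C.card → ¬ (∑ i ∈ C, (Ω.filter fun y => c y = i).card) ∣ Nat.card G)
    (x : X) (hx : x ∈ Ω) : ∀ y, y ∈ MulAction.orbit G x ↔ y ∈ Ω ∧ c y = c x := by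
  classical
  set T : Finset X := Ω.filter fun y => y ∈ MulAction.orbit G x with hT
  have hTmem : ∀ y, y ∈ T ↔ y ∈ MulAction.orbit G x := by
    intro y
    rw [hT, Finset.mem_filter]
    refine ⟨fun h => h.2, fun h => ⟨?_, h⟩⟩
    obtain ⟨g, rfl⟩ := h; exact hΩ g x hx
  set C : Finset ℕ := T.image c with hC
  have hCK : C ⊆ K := by
    intro i hi
    obtain ⟨y, hy, rfl⟩ := Finset.mem_image.1 hi
    exact hK y (Finset.mem_filter.1 hy).1
  have hTu : T = C.biUnion fun i => Ω.filter fun y => c y = i := by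
    ext y
    rw [Finset.mem_biUnion]
    constructor
    · intro hy
      exact ⟨c y, Finset.mem_image_of_mem c hy, Finset.mem_filter.2 ⟨(Finset.mem_filter.1 hy).1, rfl⟩⟩
    · rintro ⟨i, hi, hy⟩
      rw [Finset.mem_filter] at hy
      obtain ⟨z, hz, hzi⟩ := Finset.mem_image.1 hi
      obtain ⟨g, hg⟩ := hc z (Finset.mem_filter.1 hz).1 y hy.1 (by rw [hzi, hy.2])
      rw [hTmem] at hz ⊢
      obtain ⟨k, rfl⟩ := hz
      exact ⟨g * k, by show (g * k) • x = y; rw [mul_smul]; exact hg⟩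
  have hcardT : T.card = ∑ i ∈ C, (Ω.filter fun y => c y = i).card := by
    rw [hTu, Finset.card_biUnion]
    · intro i _ j _ hij
      rw [Function.onFun, Finset.disjoint_left]
      intro z hz hz'
      rw [Finset.mem_filter] at hz hz'
      exact hij (hz.2.symm.trans hz'.2)
  have hdvd : T.card ∣ Nat.card G := by
    have h1 := Subgroup.card_mul_index (MulAction.stabilizer G x)
    rw [MulAction.index_stabilizer] at h1
    have h2 : (MulAction.orbit G x).ncard = T.card := by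
      rw [← Set.ncard_coe_finset]; congr 1; ext y; exact (hTmem y).symm
    rw [h2] at h1
    exact ⟨_, by rw [mul_comm]; exact h1.symm⟩
  have hCcard : C.card ≤ 1 := by
    by_contra hcon
    exact hdiv C hCK (by omega) (by rw [← hcardT]; exact hdvd)
  have hxT : x ∈ T := (hTmem x).2 (MulAction.mem_orbit_self x)
  intro y
  rw [← hTmem]
  constructor
  · intro hy
    exact ⟨(Finset.mem_filter.1 hy).1,
      Finset.card_le_one.1 hCcard _ (Finset.mem_image_of_mem c hy) _ (Finset.mem_image_of_mem c hxT)⟩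
  · rintro ⟨h1, h2⟩
    obtain ⟨g, hg⟩ := hc x hx y h1 h2.symm
    exact (hTmem y).2 ⟨g, hg⟩

/-- count of nodes with given root -/
noncomputable def rcnt (n : ℕ) (F : ℕ → Bool) (P r : ℕ) : ℕ :=
  sumR (fun i => @Bool.rec (fun _ => ℕ) 0 1 (band (Nat.blt i n) (band (F i) (Nat.beq (pRt P i) r)))) 12 0

theorem rcnt_eq {n : ℕ} (hn : n ≤ 4096) (F : ℕ → Bool) (P r : ℕ) :
    rcnt n F P r = ((Finset.range n).filter fun i => F i = true ∧ pRt P i = r).card := by
  rw [rcnt, sumR_spec, Finset.card_filter]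
  have e : Finset.Ico 0 (0 + 2 ^ 12) = Finset.range 4096 := by
    rw [Finset.range_eq_Ico, show (0 + 2 ^ 12 : ℕ) = 4096 from rfl]
  rw [e, ← Finset.sum_subset (Finset.range_subset_range.2 hn)]
  · apply Finset.sum_congr rfl
    intro i hi
    rw [Finset.mem_range] at hi
    have h1 : Nat.blt i n = true := by simpa [Nat.blt] using hi
    have h2 : (band (Nat.blt i n) (band (F i) (Nat.beq (pRt P i) r)) = true) ↔ (F i = true ∧ pRt P i = r) := by
      rw [band_iff, band_iff, beq_iff]; simp [h1]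
    by_cases h : F i = true ∧ pRt P i = r
    · rw [if_pos h, h2.2 h]
    · rw [if_neg h]
      have : band (Nat.blt i n) (band (F i) (Nat.beq (pRt P i) r)) = false := by
        rw [← h2] at h; simpa using h
      rw [this]
  · intro i _ hi
    rw [Finset.mem_range, not_lt] at hi
    have h1 : Nat.blt i n = false := by
      rw [Bool.eq_false_iff]; intro h; have : i < n := by simpa [Nat.blt] using h
      omega
    have : band (Nat.blt i n) (band (F i) (Nat.beq (pRt P i) r)) = false := by rw [h1]; rfl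
    rw [this]

/-- main tool: orbit list from a node certificate -/
theorem orbReps_of_cert {X : Type*} [DecidableEq X] [MulAction (Equiv.Perm GolayPt) X] (H : Subgroup M24) {PP m n : ℕ}
    (hn : n ≤ 4096) {F : ℕ → Bool} {R : ℕ → ℕ → ℕ → Bool} {P : ℕ} (Φ : ℕ → X) (Ω : Set X)
    (hΦ : ∀ x, x ∈ Ω ↔ ∃ i < n, F i = true ∧ Φ i = x)
    (hinj : ∀ i < n, ∀ j < n, F i = true → F j = true → Φ i = Φ j → i = j)
    (hinv : ∀ g ∈ M24, ∀ x ∈ Ω, g • x ∈ Ω)
    (hgen : ∀ g < m, ∃ h : toPerm (pk PP g) ∈ M24, (⟨toPerm (pk PP g), h⟩ : M24) ∈ H)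
    (hR : ∀ g < m, ∀ i < n, ∀ j < n, F i = true → F j = true → R g i j = true → toPerm (pk PP g) • Φ i = Φ j)
    (h : nodeOK m n F R P = true) (L : List (ℕ × ℕ))
    (hL : ∀ e ∈ L, e.1 < n ∧ F e.1 = true ∧ pRt P e.1 = e.1 ∧ rcnt n F P e.1 = e.2)
    (hall : allB (fun i => @Bool.rec (fun _ => Bool) true (L.any fun e => Nat.beq e.1 (pRt P i)) (F i)) 12 n = true)
    (hnd : (L.map Prod.fst).Nodup) {N : ℕ} (hN : Nat.card H = N)
    (hdiv : ∀ C ∈ L.sublists, 2 ≤ C.length → ¬ (C.map Prod.snd).sum ∣ N) :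
    OrbReps H Ω (L.map fun e => Φ e.1) (L.map Prod.snd) := by
  classical
  have hsp := node_spec (PP := PP) hn Φ hR h
  -- elements of the generated group lie in H
  have hgenH : ∀ g ∈ genG PP m, ∃ hg : g ∈ M24, (⟨g, hg⟩ : M24) ∈ H := by
    intro g hg
    have hle : genG PP m ≤ H.map M24.subtype := by
      apply genG_le
      intro i hi
      obtain ⟨h1, h2⟩ := hgen i hi
      exact ⟨_, h2, rfl⟩
    obtain ⟨x, hx, rfl⟩ := hle hg
    exact ⟨x.2, hx⟩
  -- the index of an element of Ω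
  have hidx : ∀ x ∈ Ω, ∃ i, i < n ∧ F i = true ∧ Φ i = x := fun x hx => by
    obtain ⟨i, h1, h2, h3⟩ := (hΦ x).1 hx; exact ⟨i, h1, h2, h3⟩
  let ix : X → ℕ := fun x => if hx : x ∈ Ω then (hidx x hx).choose else 0
  have hix : ∀ x (hx : x ∈ Ω), ix x < n ∧ F (ix x) = true ∧ Φ (ix x) = x := by
    intro x hx
    have : ix x = (hidx x hx).choose := dif_pos hx
    rw [this]; exact (hidx x hx).choose_spec
  have hixΦ : ∀ i < n, F i = true → ix (Φ i) = i := by
    intro i hi hf
    have hx : Φ i ∈ Ω := (hΦ _).2 ⟨i, hi, hf, rfl⟩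
    obtain ⟨h1, h2, h3⟩ := hix _ hx
    exact hinj _ h1 _ hi h2 hf h3
  set Ωf : Finset X := ((Finset.range n).filter fun i => F i = true).image Φ with hΩf
  have hΩmem : ∀ x, x ∈ Ωf ↔ x ∈ Ω := by
    intro x
    rw [hΩf, Finset.mem_image, hΦ x]
    constructor
    · rintro ⟨i, hi, rfl⟩
      rw [Finset.mem_filter, Finset.mem_range] at hi
      exact ⟨i, hi.1, hi.2, rfl⟩
    · rintro ⟨i, hi, hf, rfl⟩
      exact ⟨i, Finset.mem_filter.2 ⟨Finset.mem_range.2 hi, hf⟩, rfl⟩
  let c : X → ℕ := fun x => pRt P (ix x)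
  have hinvH : ∀ g : H, ∀ x ∈ Ωf, g • x ∈ Ωf := by
    intro g x hx
    rw [hΩmem] at hx ⊢
    exact hinv _ (g : M24).2 x hx
  have hcc : ∀ x ∈ Ωf, ∀ y ∈ Ωf, c x = c y → ∃ g : H, g • x = y := by
    intro x hx y hy hxy
    rw [hΩmem] at hx hy
    obtain ⟨x1, x2, x3⟩ := hix x hx
    obtain ⟨y1, y2, y3⟩ := hix y hy
    obtain ⟨-, -, g, hg, h1⟩ := hsp _ x1 x2
    obtain ⟨-, -, k, hk, h2⟩ := hsp _ y1 y2
    have hxy' : pRt P (ix x) = pRt P (ix y) := hxy
    obtain ⟨a1, a2⟩ := hgenH g hg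
    obtain ⟨b1, b2⟩ := hgenH k hk
    refine ⟨⟨⟨k, b1⟩, b2⟩⁻¹ * ⟨⟨g, a1⟩, a2⟩, ?_⟩
    show (k⁻¹ * g) • x = y
    rw [x3] at h1
    rw [y3] at h2
    rw [mul_smul, h1, hxy', ← h2, inv_smul_smul]
  have hroots : ∀ x ∈ Ωf, ∃ e ∈ L, e.1 = c x := by
    intro x hx
    rw [hΩmem] at hx
    obtain ⟨x1, x2, x3⟩ := hix x hx
    have h1 := allB_spec hall (by simpa using hn) _ x1
    rw [x2] at h1
    have h2 : (L.any fun e => Nat.beq e.1 (pRt P (ix x))) = true := h1
    rw [List.any_eq_true] at h2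
    obtain ⟨e, he, h3⟩ := h2
    exact ⟨e, he, Nat.eq_of_beq_eq_true h3⟩
  have hclass : ∀ e ∈ L, (Ωf.filter fun y => c y = e.1).card = e.2 := by
    intro e he
    obtain ⟨h1, h2, h3, h4⟩ := hL e he
    rw [← h4, rcnt_eq hn]
    have : (Ωf.filter fun y => c y = e.1) = ((Finset.range n).filter fun i => F i = true ∧ pRt P i = e.1).image Φ := by
      ext y
      rw [Finset.mem_filter]
      constructor
      · rintro ⟨hy, hcy⟩
        rw [hΩmem] at hy
        obtain ⟨y1, y2, y3⟩ := hix y hy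
        exact Finset.mem_image.2 ⟨ix y, Finset.mem_filter.2 ⟨Finset.mem_range.2 y1, y2, hcy⟩, y3⟩
      · intro hy
        obtain ⟨i, hi, rfl⟩ := Finset.mem_image.1 hy
        rw [Finset.mem_filter, Finset.mem_range] at hi
        refine ⟨(hΩmem _).2 ((hΦ _).2 ⟨i, hi.1, hi.2.1, rfl⟩), ?_⟩
        show pRt P (ix (Φ i)) = e.1
        rw [hixΦ i hi.1 hi.2.1]; exact hi.2.2
    rw [this, Finset.card_image_of_injOn]
    intro a ha b hb hab
    rw [Finset.mem_coe, Finset.mem_filter, Finset.mem_range] at ha hb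
    exact hinj a ha.1 b hb.1 ha.2.1 hb.2.1 hab
  have horb := orbit_eq_class (G := H) Ωf hinvH c hcc (L.map Prod.fst).toFinset (by
      intro x hx
      obtain ⟨e, he, h1⟩ := hroots x hx
      rw [List.mem_toFinset, List.mem_map]
      exact ⟨e, he, h1⟩) (by
      intro C hC h2 hd
      -- the sublist of L with first components in C
      have hsub : (L.filter fun e => e.1 ∈ C) ∈ L.sublists := List.mem_sublists.2 List.filter_sublist
      have hCeq : C = ((L.filter fun e => e.1 ∈ C).map Prod.fst).toFinset := by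
        ext i
        rw [List.mem_toFinset, List.mem_map]
        constructor
        · intro hi
          have := hC hi
          rw [List.mem_toFinset, List.mem_map] at this
          obtain ⟨e, he, rfl⟩ := this
          exact ⟨e, List.mem_filter.2 ⟨he, by simpa using hi⟩, rfl⟩
        · rintro ⟨e, he, rfl⟩
          rw [List.mem_filter] at he
          simpa using he.2
      have hnd' : ((L.filter fun e => e.1 ∈ C).map Prod.fst).Nodup :=
        List.Nodup.sublist (List.Sublist.map _ List.filter_sublist) hnd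
      have hlen : (L.filter fun e => e.1 ∈ C).length = C.card := by
        conv_rhs => rw [hCeq]
        rw [List.toFinset_card_of_nodup hnd', List.length_map]
      have hsum : ((L.filter fun e => e.1 ∈ C).map Prod.snd).sum =
          ∑ i ∈ C, (Ωf.filter fun y => c y = i).card := by
        conv_rhs => rw [hCeq]
        rw [List.sum_toFinset _ hnd', List.map_map]
        congr 1
        apply List.map_congr_left
        intro e he
        exact (hclass e (List.mem_filter.1 he).1).symm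
      apply hdiv _ hsub (by omega)
      rw [hsum, ← hN]; exact hd)
  refine ⟨?_, ?_, ?_, ?_⟩
  · intro x hx
    obtain ⟨e, he, rfl⟩ := List.mem_map.1 hx
    obtain ⟨h1, h2, h3, h4⟩ := hL e he
    exact (hΦ _).2 ⟨e.1, h1, h2, rfl⟩
  · rw [List.map_map]
    apply List.map_congr_left
    intro e he
    obtain ⟨h1, h2, h3, h4⟩ := hL e he
    have hx : Φ e.1 ∈ Ωf := (hΩmem _).2 ((hΦ _).2 ⟨e.1, h1, h2, rfl⟩)
    have hcx : c (Φ e.1) = e.1 := by
      show pRt P (ix (Φ e.1)) = e.1
      rw [hixΦ _ h1 h2, h3]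
    show (MulAction.orbit H (Φ e.1)).ncard = e.2
    have : MulAction.orbit H (Φ e.1) = ((Ωf.filter fun y => c y = e.1 : Finset X) : Set X) := by
      ext y
      rw [horb _ hx y, hcx, Finset.coe_filter]
      exact Iff.rfl
    rw [this, Set.ncard_coe_finset, hclass e he]
  · intro x hx y hy
    obtain ⟨e, he, rfl⟩ := List.mem_map.1 hx
    obtain ⟨h1, h2, h3, h4⟩ := hL e he
    have hx : Φ e.1 ∈ Ωf := (hΩmem _).2 ((hΦ _).2 ⟨e.1, h1, h2, rfl⟩)
    exact (hΩmem y).1 ((horb _ hx y).1 hy).1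
  · intro y hy
    have hy' : y ∈ Ωf := (hΩmem y).2 hy
    obtain ⟨e, he, h1⟩ := hroots y hy'
    obtain ⟨a1, a2, a3, a4⟩ := hL e he
    have hx : Φ e.1 ∈ Ωf := (hΩmem _).2 ((hΦ _).2 ⟨e.1, a1, a2, rfl⟩)
    have hcx : c (Φ e.1) = e.1 := by
      show pRt P (ix (Φ e.1)) = e.1
      rw [hixΦ _ a1 a2, a3]
    refine ⟨Φ e.1, List.mem_map.2 ⟨e, he, rfl⟩, (horb _ hx y).2 ⟨hy', by rw [hcx, h1]⟩⟩

/-- transport of orbit lists of stabilizers -/
theorem OrbList.transport {G X Y : Type*} [Group G] [MulAction G X] [MulAction G Y] {Ω : Set X}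
    (hinv : ∀ g : G, ∀ x ∈ Ω, g • x ∈ Ω) {a b : Y} {L : List ℕ} (h : OrbList (MulAction.stabilizer G a) Ω L)
    (hab : ∃ g : G, g • a = b) : OrbList (MulAction.stabilizer G b) Ω L := by
  obtain ⟨g, rfl⟩ := hab
  obtain ⟨R, h1, h2, h3, h4⟩ := h
  have key : ∀ x : X, MulAction.orbit (MulAction.stabilizer G (g • a)) (g • x) =
      g • MulAction.orbit (MulAction.stabilizer G a) x := by
    intro x
    ext y
    rw [Set.mem_smul_set]
    constructor
    · rintro ⟨⟨k, hk⟩, rfl⟩
      rw [MulAction.mem_stabilizer_iff] at hk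
      refine ⟨(g⁻¹ * k * g) • x, ⟨⟨g⁻¹ * k * g, ?_⟩, rfl⟩, ?_⟩
      · rw [MulAction.mem_stabilizer_iff, mul_smul, mul_smul, hk, inv_smul_smul]
      · show g • (g⁻¹ * k * g) • x = k • g • x
        rw [mul_smul, mul_smul, smul_inv_smul]
    · rintro ⟨z, ⟨⟨k, hk⟩, rfl⟩, rfl⟩
      rw [MulAction.mem_stabilizer_iff] at hk
      refine ⟨⟨g * k * g⁻¹, ?_⟩, ?_⟩
      · rw [MulAction.mem_stabilizer_iff, mul_smul, mul_smul, inv_smul_smul, hk]
      · show (g * k * g⁻¹) • g • x = g • k • x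
        rw [mul_smul, mul_smul, inv_smul_smul]
  refine ⟨R.map fun x : X => g • x, ?_, ?_, ?_, ?_⟩
  · intro x hx
    obtain ⟨y, hy, rfl⟩ := List.mem_map.1 hx
    exact hinv g y (h1 y hy)
  · rw [List.map_map, ← h2]
    apply List.map_congr_left
    intro x _
    show (MulAction.orbit (MulAction.stabilizer G (g • a)) (g • x)).ncard = _
    rw [key, Set.ncard_smul_set]
  · intro x hx y hy
    obtain ⟨z, hz, rfl⟩ := List.mem_map.1 hx
    rw [key, Set.mem_smul_set] at hy
    obtain ⟨w, hw, rfl⟩ := hy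
    exact hinv g w (h3 z hz hw)
  · intro y hy
    obtain ⟨x, hx, h5⟩ := h4 (g⁻¹ • y) (hinv _ y hy)
    refine ⟨g • x, List.mem_map.2 ⟨x, hx, rfl⟩, ?_⟩
    rw [key, Set.mem_smul_set_iff_inv_smul_mem]; exact h5

theorem OrbList.three {G X : Type*} [Group G] [MulAction G X] {H : Subgroup G} {Ω : Set X} {a b c : ℕ}
    (h : OrbList H Ω [a, b, c]) : ∃ X₁ ∈ Ω, ∃ X₂ ∈ Ω, ∃ X₃ ∈ Ω, (MulAction.orbit H X₁).ncard = a ∧
      (MulAction.orbit H X₂).ncard = b ∧ (MulAction.orbit H X₃).ncard = c ∧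
      Ω = MulAction.orbit H X₁ ∪ MulAction.orbit H X₂ ∪ MulAction.orbit H X₃ := by
  obtain ⟨R, h1, h2, h3, h4⟩ := h
  have hlen : R.length = 3 := by have := congrArg List.length h2; simpa using this
  obtain ⟨x, y, z, rfl⟩ := List.length_eq_three.1 hlen
  simp only [List.map_cons, List.map_nil, List.cons.injEq, and_true] at h2
  refine ⟨x, h1 x (by simp), y, h1 y (by simp), z, h1 z (by simp), h2.1, h2.2.1, h2.2.2, ?_⟩
  apply Set.Subset.antisymm
  · intro w hw
    obtain ⟨v, hv, h5⟩ := h4 w hw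
    simp only [List.mem_cons, List.not_mem_nil, or_false] at hv
    rcases hv with rfl | rfl | rfl
    · exact Or.inl (Or.inl h5)
    · exact Or.inl (Or.inr h5)
    · exact Or.inr h5
  · rintro w ((h5 | h5) | h5)
    · exact h3 x (by simp) h5
    · exact h3 y (by simp) h5
    · exact h3 z (by simp) h5

theorem OrbList.four {G X : Type*} [Group G] [MulAction G X] {H : Subgroup G} {Ω : Set X} {a b c d : ℕ}
    (h : OrbList H Ω [a, b, c, d]) : ∃ X₁ ∈ Ω, ∃ X₂ ∈ Ω, ∃ X₃ ∈ Ω, ∃ X₄ ∈ Ω, (MulAction.orbit H X₁).ncard = a ∧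
      (MulAction.orbit H X₂).ncard = b ∧ (MulAction.orbit H X₃).ncard = c ∧ (MulAction.orbit H X₄).ncard = d ∧
      Ω = MulAction.orbit H X₁ ∪ MulAction.orbit H X₂ ∪ MulAction.orbit H X₃ ∪ MulAction.orbit H X₄ := by
  obtain ⟨R, h1, h2, h3, h4⟩ := h
  have hlen : R.length = 4 := by have := congrArg List.length h2; simpa using this
  obtain ⟨x, R, rfl⟩ : ∃ x R', R = x :: R' := by
    cases R with
    | nil => simp at hlen
    | cons x R => exact ⟨x, R, rfl⟩
  have hlen' : R.length = 3 := by simpa using hlen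
  obtain ⟨y, z, v, rfl⟩ := List.length_eq_three.1 hlen'
  simp only [List.map_cons, List.map_nil, List.cons.injEq, and_true] at h2
  refine ⟨x, h1 x (by simp), y, h1 y (by simp), z, h1 z (by simp), v, h1 v (by simp), h2.1, h2.2.1, h2.2.2.1,
    h2.2.2.2, ?_⟩
  apply Set.Subset.antisymm
  · intro w hw
    obtain ⟨v, hv, h5⟩ := h4 w hw
    simp only [List.mem_cons, List.not_mem_nil, or_false] at hv
    rcases hv with rfl | rfl | rfl | rfl
    · exact Or.inl (Or.inl (Or.inl h5))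
    · exact Or.inl (Or.inl (Or.inr h5))
    · exact Or.inl (Or.inr h5)
    · exact Or.inr h5
  · rintro w (((h5 | h5) | h5) | h5)
    · exact h3 x (by simp) h5
    · exact h3 y (by simp) h5
    · exact h3 z (by simp) h5
    · exact h3 v (by simp) h5

end Cfsg.Agent.H9
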