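import Cfsg.Agent.H9.Trio
set_option autoImplicit false

/-! Orbit lists on octads, sextets and trios from certificates. -/

namespace Cfsg.Agent.H9
open Cfsg
open scoped Pointwise

/-- full certificate check -/
noncomputable def certOK (m n : ℕ) (F : ℕ → Bool) (R : ℕ → ℕ → ℕ → Bool) (P : ℕ) (L : List (ℕ × ℕ)) : Bool :=
  band (nodeOK m n F R P) (band
    (L.all fun e => band (Nat.blt e.1 n) (band (F e.1) (band (Nat.beq (pRt P e.1) e.1) (Nat.beq (rcnt n F P e.1) e.2))))
    (allB (fun i => @Bool.rec (fun _ => Bool) true (L.any fun e => Nat.beq e.1 (pRt P i)) (F i)) 12 n))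

theorem certOK_spec {m n : ℕ} {F : ℕ → Bool} {R : ℕ → ℕ → ℕ → Bool} {P : ℕ} {L : List (ℕ × ℕ)}
    (h : certOK m n F R P L = true) : nodeOK m n F R P = true ∧
      (∀ e ∈ L, e.1 < n ∧ F e.1 = true ∧ pRt P e.1 = e.1 ∧ rcnt n F P e.1 = e.2) ∧
      allB (fun i => @Bool.rec (fun _ => Bool) true (L.any fun e => Nat.beq e.1 (pRt P i)) (F i)) 12 n = true := by
  rw [certOK, band_iff, band_iff] at h
  refine ⟨h.1, fun e he => ?_, h.2.2⟩
  have h1 := List.all_eq_true.1 h.2.1 e he
  rw [band_iff, band_iff, band_iff, beq_iff, beq_iff] at h1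
  exact ⟨by simpa [Nat.blt] using h1.1, h1.2.1, h1.2.2.1, h1.2.2.2⟩

/-- octad nodes -/
noncomputable def octF (k : ℕ) : Bool := Nat.beq (pc (enc k)) 8

theorem octF_iff {k : ℕ} : octF k = true ↔ pc (enc k) = 8 := beq_iff

theorem mem_octads_node (x : Finset GolayPt) : x ∈ octads ↔ ∃ k < 4096, octF k = true ∧ S (enc k) = x := by
  constructor
  · intro h
    obtain ⟨m, hm, h8, rfl⟩ := octad_mask h
    obtain ⟨k, hk, rfl⟩ := isCW_iff.1 hm
    exact ⟨k, hk, octF_iff.2 h8, rfl⟩
  · rintro ⟨k, hk, h, rfl⟩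
    exact S_mem_octads (isCW_iff.2 ⟨k, hk, rfl⟩) (octF_iff.1 h)

theorem orb_oct (H : Subgroup M24) {PP A m : ℕ} (hg : allN (fun i => genOK PP A i) m = true)
    (hH : ∀ g < m, ∀ h : toPerm (pk PP g) ∈ M24, (⟨toPerm (pk PP g), h⟩ : M24) ∈ H) {P : ℕ} (L : List (ℕ × ℕ))
    (h : certOK m 4096 octF (fun g i j => Nat.beq (act A g i) j) P L = true)
    (hnd : (L.map Prod.fst).Nodup) {N : ℕ} (hN : Nat.card H = N)
    (hdiv : ∀ C ∈ L.sublists, 2 ≤ C.length → ¬ (C.map Prod.snd).sum ∣ N) :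
    OrbReps H octads (L.map fun e => S (enc e.1)) (L.map Prod.snd) := by
  obtain ⟨h1, h2, h3⟩ := certOK_spec h
  have hg' : ∀ i < m, genOK PP A i = true := fun i hi => (allN_iff _ _).1 hg i hi
  refine orbReps_of_cert (PP := PP) H (le_refl _) (fun k => S (enc k)) octads mem_octads_node ?_
    (fun g hg x hx => smul_mem_octads hg hx) (fun g hgm => ⟨gen_memM24 (hg' g hgm), hH g hgm _⟩) ?_ h1 L h2 h3 hnd hN hdiv
  · intro i hi j hj _ _ hij
    exact S_enc_inj hi hj hij
  · intro g hgm i hi j hj _ _ hr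
    rw [gen_smul (hg' g hgm) hi, beq_iff.1 hr]

theorem orb_sxt (H : Subgroup M24) {PP A m : ℕ} (hg : allN (fun i => genSOK PP A i) m = true)
    (hH : ∀ g < m, ∀ h : toPerm (pk PP g) ∈ M24, (⟨toPerm (pk PP g), h⟩ : M24) ∈ H) {P : ℕ} (L : List (ℕ × ℕ))
    (h : certOK m 4096 sF (fun g i j => Nat.beq (act A g i) j) P L = true)
    (hnd : (L.map Prod.fst).Nodup) {N : ℕ} (hN : Nat.card H = N)
    (hdiv : ∀ C ∈ L.sublists, 2 ≤ C.length → ¬ (C.map Prod.snd).sum ∣ N) :
    OrbReps H sextets (L.map fun e => Sx e.1) (L.map Prod.snd) := by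
  obtain ⟨h1, h2, h3⟩ := certOK_spec h
  have hg' : ∀ i < m, genSOK PP A i = true := fun i hi => (allN_iff _ _).1 hg i hi
  refine orbReps_of_cert (PP := PP) H (le_refl _) Sx sextets mem_sextets_node ?_
    (fun g hg x hx => smul_mem_sextets hg hx) (fun g hgm => ⟨genS_mem (hg' g hgm), hH g hgm _⟩) ?_ h1 L h2 h3 hnd hN hdiv
  · intro i hi j hj hf _ hij
    exact Sx_inj hi hf hij
  · intro g hgm i hi j hj hf _ hr
    rw [genS_smul (hg' g hgm) hi hf, beq_iff.1 hr]

theorem orb_tri (H : Subgroup M24) {PP A m : ℕ} (hg : allN (fun i => genOK PP A i) m = true)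
    (hH : ∀ g < m, ∀ h : toPerm (pk PP g) ∈ M24, (⟨toPerm (pk PP g), h⟩ : M24) ∈ H) {P : ℕ} (L : List (ℕ × ℕ))
    (h : certOK m 3795 (fun _ => true) (relT A) P L = true)
    (hnd : (L.map Prod.fst).Nodup) {N : ℕ} (hN : Nat.card H = N)
    (hdiv : ∀ C ∈ L.sublists, 2 ≤ C.length → ¬ (C.map Prod.snd).sum ∣ N) :
    OrbReps H trios (L.map fun e => Tr e.1) (L.map Prod.snd) := by
  obtain ⟨h1, h2, h3⟩ := certOK_spec h
  have hg' : ∀ i < m, genOK PP A i = true := fun i hi => (allN_iff _ _).1 hg i hi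
  refine orbReps_of_cert (PP := PP) H (by norm_num) Tr trios ?_ ?_
    (fun g hg x hx => smul_mem_trios hg hx) (fun g hgm => ⟨gen_memM24 (hg' g hgm), hH g hgm _⟩) ?_ h1 L h2 h3 hnd hN hdiv
  · intro T
    rw [mem_trios_node]
    exact ⟨fun ⟨i, hi, h⟩ => ⟨i, hi, rfl, h⟩, fun ⟨i, hi, _, h⟩ => ⟨i, hi, h⟩⟩
  · intro i hi j hj _ _ hij
    exact Tr_inj hi hj hij
  · intro g hgm i hi j hj _ _ hr
    exact relT_spec (hg' g hgm) hi hj hr

/-- order of a stabilizer in a transitive action -/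
theorem card_stab_trans {X : Type*} [MulAction M24 X] {Ω : Set X} {x : X}
    (hinv : ∀ g : M24, g • x ∈ Ω) (htr : ∀ y ∈ Ω, ∃ g : M24, g • x = y) :
    Nat.card (MulAction.stabilizer M24 x) * Ω.ncard = 244823040 := by
  have h2 := Subgroup.card_mul_index (MulAction.stabilizer M24 x)
  rw [MulAction.index_stabilizer] at h2
  have h3 : MulAction.orbit M24 x = Ω := by
    ext s
    constructor
    · rintro ⟨g, rfl⟩; exact hinv g
    · intro hs; obtain ⟨g, hg⟩ := htr s hs; exact ⟨g, hg⟩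
  rw [h3, card_M24] at h2
  exact h2

theorem card_sxt_stab {X : Finset (Finset GolayPt)} (hX : X ∈ sextets) : Nat.card (MulAction.stabilizer M24 X) = 138240 := by
  have := card_stab_trans (Ω := sextets) (x := X) (fun g => smul_mem_sextets g.2 hX) (fun y hy => by
    obtain ⟨g, hg, h⟩ := sextet_trans hX hy; exact ⟨⟨g, hg⟩, h⟩)
  rw [sextets_ncard] at this
  omega

theorem card_tri_stab {X : Finset (Finset GolayPt)} (hX : X ∈ trios) : Nat.card (MulAction.stabilizer M24 X) = 64512 := by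
  have := card_stab_trans (Ω := trios) (x := X) (fun g => smul_mem_trios g.2 hX) (fun y hy => by
    obtain ⟨g, hg, h⟩ := trio_trans hX hy; exact ⟨⟨g, hg⟩, h⟩)
  rw [trios_ncard] at this
  omega

/-- fixed object version -/
theorem OrbList.fixed_three {G X : Type*} [Group G] [MulAction G X] {H : Subgroup G} {Ω : Set X} {a b c : ℕ} {x : X}
    (hx : x ∈ Ω) (hf : ∀ g ∈ H, g • x = x) (ha : a ≠ 1) (hb : b ≠ 1) (hc : c ≠ 1)
    (h : OrbList H Ω [1, a, b, c]) : ∃ X₁ ∈ Ω, ∃ X₂ ∈ Ω, ∃ X₃ ∈ Ω, (MulAction.orbit H X₁).ncard = a ∧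
      (MulAction.orbit H X₂).ncard = b ∧ (MulAction.orbit H X₃).ncard = c ∧
      Ω = {x} ∪ MulAction.orbit H X₁ ∪ MulAction.orbit H X₂ ∪ MulAction.orbit H X₃ := by
  obtain ⟨X0, h0, X1, h1, X2, h2, X3, h3, e0, e1, e2, e3, hu⟩ := h.four
  have hox : MulAction.orbit H x = {x} := by
    ext y
    constructor
    · rintro ⟨g, rfl⟩; exact hf g g.2
    · intro hy; rw [Set.mem_singleton_iff.1 hy]; exact MulAction.mem_orbit_self x
  have key : ∀ y, x ∈ MulAction.orbit H y → (MulAction.orbit H y).ncard = 1 := by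
    intro y hy
    rw [← MulAction.orbit_eq_iff.2 hy, hox, Set.ncard_singleton]
  have hx0 : x ∈ MulAction.orbit H X0 := by
    rw [hu] at hx
    rcases hx with ((hx | hx) | hx) | hx
    · exact hx
    · exact absurd (e1.symm.trans (key _ hx)) ha
    · exact absurd (e2.symm.trans (key _ hx)) hb
    · exact absurd (e3.symm.trans (key _ hx)) hc
  refine ⟨X1, h1, X2, h2, X3, h3, e1, e2, e3, ?_⟩
  rw [← hox, MulAction.orbit_eq_iff.2 hx0]; exact hu

theorem OrbList.five {G X : Type*} [Group G] [MulAction G X] {H : Subgroup G} {Ω : Set X} {a b c d e : ℕ}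
    (h : OrbList H Ω [a, b, c, d, e]) : ∃ X₁ ∈ Ω, ∃ X₂ ∈ Ω, ∃ X₃ ∈ Ω, ∃ X₄ ∈ Ω, ∃ X₅ ∈ Ω, (MulAction.orbit H X₁).ncard = a ∧
      (MulAction.orbit H X₂).ncard = b ∧ (MulAction.orbit H X₃).ncard = c ∧ (MulAction.orbit H X₄).ncard = d ∧
      (MulAction.orbit H X₅).ncard = e ∧
      Ω = MulAction.orbit H X₁ ∪ MulAction.orbit H X₂ ∪ MulAction.orbit H X₃ ∪ MulAction.orbit H X₄ ∪ MulAction.orbit H X₅ := by
  obtain ⟨R, h1, h2, h3, h4⟩ := h
  have hlen : R.length = 5 := by have := congrArg List.length h2; simpa using this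
  obtain ⟨x, R, rfl⟩ : ∃ x R', R = x :: R' := by
    cases R with
    | nil => simp at hlen
    | cons x R => exact ⟨x, R, rfl⟩
  have hlen' : R.length = 4 := by simpa using hlen
  obtain ⟨x', R, rfl⟩ : ∃ x R', R = x :: R' := by
    cases R with
    | nil => simp at hlen'
    | cons x R => exact ⟨x, R, rfl⟩
  have hlen'' : R.length = 3 := by simpa using hlen'
  obtain ⟨y, z, v, rfl⟩ := List.length_eq_three.1 hlen''
  simp only [List.map_cons, List.map_nil, List.cons.injEq, and_true] at h2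
  refine ⟨x, h1 x (by simp), x', h1 x' (by simp), y, h1 y (by simp), z, h1 z (by simp), v, h1 v (by simp), h2.1,
    h2.2.1, h2.2.2.1, h2.2.2.2.1, h2.2.2.2.2, ?_⟩
  apply Set.Subset.antisymm
  · intro w hw
    obtain ⟨u, hu, h5⟩ := h4 w hw
    simp only [List.mem_cons, List.not_mem_nil, or_false] at hu
    rcases hu with rfl | rfl | rfl | rfl | rfl
    · exact Or.inl (Or.inl (Or.inl (Or.inl h5)))
    · exact Or.inl (Or.inl (Or.inl (Or.inr h5)))
    · exact Or.inl (Or.inl (Or.inr h5))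
    · exact Or.inl (Or.inr h5)
    · exact Or.inr h5
  · rintro w ((((h5 | h5) | h5) | h5) | h5)
    · exact h3 x (by simp) h5
    · exact h3 x' (by simp) h5
    · exact h3 y (by simp) h5
    · exact h3 z (by simp) h5
    · exact h3 v (by simp) h5

theorem OrbList.fixed_four {G X : Type*} [Group G] [MulAction G X] {H : Subgroup G} {Ω : Set X} {a b c d : ℕ} {x : X}
    (hx : x ∈ Ω) (hf : ∀ g ∈ H, g • x = x) (ha : a ≠ 1) (hb : b ≠ 1) (hc : c ≠ 1) (hd : d ≠ 1)
    (h : OrbList H Ω [1, a, b, c, d]) : ∃ X₁ ∈ Ω, ∃ X₂ ∈ Ω, ∃ X₃ ∈ Ω, ∃ X₄ ∈ Ω, (MulAction.orbit H X₁).ncard = a ∧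
      (MulAction.orbit H X₂).ncard = b ∧ (MulAction.orbit H X₃).ncard = c ∧ (MulAction.orbit H X₄).ncard = d ∧
      Ω = {x} ∪ MulAction.orbit H X₁ ∪ MulAction.orbit H X₂ ∪ MulAction.orbit H X₃ ∪ MulAction.orbit H X₄ := by
  obtain ⟨X0, h0, X1, h1, X2, h2, X3, h3, X4, h4, e0, e1, e2, e3, e4, hu⟩ := h.five
  have hox : MulAction.orbit H x = {x} := by
    ext y
    constructor
    · rintro ⟨g, rfl⟩; exact hf g g.2
    · intro hy; rw [Set.mem_singleton_iff.1 hy]; exact MulAction.mem_orbit_self x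
  have key : ∀ y, x ∈ MulAction.orbit H y → (MulAction.orbit H y).ncard = 1 := by
    intro y hy
    rw [← MulAction.orbit_eq_iff.2 hy, hox, Set.ncard_singleton]
  have hx0 : x ∈ MulAction.orbit H X0 := by
    rw [hu] at hx
    rcases hx with (((hx | hx) | hx) | hx) | hx
    · exact hx
    · exact absurd (e1.symm.trans (key _ hx)) ha
    · exact absurd (e2.symm.trans (key _ hx)) hb
    · exact absurd (e3.symm.trans (key _ hx)) hc
    · exact absurd (e4.symm.trans (key _ hx)) hd
  refine ⟨X1, h1, X2, h2, X3, h3, X4, h4, e1, e2, e3, e4, ?_⟩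
  rw [← hox, MulAction.orbit_eq_iff.2 hx0]; exact hu

/-- maximality from an orbit list with distinct sizes -/
theorem coatom_of_orbList {G X : Type*} [Group G] [Finite G] [MulAction G X] [DecidableEq X] {Ω : Finset X} {x : X}
    (hΩ : ∀ y, y ∈ Ω ↔ y ∈ MulAction.orbit G x) {L : List ℕ}
    (h : OrbList (MulAction.stabilizer G x) (Ω : Set X) (1 :: L)) (hnd : (1 :: L).Nodup)
    (hdiv : ∀ C ∈ L.sublists, (1 + C.sum) ∣ Ω.card → C = [] ∨ 1 + C.sum = Ω.card) (hne : 1 < Ω.card) :
    IsCoatom (MulAction.stabilizer G x) := by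
  classical
  obtain ⟨R, h1, h2, h3, h4⟩ := h
  have hxO : x ∈ Ω := (hΩ x).2 (MulAction.mem_orbit_self x)
  let c : X → ℕ := fun y => (MulAction.orbit (MulAction.stabilizer G x) y).ncard
  have hox : MulAction.orbit (MulAction.stabilizer G x) x = {x} := by
    ext y
    constructor
    · rintro ⟨g, rfl⟩; exact g.2
    · intro hy; rw [Set.mem_singleton_iff.1 hy]; exact MulAction.mem_orbit_self x
  have hcx : c x = 1 := by show (MulAction.orbit (MulAction.stabilizer G x) x).ncard = 1; rw [hox, Set.ncard_singleton]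
  -- distinct representatives have distinct sizes
  have hRinj : ∀ y ∈ R, ∀ z ∈ R, c y = c z → y = z := by
    have : (R.map fun y => (MulAction.orbit (MulAction.stabilizer G x) y).ncard).Nodup := by rw [h2]; exact hnd
    intro y hy z hz hyz
    exact List.inj_on_of_nodup_map this hy hz hyz
  have hsame : ∀ y ∈ Ω, ∀ z ∈ Ω, c y = c z → z ∈ MulAction.orbit (MulAction.stabilizer G x) y := by
    intro y hy z hz hyz
    obtain ⟨r, hr, hyr⟩ := h4 y hy
    obtain ⟨s, hs, hzs⟩ := h4 z hz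
    have e1 := MulAction.orbit_eq_iff.2 hyr
    have e2 := MulAction.orbit_eq_iff.2 hzs
    have : r = s := by
      apply hRinj r hr s hs
      show (MulAction.orbit _ r).ncard = (MulAction.orbit _ s).ncard
      rw [← e1, ← e2]; exact hyz
    rw [e1, this]; exact hzs
  have hcard : ∀ i ∈ L, (Ω.filter fun y => y ≠ x ∧ c y = i).card = i := by
    intro i hi
    have hi' : i ∈ (1 :: L) := List.mem_cons_of_mem _ hi
    rw [← h2, List.mem_map] at hi'
    obtain ⟨r, hr, hri⟩ := hi'
    have hne1 : i ≠ 1 := by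
      rintro rfl
      exact (List.nodup_cons.1 hnd).1 hi
    have hfin : (MulAction.orbit (MulAction.stabilizer G x) r).Finite := Ω.finite_toSet.subset (h3 r hr)
    have : (Ω.filter fun y => y ≠ x ∧ c y = i : Finset X) = hfin.toFinset := by
      ext y
      rw [Finset.mem_filter, Set.Finite.mem_toFinset]
      constructor
      · rintro ⟨a, _, b⟩
        exact hsame r (Finset.mem_coe.1 (h1 r hr)) y a (by rw [b]; exact hri)
      · intro hy
        have hyO : y ∈ Ω := h3 r hr hy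
        have hcy : c y = i := by
          show (MulAction.orbit _ y).ncard = i
          rw [MulAction.orbit_eq_iff.2 hy]; exact hri
        refine ⟨hyO, ?_, hcy⟩
        rintro rfl
        exact hne1 (hcy.symm.trans hcx)
    rw [this, ← Set.ncard_eq_toFinset_card _ hfin]; exact hri
  refine coatom_of_suborbits x Ω hΩ c L.toFinset ?_ ?_ ?_ hne
  · intro y hy hyx
    rw [List.mem_toFinset]
    obtain ⟨r, hr, hyr⟩ := h4 y hy
    have hcr : c y = c r := by
      show (MulAction.orbit _ y).ncard = (MulAction.orbit _ r).ncard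
      rw [MulAction.orbit_eq_iff.2 hyr]
    have hm : c y ∈ (1 :: L) := by
      rw [← h2, List.mem_map]; exact ⟨r, hr, hcr.symm⟩
    rcases List.mem_cons.1 hm with h5 | h5
    · exfalso
      have := hsame x hxO y hy (by rw [hcx, h5])
      rw [hox] at this
      exact hyx this
    · exact h5
  · intro y hy z hz _ _ hyz
    obtain ⟨g, hg⟩ := hsame y hy z hz hyz
    exact ⟨g, g.2, hg⟩
  · intro C hC hd
    have hsum : ∑ i ∈ C, (Ω.filter fun y => y ≠ x ∧ c y = i).card = (L.filter (· ∈ C)).sum := by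
      have h5 : ∀ i ∈ C, (Ω.filter fun y => y ≠ x ∧ c y = i).card = i := by
        intro i hi
        exact hcard i (by have := hC hi; rwa [List.mem_toFinset] at this)
      rw [Finset.sum_congr rfl h5]
      have hLn : L.Nodup := (List.nodup_cons.1 hnd).2
      have : C = (L.filter (· ∈ C)).toFinset := by
        ext i
        rw [List.mem_toFinset, List.mem_filter]
        constructor
        · intro hi; exact ⟨by have := hC hi; rwa [List.mem_toFinset] at this, by simpa using hi⟩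
        · rintro ⟨_, hi⟩; simpa using hi
      conv_lhs => rw [this]
      rw [List.sum_toFinset _ (hLn.filter _)]
      simp
    rw [hsum] at hd ⊢
    rcases hdiv _ (List.mem_sublists.2 List.filter_sublist) hd with h5 | h5
    · left
      rw [Finset.eq_empty_iff_forall_notMem]
      intro i hi
      have : i ∈ L.filter (· ∈ C) := by
        rw [List.mem_filter]
        exact ⟨by have := hC hi; rwa [List.mem_toFinset] at this, by simpa using hi⟩
      rw [h5] at this; simp at this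
    · right; exact h5

/-- sextets as a finset -/
noncomputable def sxF : Finset (Finset (Finset GolayPt)) := (Set.toFinite sextets).toFinset
theorem mem_sxF {T : Finset (Finset GolayPt)} : T ∈ sxF ↔ T ∈ sextets := by simp [sxF]
theorem coe_sxF : (sxF : Set (Finset (Finset GolayPt))) = sextets := by ext T; rw [Finset.mem_coe, mem_sxF]
theorem coe_trF : (trF : Set (Finset (Finset GolayPt))) = trios := by ext T; rw [Finset.mem_coe, mem_trF]
theorem sxF_card : sxF.card = 1771 := by rw [← Set.ncard_coe_finset, coe_sxF, sextets_ncard]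

end Cfsg.Agent.H9
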