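import Cfsg.Agent.H9.M24Cert2
set_option autoImplicit false

namespace Cfsg.Agent.H9
open Cfsg
open scoped Pointwise

theorem B0_pt : B 0 = pt 23 := by
  have : bs 0 = 23 := by decide +kernel
  rw [B, this]
theorem B1_pt : B 1 = pt 0 := by
  have : bs 1 = 0 := by decide +kernel
  rw [B, this]
theorem B6_pt : B 6 = pt 4 := by
  have : bs 6 = 4 := by decide +kernel
  rw [B, this]
theorem D0_pt : D 0 = pt 0 := by
  have : lookW 5 31 g12B 0 = 0 := by decide +kernel
  rw [D, this]

theorem mem_smul_iff' (g : Equiv.Perm GolayPt) (x : GolayPt) (s : Finset GolayPt) : g x ∈ g • s ↔ x ∈ s := by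
  constructor
  · intro h
    obtain ⟨y, hy, h1⟩ := Finset.mem_smul_finset.1 h
    rw [Equiv.Perm.smul_def] at h1
    rwa [← g.injective h1]
  · intro h; exact Finset.mem_smul_finset.2 ⟨x, h, rfl⟩

/-- back-transport of a transitivity statement along `u` -/
theorem back {u g : Equiv.Perm GolayPt} (hu : u ∈ M24) (hg : g ∈ M24) : u⁻¹ * g * u ∈ M24 :=
  M24.mul_mem (M24.mul_mem (M24.inv_mem hu) hg) hu

theorem back_pt {u g : Equiv.Perm GolayPt} {x y : GolayPt} (h : u x = y) (hg : g y = y) : (u⁻¹ * g * u) x = x := by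
  show u⁻¹ (g (u x)) = x
  rw [Equiv.Perm.inv_eq_iff_eq, h, hg]

theorem back_set {u g : Equiv.Perm GolayPt} {s t : Finset GolayPt} (h : g • (u • s) = u • t) :
    (u⁻¹ * g * u) • s = t := by
  rw [mul_smul, mul_smul, h, inv_smul_smul]

end Cfsg.Agent.H9
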