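import Cfsg.Agent.H9.Idx
import Cfsg.Prelude.Def_KGroupFacts
set_option autoImplicit false

/-! Automorphisms of the Mathieu groups. -/

namespace Cfsg.Agent.H9
open Cfsg
open scoped Pointwise

/-- an automorphism permuting the point stabilizers is induced by a permutation -/
theorem exists_pi {Ω : Type*} [Finite Ω] (G : Subgroup (Equiv.Perm Ω)) (φ : G ≃* G) (Δ : Set Ω)
    (h4 : ∀ g ∈ G, ∀ a ∈ Δ, g a ∈ Δ) (h3 : ∀ g ∈ G, ∀ a, a ∉ Δ → g a = a)
    (h2 : ∀ a ∈ Δ, ∀ b ∈ Δ, (∀ g ∈ G, g a = a → g b = b) → a = b)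
    (h1 : ∀ a ∈ Δ, ∃ b ∈ Δ, ∀ g : G, (g : Equiv.Perm Ω) a = a ↔ (φ g : Equiv.Perm Ω) b = b) :
    ∃ π : Equiv.Perm Ω, (∀ a ∈ Δ, π a ∈ Δ) ∧ (∀ a, a ∉ Δ → π a = a) ∧
      ∀ g : G, (φ g : Equiv.Perm Ω) = π * g * π⁻¹ := by
  classical
  choose! f hf1 hf2 using h1
  let F : Ω → Ω := fun a => if a ∈ Δ then f a else a
  have hFin : ∀ a ∈ Δ, F a = f a := fun a ha => if_pos ha
  have hFout : ∀ a, a ∉ Δ → F a = a := fun a ha => if_neg ha
  have hinj : Function.Injective F := by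
    intro a b hab
    by_cases ha : a ∈ Δ <;> by_cases hb : b ∈ Δ
    · rw [hFin a ha, hFin b hb] at hab
      apply h2 a ha b hb
      intro g hg hga
      have h5 := (hf2 a ha ⟨g, hg⟩).1 hga
      rw [hab] at h5
      exact (hf2 b hb ⟨g, hg⟩).2 h5
    · rw [hFin a ha, hFout b hb] at hab
      exact absurd (hab ▸ hf1 a ha) hb
    · rw [hFout a ha, hFin b hb] at hab
      exact absurd (hab ▸ hf1 b hb) ha
    · rwa [hFout a ha, hFout b hb] at hab
  let π : Equiv.Perm Ω := Equiv.ofBijective F ((Finite.injective_iff_bijective).1 hinj)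
  have hπ : ∀ a, π a = F a := fun _ => rfl
  refine ⟨π, fun a ha => ?_, fun a ha => ?_, fun g => ?_⟩
  · rw [hπ, hFin a ha]; exact hf1 a ha
  · rw [hπ, hFout a ha]
  · rw [eq_mul_inv_iff_mul_eq]
    ext1 a
    rw [Equiv.Perm.mul_apply, Equiv.Perm.mul_apply, hπ, hπ]
    by_cases ha : a ∈ Δ
    · have hga := h4 g g.2 a ha
      rw [hFin a ha, hFin _ hga]
      apply h2 _ (h4 _ (φ g).2 _ (hf1 a ha)) _ (hf1 _ hga)
      intro k hk hk1
      obtain ⟨h, hh⟩ := φ.surjective ⟨k, hk⟩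
      have hk' : k = (φ h : Equiv.Perm Ω) := by rw [hh]
      rw [hk'] at hk1 ⊢
      rw [← hf2 _ hga]
      have h5 : ((φ (g⁻¹ * h * g) : G) : Equiv.Perm Ω) (f a) = f a := by
        rw [map_mul, map_mul, map_inv]
        show ((φ g : Equiv.Perm Ω))⁻¹ ((φ h : Equiv.Perm Ω) ((φ g : Equiv.Perm Ω) (f a))) = f a
        rw [hk1, Equiv.Perm.inv_eq_iff_eq]
      have h6 := (hf2 a ha (g⁻¹ * h * g)).2 h5
      have h7 : ((g : Equiv.Perm Ω))⁻¹ ((h : Equiv.Perm Ω) ((g : Equiv.Perm Ω) a)) = a := h6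
      rwa [Equiv.Perm.inv_eq_iff_eq] at h7
    · have hga : (g : Equiv.Perm Ω) a = a := h3 g g.2 a ha
      rw [hFout a ha, hga, hFout a ha]
      exact h3 _ (φ g).2 a ha

/-- image of a point stabilizer under an automorphism -/
noncomputable def stImg (G : Subgroup (Equiv.Perm GolayPt)) (φ : G ≃* G) (a : GolayPt) : Subgroup (Equiv.Perm GolayPt) :=
  (((st G a).subgroupOf G).map φ.toMonoidHom).map G.subtype

theorem mem_stImg {G : Subgroup (Equiv.Perm GolayPt)} {φ : G ≃* G} {a : GolayPt} (g : G) :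
    (φ g : Equiv.Perm GolayPt) ∈ stImg G φ a ↔ (g : Equiv.Perm GolayPt) a = a := by
  constructor
  · rintro ⟨x, ⟨y, hy, rfl⟩, hx⟩
    have : φ y = φ g := Subtype.ext hx
    rw [← φ.injective this]
    exact hy.2
  · intro h
    exact ⟨φ g, ⟨g, ⟨g.2, h⟩, rfl⟩, rfl⟩

theorem stImg_le {G : Subgroup (Equiv.Perm GolayPt)} {φ : G ≃* G} {a : GolayPt} : stImg G φ a ≤ G := by
  rintro _ ⟨x, _, rfl⟩; exact x.2

theorem card_stImg {G : Subgroup (Equiv.Perm GolayPt)} {φ : G ≃* G} {a : GolayPt} :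
    Nat.card (stImg G φ a) = Nat.card (st G a) := by
  rw [stImg, Nat.card_congr (Subgroup.equivMapOfInjective _ _ G.subtype_injective).symm.toEquiv,
    Nat.card_congr (Subgroup.equivMapOfInjective _ φ.toMonoidHom φ.injective).symm.toEquiv,
    Nat.card_congr (Subgroup.subgroupOfEquivOfLe (show st G a ≤ G from inf_le_left)).toEquiv]

theorem st_match {G : Subgroup (Equiv.Perm GolayPt)} {φ : G ≃* G} {a b : GolayPt}
    (hc : Nat.card (st G a) = Nat.card (st G b)) (hb : ∀ g ∈ stImg G φ a, g b = b) (g : G) :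
    (g : Equiv.Perm GolayPt) a = a ↔ (φ g : Equiv.Perm GolayPt) b = b := by
  have hle : stImg G φ a ≤ st G b := fun g hg => ⟨stImg_le hg, hb g hg⟩
  have heq : stImg G φ a = st G b := by
    apply Subgroup.eq_of_le_of_card_ge hle
    rw [card_stImg, hc]
  rw [← mem_stImg (φ := φ) g, heq]
  exact ⟨fun h => h.2, fun h => ⟨(φ g).2, h⟩⟩

theorem out_one {Ω : Type*} {G : Subgroup (Equiv.Perm Ω)}
    (h : ∀ φ : MulAut G, ∃ π ∈ G, ∀ g : G, (φ g : Equiv.Perm Ω) = π * g * π⁻¹) : Nat.card (Out G) = 1 := by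
  have h1 : Inn G = ⊤ := by
    rw [Subgroup.eq_top_iff']
    intro φ
    obtain ⟨π, hπ, h2⟩ := h φ
    refine ⟨⟨π, hπ⟩, ?_⟩
    ext1 g
    apply Subtype.ext
    rw [h2 g]; rfl
  have h2 : Nat.card (Out G) = (Inn G).index := rfl
  rw [h2, h1, Subgroup.index_top]

theorem out_two {Ω : Type*} {G : Subgroup (Equiv.Perm Ω)} (s : MulAut G) (hs : s ∉ Inn G)
    (h : ∀ φ : MulAut G, φ ∈ Inn G ∨ φ * s ∈ Inn G) : Nat.card (Out G) = 2 := by
  have h2 : Nat.card (Out G) = (Inn G).index := rfl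
  rw [h2, Subgroup.index_eq_two_iff]
  refine ⟨s, fun φ => ?_⟩
  by_cases h1 : φ ∈ Inn G
  · right
    refine ⟨h1, fun h3 => hs ?_⟩
    have := (Inn G).mul_mem ((Inn G).inv_mem h1) h3
    rwa [inv_mul_cancel_left] at this
  · left
    exact ⟨(h φ).resolve_left h1, h1⟩

/-! ### permutations preserving enough octads -/

/-- first entry of a pair table -/
def loT (T i : ℕ) : ℕ := lookW 24 4095 T i
/-- second entry of a pair table -/
def hiT (T i : ℕ) : ℕ := Nat.shiftRight (lookW 24 16777215 T i) 12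

theorem loT_lt (T i : ℕ) : loT T i < 4096 := land_mask_lt _ 12
theorem hiT_lt (T i : ℕ) : hiT T i < 4096 := by
  have h := land_mask_lt (Nat.shiftRight T (Nat.mul i 24)) 24
  have e : hiT T i = lookW 24 16777215 T i / 2 ^ 12 := Nat.shiftRight_eq_div_pow _ _
  rw [e]
  exact Nat.div_lt_of_lt_mul (by rw [show 2 ^ 12 * 4096 = 2 ^ 24 by norm_num]; exact h)

/-- zero or satisfying `f` -/
noncomputable def zf (f : ℕ → Bool) (a : ℕ) : Bool := @Bool.rec (fun _ => Bool) (f a) true (Nat.beq a 0)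

/-- pair table check -/
noncomputable def pairT (f : ℕ → Bool) (T : ℕ) (tgt : ℕ → ℕ) (n : ℕ) : Bool :=
  allN (fun i => band (zf f (loT T i)) (band (zf f (hiT T i)) (Nat.beq (Nat.xor (loT T i) (hiT T i)) (tgt i)))) n

theorem pairT_mem {D : Submodule (ZMod 2) (GolayPt → ZMod 2)} {f : ℕ → Bool} {T : ℕ} {tgt : ℕ → ℕ} {n : ℕ}
    (hT : pairT f T tgt n = true) (h : ∀ k < 4096, f k = true → wd (enc k) ∈ D) {i : ℕ} (hi : i < n) :
    wd (enc (tgt i)) ∈ D := by
  have h1 := (allN_iff _ _).1 hT i hi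
  rw [band_iff, band_iff, beq_iff] at h1
  obtain ⟨h2, h3, h4⟩ := h1
  have key : ∀ a < 4096, zf f a = true → wd (enc a) ∈ D := by
    intro a ha hz
    rcases (brec_true _ _).1 hz with h5 | h5
    · rw [beq_iff.1 h5, enc_zero, wd_zero]; exact D.zero_mem
    · exact h a ha h5
  rw [← h4]
  have hX : ∀ x y, Nat.xor x y = x ^^^ y := fun _ _ => rfl
  rw [hX, enc_xor, wd_xor]
  exact D.add_mem (key _ (loT_lt _ _) h2) (key _ (hiT_lt _ _) h3)

/-- the pullback of the code -/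
noncomputable def pull (π : Equiv.Perm GolayPt) : Submodule (ZMod 2) (GolayPt → ZMod 2) :=
  golayCode.comap (LinearMap.funLeft (ZMod 2) (ZMod 2) (π.symm : GolayPt → GolayPt))

theorem mem_pull {π : Equiv.Perm GolayPt} {w : GolayPt → ZMod 2} : w ∈ pull π ↔ (fun p => w (π.symm p)) ∈ golayCode :=
  Iff.rfl

theorem mem_pull_support {π : Equiv.Perm GolayPt} {w : GolayPt → ZMod 2} :
    w ∈ pull π ↔ π • support₂ w ∈ supports (golayCode : Set (GolayPt → ZMod 2)) := by
  rw [mem_pull, ← support_comp]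
  constructor
  · intro h; exact ⟨_, h, rfl⟩
  · rintro ⟨v, hv, h⟩
    rw [← support_inj h]; exact hv

theorem mem_M24_of_octads {π : Equiv.Perm GolayPt} {f : ℕ → Bool} {T : ℕ}
    (hT : pairT f T (fun i => Nat.pow 2 i) 12 = true) (h : ∀ k < 4096, f k = true → π • S (enc k) ∈ octads) :
    π ∈ M24 := by
  rw [mem_M24_iff]
  intro w hw
  obtain ⟨k, hk, rfl⟩ := mem_golay_iff.1 hw
  exact enc_mem_of (pull π) (fun i hi => pairT_mem hT (fun k hk hf => by
    rw [mem_pull_support, support_wd]; exact (h k hk hf).1) hi) hk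

/-! ### the full group -/

/-- pair table: all octads -/
def tAll : ℕ := 0x800000400000200000100000080000040000020000010000008000004000002000001

theorem octads_invol {o : Finset GolayPt} (ho : o ∈ octads) : ∃ g ∈ M24, g ^ 2 = 1 ∧ g ≠ 1 ∧ fx g = o := by
  obtain ⟨u, hu, h⟩ := octad_trans fx_c2A_oct ho
  have h2 : toPerm c2A ^ 2 = 1 := (powOK_iff (checkM24_perm c2A_m)).1 c2A_pow
  refine ⟨u * toPerm c2A * u⁻¹, conj_mem (checkM24_mem c2A_m) hu, ?_, ?_, ?_⟩
  · rw [conj_pow', h2]; group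
  · intro h1
    have h3 : toPerm c2A = 1 := by
      have : toPerm c2A = u⁻¹ * (u * toPerm c2A * u⁻¹) * u := by group
      rw [this, h1]; group
    have h8 := octad_card fx_c2A_oct
    rw [h3] at h8
    have : fx (1 : Equiv.Perm GolayPt) = Finset.univ := by ext p; simp [mem_fx]
    rw [this, Finset.card_univ, card_pt] at h8
    omega
  · rw [fx_conj, h]

/-- image of an octad under a permutation inducing an automorphism of a subgroup containing its involutions -/
theorem pi_octad {G : Subgroup (Equiv.Perm GolayPt)} (hG : G ≤ M24) {φ : G ≃* G} {π : Equiv.Perm GolayPt}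
    (hπ : ∀ g : G, (φ g : Equiv.Perm GolayPt) = π * g * π⁻¹) {g : Equiv.Perm GolayPt} (hg : g ∈ G)
    (h2 : g ^ 2 = 1) (h1 : g ≠ 1) (hf : (fx g).Nonempty) : π • fx g ∈ octads := by
  have e := hπ ⟨g, hg⟩
  have e' : π * g * π⁻¹ ∈ M24 := by
    have : (φ ⟨g, hg⟩ : Equiv.Perm GolayPt) = π * g * π⁻¹ := e
    rw [← this]; exact hG (φ ⟨g, hg⟩).2
  rw [← fx_conj]
  apply fx_2A e'
  · rw [conj_pow', h2]; group
  · intro h
    apply h1
    have : g = π⁻¹ * (π * g * π⁻¹) * π := by group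
    rw [this, h]; group
  · obtain ⟨p, hp⟩ := hf
    refine ⟨π p, ?_⟩
    have : π p ∈ fx (π * g * π⁻¹) := by rw [fx_conj, mem_smul_iff']; exact hp
    exact mem_fx.1 this

theorem card_st_M24 (a : GolayPt) : Nat.card (st M24 a) = 10200960 := by
  have := card_stab1 a
  have h2 := card_inf_stab M24 a
  have h3 : (MulAction.orbit M24 a).ncard = 24 := by
    have : MulAction.orbit M24 a = Set.univ := by
      ext q
      simp only [Set.mem_univ, iff_true]
      obtain ⟨g, hg, h⟩ := m24_transOn [a] [q] (by simp) (by simp) (by simp) (by simp) (by simp) (by simp)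
      simp only [List.map_cons, List.map_nil, List.cons.injEq, and_true] at h
      exact ⟨⟨g, hg⟩, h⟩
    rw [this, Set.ncard_univ, Nat.card_eq_fintype_card, card_pt]
  rw [card_M24, h3] at h2
  have h4 : Nat.card (st M24 a) = Nat.card ↥(M24 ⊓ MulAction.stabilizer (Equiv.Perm GolayPt) a) := rfl
  omega

theorem one_pt_sep {a b : GolayPt} (h : ∀ g ∈ M24, g a = a → g b = b) : a = b := by
  by_contra hab
  obtain ⟨c, hc⟩ : ∃ c, c ∉ ({a, b} : Finset GolayPt) := by
    by_contra hcon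
    push Not at hcon
    have := Finset.card_le_card (fun q _ => hcon q : (Finset.univ : Finset GolayPt) ⊆ {a, b})
    rw [Finset.card_univ, card_pt] at this
    have h2 : ({a, b} : Finset GolayPt).card ≤ 2 := Finset.card_le_two
    omega
  simp only [Finset.mem_insert, Finset.mem_singleton, not_or] at hc
  obtain ⟨g, hg, h1⟩ := m24_transOn [a, b] [a, c] (by simp [hab]) (by simp [Ne.symm hc.1]) (by simp) (by simp)
    (by simp) (by simp)
  simp only [List.map_cons, List.map_nil, List.cons.injEq, and_true] at h1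
  rw [h g hg h1.1] at h1
  exact hc.2 h1.2.symm

theorem out_M24 : Nat.card (Out ↥M24) = 1 := by
  apply out_one
  intro φ
  obtain ⟨π, -, -, hπ⟩ := exists_pi M24 φ Set.univ (fun _ _ _ _ => Set.mem_univ _) (fun _ _ a ha => absurd (Set.mem_univ a) ha)
    (fun a _ b _ h => one_pt_sep h) (by
      intro a _
      obtain ⟨b, hb⟩ := idx24 (K := stImg M24 φ a) stImg_le (by rw [card_stImg, card_st_M24])
      exact ⟨b, Set.mem_univ _, fun g => st_match (by rw [card_st_M24, card_st_M24]) hb g⟩)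
  refine ⟨π, ?_, hπ⟩
  refine mem_M24_of_octads (f := octF) (T := tAll) (by decide +kernel) ?_
  intro k hk hf
  obtain ⟨g, hg, h2, h1, h3⟩ := octads_invol ((mem_octads_node _).2 ⟨k, hk, hf, rfl⟩)
  rw [← h3]
  apply pi_octad le_rfl hπ hg h2 h1
  rw [h3, ← Finset.card_pos, card_S, octF_iff.1 hf]; norm_num

end Cfsg.Agent.H9
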