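import Cfsg.Agent.H9.Out2
set_option autoImplicit false

/-! Automorphisms of the stabilizer of a dodecad and a point. -/

namespace Cfsg.Agent.H9
open Cfsg
open scoped Pointwise

theorem D_pt {i : ℕ} (hi : i < 5) : D i = pt i := by
  have h : allN (fun i => Nat.beq (lookW 5 31 g12B i) i) 5 = true := by decide +kernel
  rw [D, beq_iff.1 ((allN_iff _ _).1 h i hi)]

theorem mem_K11 {g : Equiv.Perm GolayPt} : g ∈ chn K12 g12B 1 ↔ g ∈ K12 ∧ g (pt 0) = pt 0 := by
  rw [mem_chn]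
  constructor
  · rintro ⟨h1, h2⟩
    have := h2 0 (by norm_num)
    have e : pt (lookW 5 31 g12B 0) = pt 0 := D_pt (i := 0) (by norm_num)
    rw [e] at this
    exact ⟨h1, this⟩
  · rintro ⟨h1, h2⟩
    refine ⟨h1, fun j hj => ?_⟩
    have : j = 0 := by omega
    subst this
    have e : pt (lookW 5 31 g12B 0) = pt 0 := D_pt (i := 0) (by norm_num)
    rw [e]; exact h2

theorem fxD_le {g : Equiv.Perm GolayPt} (hg : g ∈ K12) (hne : g ≠ 1) : (S dod0 ∩ fx g).card ≤ 4 := by
  by_contra h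
  push Not at h
  obtain ⟨t, ht, h5⟩ := Finset.exists_subset_card_eq (show 5 ≤ (S dod0 ∩ fx g).card by omega)
  apply hne
  apply K12_eq_one hg t.toList (Finset.nodup_toList t) (by rw [Finset.length_toList, h5])
  · intro x hx
    rw [Finset.mem_toList] at hx
    exact (Finset.mem_inter.1 (ht hx)).1
  · intro x hx
    rw [Finset.mem_toList] at hx
    exact mem_fx.1 (Finset.mem_inter.1 (ht hx)).2

theorem dod_inv {x : Equiv.Perm GolayPt} (hx : x ∈ K12) : ∀ q ∈ S dod0, x q ∈ S dod0 := fun _ hq => (K12_inv hx).2 hq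

theorem p0_mem : pt 0 ∈ S dod0 := by
  have := D_mem (i := 0) (by norm_num)
  rwa [D_pt (by norm_num)] at this

theorem idx11 {K : Subgroup (Equiv.Perm GolayPt)} (hK : K ≤ chn K12 g12B 1) (hc : Nat.card K = 720) :
    ∃ b ∈ (S dod0).erase (pt 0), ∀ g ∈ K, g b = b := by
  have hD : (S dod0).card = 12 := by rw [card_S, dod0_pc]
  have hK1 : ∀ g ∈ K, g ∈ K12 := fun g hg => (mem_K11.1 (hK hg)).1
  have hK0 : ∀ g ∈ K, g (pt 0) = pt 0 := fun g hg => (mem_K11.1 (hK hg)).2
  obtain ⟨x, hx, hx1, hx2⟩ := cauchy (K := K) (p := 5) (by norm_num) (by rw [hc]; norm_num)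
  have h1 := mod_p (O := S dod0) (p := 5) (by norm_num) hx1 (dod_inv (hK1 x hx))
  have h2 := fxD_le (hK1 x hx) hx2
  have h3 : (S dod0 ∩ fx x).card = 2 := by
    rw [hD] at h1
    unfold Nat.ModEq at h1
    omega
  have hp0 : pt 0 ∈ S dod0 ∩ fx x := Finset.mem_inter.2 ⟨p0_mem, mem_fx.2 (hK0 x hx)⟩
  have h4 : ((S dod0 ∩ fx x).erase (pt 0)).card = 1 := by rw [Finset.card_erase_of_mem hp0, h3]
  obtain ⟨a, ha⟩ := Finset.card_eq_one.1 h4
  have ha' : a ∈ (S dod0 ∩ fx x).erase (pt 0) := by rw [ha]; simp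
  rw [Finset.mem_erase, Finset.mem_inter] at ha'
  have hO : orbF K a ⊆ (S dod0).erase (pt 0) := by
    intro q hq
    obtain ⟨k, hk, rfl⟩ := mem_orbF.1 hq
    rw [Finset.mem_erase]
    exact ⟨fun h => ha'.1 (k.injective (h.trans (hK0 k hk).symm)), dod_inv (hK1 k hk) _ ha'.2.1⟩
  have h5 : orbF K a ∩ fx x = {a} := by
    rw [← ha]
    ext q
    rw [Finset.mem_inter, Finset.mem_erase, Finset.mem_inter]
    constructor
    · rintro ⟨h6, h7⟩
      have := Finset.mem_erase.1 (hO h6)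
      exact ⟨this.1, this.2, h7⟩
    · intro h6
      have : q ∈ ({a} : Finset GolayPt) := by rw [← ha]; simpa using h6
      rw [Finset.mem_singleton] at this
      rw [this]
      exact ⟨self_orbF K a, ha'.2.2⟩
  have h6 := orbF_mod (a := a) (p := 5) (by norm_num) hx hx1
  rw [h5, Finset.card_singleton] at h6
  have h7 := Finset.card_le_card hO
  rw [Finset.card_erase_of_mem p0_mem, hD] at h7
  have h8 := card_orbF K a
  rw [hc] at h8
  have h9 : (orbF K a).card = 1 ∨ (orbF K a).card = 6 := by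
    have h10 : (orbF K a).card = 1 ∨ (orbF K a).card = 6 ∨ (orbF K a).card = 11 := by
      unfold Nat.ModEq at h6
      omega
    rcases h10 with h | h | h
    · exact Or.inl h
    · exact Or.inr h
    · rw [h] at h8
      omega
  rcases h9 with h9 | h9
  · exact ⟨a, Finset.mem_erase.2 ⟨ha'.1, ha'.2.1⟩, orbF_one h9⟩
  · exfalso
    rw [h9] at h8
    have h10 : Nat.card (st K a) = 120 := by omega
    obtain ⟨y, hy, hy1, hy2⟩ := cauchy (K := st K a) (p := 3) (by norm_num) (by rw [h10]; norm_num)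
    rw [mem_st] at hy
    have h11 := mod_p (O := S dod0) (p := 3) (by norm_num) hy1 (dod_inv (hK1 y hy.1))
    have h12 := fxD_le (hK1 y hy.1) hy2
    have h13 := orbF_mod (a := a) (p := 3) (by norm_num) hy.1 hy1
    rw [h9] at h13
    rw [hD] at h11
    have h14 : 0 < (orbF K a ∩ fx y).card :=
      Finset.card_pos.2 ⟨a, Finset.mem_inter.2 ⟨self_orbF K a, mem_fx.2 hy.2⟩⟩
    have h15 : insert (pt 0) (orbF K a ∩ fx y) ⊆ S dod0 ∩ fx y := by
      intro q hq
      rw [Finset.mem_insert] at hq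
      rcases hq with rfl | hq
      · exact Finset.mem_inter.2 ⟨p0_mem, mem_fx.2 (hK0 y hy.1)⟩
      · rw [Finset.mem_inter] at hq
        exact Finset.mem_inter.2 ⟨(Finset.mem_erase.1 (hO hq.1)).2, hq.2⟩
    have h16 := Finset.card_le_card h15
    rw [Finset.card_insert_of_notMem (fun h => (Finset.mem_erase.1 (hO (Finset.mem_inter.1 h).1)).1 rfl)] at h16
    unfold Nat.ModEq at h11 h13
    omega

/-- the map on points induced by an automorphism permuting point stabilizers -/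
theorem exists_f {Ω : Type*} (G : Subgroup (Equiv.Perm Ω)) (φ : G ≃* G) (Δ : Set Ω)
    (h4 : ∀ g ∈ G, ∀ a ∈ Δ, g a ∈ Δ)
    (h2 : ∀ a ∈ Δ, ∀ b ∈ Δ, (∀ g ∈ G, g a = a → g b = b) → a = b)
    (h1 : ∀ a ∈ Δ, ∃ b ∈ Δ, ∀ g : G, (g : Equiv.Perm Ω) a = a ↔ (φ g : Equiv.Perm Ω) b = b) :
    ∃ f : Ω → Ω, (∀ a ∈ Δ, f a ∈ Δ) ∧ (∀ a ∈ Δ, ∀ b ∈ Δ, f a = f b → a = b) ∧
      ∀ g : G, ∀ a ∈ Δ, f ((g : Equiv.Perm Ω) a) = (φ g : Equiv.Perm Ω) (f a) := by
  classical
  choose! f hf1 hf2 using h1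
  refine ⟨f, hf1, ?_, ?_⟩
  · intro a ha b hb hab
    apply h2 a ha b hb
    intro g hg hga
    have h5 := (hf2 a ha ⟨g, hg⟩).1 hga
    rw [hab] at h5
    exact (hf2 b hb ⟨g, hg⟩).2 h5
  · intro g a ha
    have hga := h4 g g.2 a ha
    symm
    apply h2 _ (h4 _ (φ g).2 _ (hf1 a ha)) _ (hf1 _ hga)
    intro k hk hk1
    obtain ⟨h, hh⟩ := φ.surjective ⟨k, hk⟩
    have hk' : k = (φ h : Equiv.Perm Ω) := by rw [hh]
    rw [hk'] at hk1 ⊢
    rw [← hf2 _ hga]
    have h5 : ((φ (g⁻¹ * h * g) : G) : Equiv.Perm Ω) (f a) = f a := by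
      rw [map_mul, map_mul, map_inv]
      show ((φ g : Equiv.Perm Ω))⁻¹ ((φ h : Equiv.Perm Ω) ((φ g : Equiv.Perm Ω) (f a))) = f a
      rw [hk1, Equiv.Perm.inv_eq_iff_eq]
    have h6 := (hf2 a ha (g⁻¹ * h * g)).2 h5
    have h7 : ((g : Equiv.Perm Ω))⁻¹ ((h : Equiv.Perm Ω) ((g : Equiv.Perm Ω) a)) = a := h6
    rwa [Equiv.Perm.inv_eq_iff_eq] at h7

/-- three elements of the small group -/
def o11 (i : ℕ) : ℕ := lookW 120 1329227995784915872903807060280344575
  0x7968eba22db54c399e505256c204407c56ebc0a9ada419a8c83b68c20c408cecbaa4ada38cc7a9123c2e408c40 i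

theorem o11_m : allN (fun i => band (band (checkM24 (o11 i)) (Nat.beq (imgM (o11 i) dod0) dod0)) (Nat.beq (im (o11 i) 0) 0)) 3 = true := by
  decide +kernel

theorem o11_mem {i : ℕ} (hi : i < 3) : toPerm (o11 i) ∈ chn K12 g12B 1 := by
  have h := (allN_iff _ _).1 o11_m i hi
  rw [band_iff] at h
  have hp := checkM24_perm (band_iff.1 h.1).1
  refine mem_K11.2 ⟨mem_of_mask_check h.1, ?_⟩
  rw [toPerm_pt hp (by norm_num), beq_iff.1 h.2]

theorem o11_perm {i : ℕ} (hi : i < 3) : isPerm (o11 i) = true :=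
  checkM24_perm (band_iff.1 (band_iff.1 ((allN_iff _ _).1 o11_m i hi)).1).1

/-- one rigidity step: `f` commutes with an element mapping four fixed points of `f` to fixed points -/
theorem rigid_step {ψ : chn K12 g12B 1 → chn K12 g12B 1} {f : GolayPt → GolayPt}
    (hf : ∀ g : chn K12 g12B 1, ∀ a ∈ (S dod0).erase (pt 0), f ((g : Equiv.Perm GolayPt) a) = (ψ g : Equiv.Perm GolayPt) (f a))
    (g : chn K12 g12B 1) (l : List GolayPt) (hl : l.Nodup) (h4 : l.length = 4) (hl2 : ∀ x ∈ l, x ∈ (S dod0).erase (pt 0))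
    (hl3 : ∀ x ∈ l, f x = x) (hl4 : ∀ x ∈ l, f ((g : Equiv.Perm GolayPt) x) = (g : Equiv.Perm GolayPt) x) : ψ g = g := by
  have h1 : ((ψ g)⁻¹ * g : Equiv.Perm GolayPt) = 1 := by
    have hg := mem_K11.1 g.2
    have hψ := mem_K11.1 (ψ g).2
    apply K12_eq_one (K12.mul_mem (K12.inv_mem hψ.1) hg.1) (pt 0 :: l)
    · rw [List.nodup_cons]
      exact ⟨fun h => (Finset.mem_erase.1 (hl2 _ h)).1 rfl, hl⟩
    · simp [h4]
    · intro x hx
      rcases List.mem_cons.1 hx with rfl | hx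
      · exact p0_mem
      · exact (Finset.mem_erase.1 (hl2 _ hx)).2
    · intro x hx
      rw [Equiv.Perm.mul_apply, Equiv.Perm.inv_eq_iff_eq]
      rcases List.mem_cons.1 hx with rfl | hx
      · rw [hg.2, hψ.2]
      · have := hf g x (hl2 _ hx)
        rw [hl3 x hx, hl4 x hx] at this
        exact this
  apply Subtype.ext
  exact (inv_mul_eq_one.1 h1)

theorem pt_ne {i j : ℕ} (hi : i < 24) (hj : j < 24) (h : i ≠ j) : pt i ≠ pt j := fun e => h (pt_inj hi hj e)

theorem o11_fx : band (Nat.beq (Nat.land dod0 (fixM (o11 0))) (Nat.lor 1 (Nat.lor 16 4096)))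
    (Nat.beq (Nat.land dod0 (fixM (o11 1))) (Nat.lor 1 256)) = true := by decide +kernel

theorem o11_fx0 : S dod0 ∩ fx (toPerm (o11 0)) = {pt 0, pt 4, pt 12} := by
  have e : fx (toPerm (o11 0)) = S (fixM (o11 0)) := (S_fixM (o11_perm (by norm_num))).symm
  rw [e, ← S_and]
  have h := beq_iff.1 (band_iff.1 o11_fx).1
  have h' : dod0 &&& fixM (o11 0) = 2 ^ 0 ||| (2 ^ 4 ||| 2 ^ 12) := h
  rw [h', S_or, S_or, S_two_pow (by norm_num), S_two_pow (by norm_num), S_two_pow (by norm_num)]; rfl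

theorem o11_fx1 : S dod0 ∩ fx (toPerm (o11 1)) = {pt 0, pt 8} := by
  have e : fx (toPerm (o11 1)) = S (fixM (o11 1)) := (S_fixM (o11_perm (by norm_num))).symm
  rw [e, ← S_and]
  have h := beq_iff.1 (band_iff.1 o11_fx).2
  have h' : dod0 &&& fixM (o11 1) = 2 ^ 0 ||| 2 ^ 8 := h
  rw [h', S_or, S_two_pow (by norm_num), S_two_pow (by norm_num)]; rfl

theorem im_app {i j k : ℕ} (hi : i < 3) (hj : j < 24) (h : Nat.beq (im (o11 i) j) k = true) : toPerm (o11 i) (pt j) = pt k := by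
  rw [toPerm_pt (o11_perm hi) hj, beq_iff.1 h]

theorem ptD {j : ℕ} (hj : j < 24) (h : Nat.testBit dod0 j = true) (h0 : j ≠ 0) : pt j ∈ (S dod0).erase (pt 0) := by
  rw [Finset.mem_erase, mem_S_pt hj]
  exact ⟨pt_ne hj (by norm_num) h0, h⟩

theorem dod0_list : ∀ q ∈ (S dod0).erase (pt 0), q = pt 1 ∨ q = pt 2 ∨ q = pt 3 ∨ q = pt 4 ∨ q = pt 6 ∨ q = pt 8 ∨ q = pt 9 ∨
    q = pt 12 ∨ q = pt 13 ∨ q = pt 16 ∨ q = pt 18 := by
  intro q hq
  rw [Finset.mem_erase] at hq
  have e : dod0 = 2 ^ 0 ||| (2 ^ 1 ||| (2 ^ 2 ||| (2 ^ 3 ||| (2 ^ 4 ||| (2 ^ 6 ||| (2 ^ 8 ||| (2 ^ 9 ||| (2 ^ 12 ||| (2 ^ 13 ||| (2 ^ 16 ||| 2 ^ 18)))))))))) := by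
    decide +kernel
  have h := hq.2
  rw [e, S_or, S_or, S_or, S_or, S_or, S_or, S_or, S_or, S_or, S_or, S_or, S_two_pow (by norm_num), S_two_pow (by norm_num),
    S_two_pow (by norm_num), S_two_pow (by norm_num), S_two_pow (by norm_num), S_two_pow (by norm_num), S_two_pow (by norm_num),
    S_two_pow (by norm_num), S_two_pow (by norm_num), S_two_pow (by norm_num), S_two_pow (by norm_num), S_two_pow (by norm_num)] at h
  simp only [Finset.mem_union, Finset.mem_singleton] at h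
  rcases h with h | h
  · exact absurd h hq.1
  · exact h

theorem rigid11 {ψ : chn K12 g12B 1 → chn K12 g12B 1} {f : GolayPt → GolayPt}
    (hf : ∀ g : chn K12 g12B 1, ∀ a ∈ (S dod0).erase (pt 0), f ((g : Equiv.Perm GolayPt) a) = (ψ g : Equiv.Perm GolayPt) (f a))
    (hf1 : ∀ a ∈ (S dod0).erase (pt 0), f a ∈ (S dod0).erase (pt 0))
    (hf2 : ∀ a ∈ (S dod0).erase (pt 0), ∀ b ∈ (S dod0).erase (pt 0), f a = f b → a = b)
    (f1 : f (pt 1) = pt 1) (f2 : f (pt 2) = pt 2) (f3 : f (pt 3) = pt 3) (f4 : f (pt 4) = pt 4)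
    (g : chn K12 g12B 1) : ψ g = g := by
  have d1 := ptD (j := 1) (by norm_num) (by decide +kernel) (by norm_num)
  have d2 := ptD (j := 2) (by norm_num) (by decide +kernel) (by norm_num)
  have d3 := ptD (j := 3) (by norm_num) (by decide +kernel) (by norm_num)
  have d4 := ptD (j := 4) (by norm_num) (by decide +kernel) (by norm_num)
  have nd : [pt 1, pt 2, pt 3, pt 4].Nodup := by
    simp only [List.nodup_cons, List.mem_cons, List.not_mem_nil, or_false, not_or, List.nodup_nil, not_false_iff, and_true]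
    exact ⟨⟨pt_ne (by norm_num) (by norm_num) (by norm_num), pt_ne (by norm_num) (by norm_num) (by norm_num),
      pt_ne (by norm_num) (by norm_num) (by norm_num)⟩, ⟨pt_ne (by norm_num) (by norm_num) (by norm_num),
      pt_ne (by norm_num) (by norm_num) (by norm_num)⟩, pt_ne (by norm_num) (by norm_num) (by norm_num)⟩
  have step : ∀ g : chn K12 g12B 1, (∀ x ∈ [pt 1, pt 2, pt 3, pt 4], f ((g : Equiv.Perm GolayPt) x) = (g : Equiv.Perm GolayPt) x) →
      ψ g = g := by
    intro g hg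
    refine rigid_step hf g [pt 1, pt 2, pt 3, pt 4] nd rfl ?_ ?_ hg
    · intro x hx
      simp only [List.mem_cons, List.not_mem_nil, or_false] at hx
      rcases hx with rfl | rfl | rfl | rfl
      · exact d1
      · exact d2
      · exact d3
      · exact d4
    · intro x hx
      simp only [List.mem_cons, List.not_mem_nil, or_false] at hx
      rcases hx with rfl | rfl | rfl | rfl
      · exact f1
      · exact f2
      · exact f3
      · exact f4
  -- first element
  have a1 : toPerm (o11 0) (pt 1) = pt 2 := im_app (by norm_num) (by norm_num) (by decide +kernel)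
  have a2 : toPerm (o11 0) (pt 2) = pt 3 := im_app (by norm_num) (by norm_num) (by decide +kernel)
  have a3 : toPerm (o11 0) (pt 3) = pt 1 := im_app (by norm_num) (by norm_num) (by decide +kernel)
  have a4 : toPerm (o11 0) (pt 4) = pt 4 := im_app (by norm_num) (by norm_num) (by decide +kernel)
  have a12 : toPerm (o11 0) (pt 12) = pt 12 := im_app (by norm_num) (by norm_num) (by decide +kernel)
  have p1 := step ⟨toPerm (o11 0), o11_mem (by norm_num)⟩ (by
    intro x hx
    simp only [List.mem_cons, List.not_mem_nil, or_false] at hx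
    show f (toPerm (o11 0) x) = toPerm (o11 0) x
    rcases hx with rfl | rfl | rfl | rfl
    · rw [a1, f2]
    · rw [a2, f3]
    · rw [a3, f1]
    · rw [a4, f4])
  have d12 := ptD (j := 12) (by norm_num) (by decide +kernel) (by norm_num)
  have f12' : f (pt 12) = pt 12 := by
    have h1 := hf ⟨toPerm (o11 0), o11_mem (by norm_num)⟩ (pt 12) d12
    rw [p1] at h1
    have h2 : f (pt 12) = toPerm (o11 0) (f (pt 12)) := by
      have : f (toPerm (o11 0) (pt 12)) = toPerm (o11 0) (f (pt 12)) := h1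
      rwa [a12] at this
    have h3 : f (pt 12) ∈ S dod0 ∩ fx (toPerm (o11 0)) :=
      Finset.mem_inter.2 ⟨(Finset.mem_erase.1 (hf1 _ d12)).2, mem_fx.2 h2.symm⟩
    rw [o11_fx0] at h3
    simp only [Finset.mem_insert, Finset.mem_singleton] at h3
    rcases h3 with h3 | h3 | h3
    · exact absurd h3 (Finset.mem_erase.1 (hf1 _ d12)).1
    · exact absurd (hf2 _ d12 _ d4 (h3.trans f4.symm)) (pt_ne (by norm_num) (by norm_num) (by norm_num))
    · exact h3
  -- second element
  have b1 : toPerm (o11 1) (pt 1) = pt 2 := im_app (by norm_num) (by norm_num) (by decide +kernel)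
  have b2 : toPerm (o11 1) (pt 2) = pt 3 := im_app (by norm_num) (by norm_num) (by decide +kernel)
  have b3 : toPerm (o11 1) (pt 3) = pt 4 := im_app (by norm_num) (by norm_num) (by decide +kernel)
  have b4 : toPerm (o11 1) (pt 4) = pt 12 := im_app (by norm_num) (by norm_num) (by decide +kernel)
  have b8 : toPerm (o11 1) (pt 8) = pt 8 := im_app (by norm_num) (by norm_num) (by decide +kernel)
  have p2 := step ⟨toPerm (o11 1), o11_mem (by norm_num)⟩ (by
    intro x hx
    simp only [List.mem_cons, List.not_mem_nil, or_false] at hx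
    show f (toPerm (o11 1) x) = toPerm (o11 1) x
    rcases hx with rfl | rfl | rfl | rfl
    · rw [b1, f2]
    · rw [b2, f3]
    · rw [b3, f4]
    · rw [b4, f12'])
  have d8 := ptD (j := 8) (by norm_num) (by decide +kernel) (by norm_num)
  have f8 : f (pt 8) = pt 8 := by
    have h1 := hf ⟨toPerm (o11 1), o11_mem (by norm_num)⟩ (pt 8) d8
    rw [p2] at h1
    have h2 : f (pt 8) = toPerm (o11 1) (f (pt 8)) := by
      have : f (toPerm (o11 1) (pt 8)) = toPerm (o11 1) (f (pt 8)) := h1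
      rwa [b8] at this
    have h3 : f (pt 8) ∈ S dod0 ∩ fx (toPerm (o11 1)) :=
      Finset.mem_inter.2 ⟨(Finset.mem_erase.1 (hf1 _ d8)).2, mem_fx.2 h2.symm⟩
    rw [o11_fx1] at h3
    simp only [Finset.mem_insert, Finset.mem_singleton] at h3
    rcases h3 with h3 | h3
    · exact absurd h3 (Finset.mem_erase.1 (hf1 _ d8)).1
    · exact h3
  -- third element
  have c1 : toPerm (o11 2) (pt 1) = pt 2 := im_app (by norm_num) (by norm_num) (by decide +kernel)
  have c2 : toPerm (o11 2) (pt 2) = pt 1 := im_app (by norm_num) (by norm_num) (by decide +kernel)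
  have c3 : toPerm (o11 2) (pt 3) = pt 4 := im_app (by norm_num) (by norm_num) (by decide +kernel)
  have c4 : toPerm (o11 2) (pt 4) = pt 12 := im_app (by norm_num) (by norm_num) (by decide +kernel)
  have p3 := step ⟨toPerm (o11 2), o11_mem (by norm_num)⟩ (by
    intro x hx
    simp only [List.mem_cons, List.not_mem_nil, or_false] at hx
    show f (toPerm (o11 2) x) = toPerm (o11 2) x
    rcases hx with rfl | rfl | rfl | rfl
    · rw [c1, f2]
    · rw [c2, f1]
    · rw [c3, f4]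
    · rw [c4, f12'])
  have nxt : ∀ x ∈ (S dod0).erase (pt 0), f x = x → f (toPerm (o11 2) x) = toPerm (o11 2) x := by
    intro x hx h
    have h1 := hf ⟨toPerm (o11 2), o11_mem (by norm_num)⟩ x hx
    rw [p3] at h1
    have h2 : f (toPerm (o11 2) x) = toPerm (o11 2) (f x) := h1
    rw [h2, h]
  have c8 : toPerm (o11 2) (pt 8) = pt 16 := im_app (by norm_num) (by norm_num) (by decide +kernel)
  have c16 : toPerm (o11 2) (pt 16) = pt 13 := im_app (by norm_num) (by norm_num) (by decide +kernel)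
  have c13 : toPerm (o11 2) (pt 13) = pt 6 := im_app (by norm_num) (by norm_num) (by decide +kernel)
  have c6 : toPerm (o11 2) (pt 6) = pt 9 := im_app (by norm_num) (by norm_num) (by decide +kernel)
  have c9 : toPerm (o11 2) (pt 9) = pt 18 := im_app (by norm_num) (by norm_num) (by decide +kernel)
  have f16 : f (pt 16) = pt 16 := by have := nxt _ d8 f8; rwa [c8] at this
  have f13 : f (pt 13) = pt 13 := by
    have := nxt _ (ptD (j := 16) (by norm_num) (by decide +kernel) (by norm_num)) f16; rwa [c16] at this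
  have f6 : f (pt 6) = pt 6 := by
    have := nxt _ (ptD (j := 13) (by norm_num) (by decide +kernel) (by norm_num)) f13; rwa [c13] at this
  have f9 : f (pt 9) = pt 9 := by
    have := nxt _ (ptD (j := 6) (by norm_num) (by decide +kernel) (by norm_num)) f6; rwa [c6] at this
  have f18 : f (pt 18) = pt 18 := by
    have := nxt _ (ptD (j := 9) (by norm_num) (by decide +kernel) (by norm_num)) f9; rwa [c9] at this
  have hall : ∀ q ∈ (S dod0).erase (pt 0), f q = q := by
    intro q hq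
    rcases dod0_list q hq with rfl | rfl | rfl | rfl | rfl | rfl | rfl | rfl | rfl | rfl | rfl <;> assumption
  apply step g
  intro x hx
  apply hall
  have hx' : x ∈ (S dod0).erase (pt 0) := by
    simp only [List.mem_cons, List.not_mem_nil, or_false] at hx
    rcases hx with rfl | rfl | rfl | rfl
    · exact d1
    · exact d2
    · exact d3
    · exact d4
  rw [Finset.mem_erase] at hx' ⊢
  have hg := mem_K11.1 g.2
  exact ⟨fun h => hx'.1 ((g : Equiv.Perm GolayPt).injective (h.trans hg.2.symm)), dod_inv hg.1 _ hx'.2⟩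

theorem K11_trans {q : GolayPt} (hq : q ∈ (S dod0).erase (pt 0)) : ∃ g ∈ chn K12 g12B 1, g (D 1) = q := by
  rw [Finset.mem_erase] at hq
  apply K12_step (by norm_num)
  rw [mem_g12_orb (by norm_num)]
  refine ⟨hq.2, fun j hj => ?_⟩
  have : j = 0 := by omega
  rw [this, D_pt (by norm_num)]; exact hq.1

theorem card_st_K11 {a : GolayPt} (ha : a ∈ (S dod0).erase (pt 0)) : Nat.card (st (chn K12 g12B 1) a) = 720 := by
  obtain ⟨g, hg, h⟩ := K11_trans ha
  rw [← card_st_eq ⟨g, hg, h⟩]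
  exact card_chn2

theorem K11_sep {a b : GolayPt} (ha : a ∈ (S dod0).erase (pt 0)) (hb : b ∈ (S dod0).erase (pt 0))
    (h : ∀ g ∈ chn K12 g12B 1, g a = a → g b = b) : a = b := by
  by_contra hab
  rw [Finset.mem_erase] at ha hb
  obtain ⟨c, hc, hcn⟩ : ∃ c ∈ S dod0, c ∉ ({pt 0, a, b} : Finset GolayPt) := by
    by_contra hcon
    push Not at hcon
    have h2 := Finset.card_le_card (fun q hq => hcon q hq : S dod0 ⊆ {pt 0, a, b})
    have h3 : ({pt 0, a, b} : Finset GolayPt).card ≤ 3 := Finset.card_le_three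
    rw [card_S, dod0_pc] at h2
    omega
  simp only [Finset.mem_insert, Finset.mem_singleton, not_or] at hcn
  obtain ⟨hc0, hca, hcb⟩ := hcn
  obtain ⟨g, hg, h1⟩ := K12_transOn [pt 0, a, b] [pt 0, a, c] (by simp [hab, Ne.symm ha.1, Ne.symm hb.1])
    (by simp [Ne.symm ha.1, Ne.symm hc0, Ne.symm hca]) rfl (by simp)
    (by simp [ha.2, hb.2, p0_mem]) (by simp [ha.2, hc, p0_mem])
  simp only [List.map_cons, List.map_nil, List.cons.injEq, and_true] at h1
  rw [h g (mem_K11.2 ⟨hg, h1.1⟩) h1.2.1] at h1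
  exact hcb h1.2.2.symm

theorem out_K11 : Nat.card (Out ↥(chn K12 g12B 1)) = 1 := by
  apply out_one
  intro φ
  obtain ⟨f, hf1, hf2, hf⟩ := exists_f (chn K12 g12B 1) φ {a | a ∈ (S dod0).erase (pt 0)} (by
      intro g hg a ha
      have hg := mem_K11.1 hg
      have ha := Finset.mem_erase.1 (show a ∈ (S dod0).erase (pt 0) from ha)
      exact Finset.mem_erase.2 ⟨fun h => ha.1 (g.injective (h.trans hg.2.symm)), dod_inv hg.1 _ ha.2⟩)
    (fun a ha b hb h => K11_sep ha hb h) (by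
      intro a ha
      obtain ⟨b, hb0, hb⟩ := idx11 (K := stImg (chn K12 g12B 1) φ a) stImg_le (by rw [card_stImg, card_st_K11 ha])
      exact ⟨b, hb0, fun g => st_match (by rw [card_st_K11 ha, card_st_K11 hb0]) hb g⟩)
  have d : ∀ j, j < 5 → j ≠ 0 → pt j ∈ (S dod0).erase (pt 0) := by
    intro j hj h0
    have := D_mem hj
    rw [D_pt hj] at this
    exact Finset.mem_erase.2 ⟨pt_ne (by omega) (by norm_num) h0, this⟩
  have hne : ∀ i j, i < 5 → j < 5 → i ≠ 0 → j ≠ 0 → i ≠ j → f (pt i) ≠ f (pt j) := fun i j hi hj h0 h0' hij h =>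
    pt_ne (by omega) (by omega) hij (hf2 _ (d i hi h0) _ (d j hj h0') h)
  have hm : ∀ j, j < 5 → j ≠ 0 → f (pt j) ≠ pt 0 ∧ f (pt j) ∈ S dod0 := fun j hj h0 => Finset.mem_erase.1 (hf1 _ (d j hj h0))
  obtain ⟨u, hu, h1⟩ := K12_transOn [pt 0, f (pt 1), f (pt 2), f (pt 3), f (pt 4)] [pt 0, pt 1, pt 2, pt 3, pt 4]
    (by
      simp only [List.nodup_cons, List.mem_cons, List.not_mem_nil, or_false, not_or, List.nodup_nil, not_false_iff, and_true]
      refine ⟨⟨(hm 1 ?_ ?_).1.symm, (hm 2 ?_ ?_).1.symm, (hm 3 ?_ ?_).1.symm, (hm 4 ?_ ?_).1.symm⟩,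
        ⟨hne 1 2 ?_ ?_ ?_ ?_ ?_, hne 1 3 ?_ ?_ ?_ ?_ ?_, hne 1 4 ?_ ?_ ?_ ?_ ?_⟩,
        ⟨hne 2 3 ?_ ?_ ?_ ?_ ?_, hne 2 4 ?_ ?_ ?_ ?_ ?_⟩, hne 3 4 ?_ ?_ ?_ ?_ ?_⟩ <;> norm_num)
    (by
      simp only [List.nodup_cons, List.mem_cons, List.not_mem_nil, or_false, not_or, List.nodup_nil, not_false_iff, and_true]
      refine ⟨⟨pt_ne ?_ ?_ ?_, pt_ne ?_ ?_ ?_, pt_ne ?_ ?_ ?_, pt_ne ?_ ?_ ?_⟩,
        ⟨pt_ne ?_ ?_ ?_, pt_ne ?_ ?_ ?_, pt_ne ?_ ?_ ?_⟩, ⟨pt_ne ?_ ?_ ?_, pt_ne ?_ ?_ ?_⟩, pt_ne ?_ ?_ ?_⟩ <;> norm_num)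
    rfl (by simp)
    (by
      intro x hx
      simp only [List.mem_cons, List.not_mem_nil, or_false] at hx
      rcases hx with rfl | rfl | rfl | rfl | rfl
      · exact p0_mem
      · exact (hm 1 (by norm_num) (by norm_num)).2
      · exact (hm 2 (by norm_num) (by norm_num)).2
      · exact (hm 3 (by norm_num) (by norm_num)).2
      · exact (hm 4 (by norm_num) (by norm_num)).2)
    (by
      intro x hx
      simp only [List.mem_cons, List.not_mem_nil, or_false] at hx
      rcases hx with rfl | rfl | rfl | rfl | rfl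
      · exact p0_mem
      · exact (Finset.mem_erase.1 (d 1 (by norm_num) (by norm_num))).2
      · exact (Finset.mem_erase.1 (d 2 (by norm_num) (by norm_num))).2
      · exact (Finset.mem_erase.1 (d 3 (by norm_num) (by norm_num))).2
      · exact (Finset.mem_erase.1 (d 4 (by norm_num) (by norm_num))).2)
  simp only [List.map_cons, List.map_nil, List.cons.injEq, and_true] at h1
  have huK : u ∈ chn K12 g12B 1 := mem_K11.2 ⟨hu, h1.1⟩
  have key := rigid11 (ψ := fun g => ⟨u, huK⟩ * φ g * ⟨u, huK⟩⁻¹) (f := fun a => u (f a))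
    (by
      intro g a ha
      show u (f ((g : Equiv.Perm GolayPt) a)) = (u * (φ g : Equiv.Perm GolayPt) * u⁻¹) (u (f a))
      rw [hf g a ha, Equiv.Perm.mul_apply, Equiv.Perm.mul_apply, ← Equiv.Perm.mul_apply u⁻¹, inv_mul_cancel,
        Equiv.Perm.one_apply])
    (by
      intro a ha
      have h2 := Finset.mem_erase.1 (show f a ∈ (S dod0).erase (pt 0) from hf1 a ha)
      exact Finset.mem_erase.2 ⟨fun h => h2.1 (u.injective (h.trans h1.1.symm)), dod_inv hu _ h2.2⟩)
    (fun a ha b hb h => hf2 a ha b hb (u.injective h)) h1.2.1 h1.2.2.1 h1.2.2.2.1 h1.2.2.2.2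
  refine ⟨u⁻¹, (chn K12 g12B 1).inv_mem huK, fun g => ?_⟩
  have h3 := congrArg Subtype.val (key g)
  have h4 : u * (φ g : Equiv.Perm GolayPt) * u⁻¹ = (g : Equiv.Perm GolayPt) := h3
  rw [← h4]; group

end Cfsg.Agent.H9
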