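import Cfsg.Agent.H9.Out2
set_option autoImplicit false

/-! Automorphisms of the dodecad stabilizer. -/

namespace Cfsg.Agent.H9
open Cfsg
open scoped Pointwise

/-! ### degree 12 -/

theorem K12_le : K12 ≤ M24 := inf_le_left

theorem mem_K12 {g : Equiv.Perm GolayPt} : g ∈ K12 ↔ g ∈ M24 ∧ g • S dod0 = S dod0 := Iff.rfl

theorem compl_dod' {e : Finset GolayPt} (he : e ∈ dodecads) : eᶜ ∈ dodecads := by
  obtain ⟨m, hm, h12, rfl⟩ := dodecad_mask he
  rw [← S_compl]
  apply S_mem_dodecads (isCW_xor hm one_memCW)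
  rw [← card_S, S_compl, Finset.card_compl, card_pt, card_S, h12]

/-- an element swapping the two halves -/
theorem exists_swap12 : ∃ s ∈ M24, s • S dod0 = (S dod0)ᶜ ∧ s • (S dod0)ᶜ = S dod0 := by
  obtain ⟨s, hs, h⟩ := dodecad_trans dod0_mem (compl_dod' dod0_mem)
  exact ⟨s, hs, h, by rw [smul_compl, h, compl_compl]⟩

theorem swap12_norm {s : Equiv.Perm GolayPt} (hs : s ∈ M24) (h1 : s • S dod0 = (S dod0)ᶜ) (h2 : s • (S dod0)ᶜ = S dod0) :
    ∀ g, g ∈ K12 ↔ s * g * s⁻¹ ∈ K12 := by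
  have hsi : s⁻¹ • S dod0 = (S dod0)ᶜ := by rw [inv_smul_eq_iff]; exact h2.symm
  intro g
  rw [mem_K12, mem_K12]
  constructor
  · rintro ⟨a, b⟩
    refine ⟨conj_mem a hs, ?_⟩
    rw [mul_smul, mul_smul, hsi, smul_compl, b, h2]
  · rintro ⟨a, b⟩
    refine ⟨?_, ?_⟩
    · have : g = s⁻¹ * (s * g * s⁻¹) * s := by group
      rw [this]; exact M24.mul_mem (M24.mul_mem (M24.inv_mem hs) a) hs
    · rw [mul_smul, mul_smul, hsi] at b
      have h3 : g • (S dod0)ᶜ = (S dod0)ᶜ := by
        have := congrArg (fun x => s⁻¹ • x) b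
        simp only [inv_smul_smul] at this
        rw [this, hsi]
      rw [smul_compl] at h3
      exact compl_injective h3

theorem K12_D_trans {a b : GolayPt} (ha : a ∈ S dod0) (hb : b ∈ S dod0) : ∃ g ∈ K12, g a = b := by
  obtain ⟨g, hg, h⟩ := K12_transOn [a] [b] (by simp) (by simp) rfl (by simp) (by simpa using ha) (by simpa using hb)
  simp only [List.map_cons, List.map_nil, List.cons.injEq, and_true] at h
  exact ⟨g, hg, h⟩

theorem K12_E_trans {a b : GolayPt} (ha : a ∉ S dod0) (hb : b ∉ S dod0) : ∃ g ∈ K12, g a = b := by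
  obtain ⟨g, hg, h⟩ := K11_comp_trans [a] [b] (by simp) (by simp) rfl (by simp) (by simpa using ha) (by simpa using hb)
  simp only [List.map_cons, List.map_nil, List.cons.injEq, and_true] at h
  exact ⟨g, (mem_chn.1 hg).1, h⟩

theorem card_st_K12 (a : GolayPt) : Nat.card (st K12 a) = 7920 := by
  have hD : ∀ a ∈ S dod0, Nat.card (st K12 a) = 7920 := by
    intro a ha
    have h0 : D 0 ∈ S dod0 := D_mem (by norm_num)
    rw [card_st_eq (K12_D_trans ha h0)]
    exact card_chn1
  by_cases ha : a ∈ S dod0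
  · exact hD a ha
  · have h1 := card_orbF K12 a
    have h2 : orbF K12 a = (S dod0)ᶜ := by
      ext q
      rw [mem_orbF, Finset.mem_compl]
      constructor
      · rintro ⟨k, hk, rfl⟩; rwa [K12_inv hk]
      · intro hq; exact K12_E_trans ha hq
    rw [h2, Finset.card_compl, card_pt, card_S, dod0_pc, card_K12] at h1
    omega

theorem sepD {s : Equiv.Perm GolayPt} {a b : GolayPt} (ha : a ∈ S dod0) (h : ∀ g ∈ K12, g a = a → g b = b) : a = b := by
  by_cases hb : b ∈ S dod0
  · by_contra hab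
    obtain ⟨c, hc, hca, hcb⟩ : ∃ c ∈ S dod0, c ≠ a ∧ c ≠ b := by
      by_contra hcon
      push Not at hcon
      have : S dod0 ⊆ {a, b} := by
        intro c hc
        by_cases h1 : c = a
        · simp [h1]
        · simp [hcon c hc h1]
      have h2 := Finset.card_le_card this
      have h3 : ({a, b} : Finset GolayPt).card ≤ 2 := Finset.card_le_two
      rw [card_S, dod0_pc] at h2
      omega
    obtain ⟨g, hg, h1⟩ := K12_transOn [a, b] [a, c] (by simp [hab]) (by simp [Ne.symm hca]) rfl (by simp)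
      (by simp [ha, hb]) (by simp [ha, hc])
    simp only [List.map_cons, List.map_nil, List.cons.injEq, and_true] at h1
    rw [h g hg h1.1] at h1
    exact hcb h1.2.symm
  · exfalso
    obtain ⟨u, hu, hua⟩ := K12_D_trans ha (D_mem (i := 0) (by norm_num))
    have hub : u b ∉ S dod0 := by rwa [K12_inv hu]
    obtain ⟨c, hc, hcb⟩ : ∃ c, c ∉ S dod0 ∧ c ≠ u b := by
      by_contra hcon
      push Not at hcon
      have : (S dod0)ᶜ ⊆ {u b} := by
        intro c hc
        rw [Finset.mem_compl] at hc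
        rw [Finset.mem_singleton]
        exact hcon c hc
      have h2 := Finset.card_le_card this
      rw [Finset.card_compl, card_pt, card_S, dod0_pc, Finset.card_singleton] at h2
      omega
    obtain ⟨g, hg, h1⟩ := K11_comp_trans [u b] [c] (by simp) (by simp) rfl (by simp) (by simpa using hub) (by simpa using hc)
    simp only [List.map_cons, List.map_nil, List.cons.injEq, and_true] at h1
    have hg0 := (mem_chn.1 hg).2 0 (by norm_num)
    have hg0' : g (D 0) = D 0 := hg0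
    have h2 := h (u⁻¹ * g * u) (K12.mul_mem (K12.mul_mem (K12.inv_mem hu) (mem_chn.1 hg).1) hu)
      (back_pt hua hg0')
    rw [Equiv.Perm.mul_apply, Equiv.Perm.mul_apply, Equiv.Perm.inv_eq_iff_eq, h1] at h2
    exact hcb h2

theorem K12_sep {a b : GolayPt} (h : ∀ g ∈ K12, g a = a → g b = b) : a = b := by
  by_cases ha : a ∈ S dod0
  · exact sepD (s := 1) ha h
  · obtain ⟨s, hs, h1, h2⟩ := exists_swap12
    have hn := swap12_norm hs h1 h2
    have hsa : s a ∈ S dod0 := by
      rw [← h2, mem_smul_iff', Finset.mem_compl]; exact ha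
    apply s.injective
    apply sepD (s := 1) hsa
    intro g hg hga
    have hg' : s⁻¹ * g * s ∈ K12 := by
      rw [hn]
      have : s * (s⁻¹ * g * s) * s⁻¹ = g := by group
      rw [this]; exact hg
    have h3 := h _ hg' (by
      rw [Equiv.Perm.mul_apply, Equiv.Perm.mul_apply, hga, Equiv.Perm.inv_eq_iff_eq])
    rwa [Equiv.Perm.mul_apply, Equiv.Perm.mul_apply, Equiv.Perm.inv_eq_iff_eq] at h3

/-- octads meeting the dodecad in four points -/
noncomputable def f12 (k : ℕ) : Bool := band (octF k) (Nat.beq (pc (Nat.land (enc k) dod0)) 4)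
/-- pair table -/
def tD : ℕ := 0x801001404004201001000100082002041001021001000010000008000004000002000001

/-- an involution of the dodecad stabilizer -/
def i12 : ℕ := 0xbdaaf8b261a1db252d09718a018a04
/-- an element of order 8 of the smallest group -/
def e8 : ℕ := 0xac5cb38ded994885582ca1ae914240

theorem i12_m : band (checkM24 i12) (Nat.beq (imgM i12 dod0) dod0) = true := by decide +kernel
theorem i12_2 : powOK i12 2 = true := by decide +kernel
theorem i12_1 : powOK i12 1 = false := by decide +kernel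
theorem i12_fx : band (isCW (fixM i12)) (band (Nat.beq (pc (fixM i12)) 8) (Nat.beq (pc (Nat.land (fixM i12) dod0)) 4)) = true := by
  decide +kernel
theorem e8_m : band (checkM24 e8) (Nat.beq (imgM e8 dod0) dod0) = true := by decide +kernel
theorem e8_0 : Nat.beq (im e8 (lookW 5 31 g12B 0)) (lookW 5 31 g12B 0) = true := by decide +kernel
theorem e8_8 : powOK e8 8 = true := by decide +kernel
theorem e8_4 : powOK e8 4 = false := by decide +kernel

theorem dod_octads_invol {o : Finset GolayPt} (ho : o ∈ octads) (h4 : (S dod0 ∩ o).card = 4) :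
    ∃ g ∈ K12, g ^ 2 = 1 ∧ g ≠ 1 ∧ fx g = o := by
  have hi := i12_m
  rw [band_iff] at hi
  have hp := checkM24_perm hi.1
  have hf := i12_fx
  rw [band_iff, band_iff, beq_iff, beq_iff] at hf
  have hfo : fx (toPerm i12) = S (fixM i12) := (S_fixM hp).symm
  have hoct : fx (toPerm i12) ∈ octads := by rw [hfo]; exact S_mem_octads hf.1 hf.2.1
  obtain ⟨u, hu, h1, h2⟩ := dod_words_trans dod0_mem hoct.1 ho.1 (by rw [octad_card hoct, octad_card ho]) (by
    rw [h4, hfo, Finset.inter_comm, pc_and]; exact hf.2.2)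
  have hu' : u ∈ K12 := ⟨hu, h1⟩
  have hg : toPerm i12 ∈ K12 := mem_of_mask_check i12_m
  have h22 : toPerm i12 ^ 2 = 1 := (powOK_iff hp).1 i12_2
  refine ⟨u * toPerm i12 * u⁻¹, K12.mul_mem (K12.mul_mem hu' hg) (K12.inv_mem hu'), ?_, ?_, ?_⟩
  · rw [conj_pow', h22]; group
  · intro h
    have h3 : toPerm i12 = 1 := by
      have : toPerm i12 = u⁻¹ * (u * toPerm i12 * u⁻¹) * u := by group
      rw [this, h]; group
    have h4 : powOK i12 1 = true := by rw [powOK_iff hp, h3, one_pow]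
    rw [i12_1] at h4
    exact absurd h4 (by simp)
  · rw [fx_conj, h2]

/-- the image of a point stabilizer fixes a point -/
theorem img12 (φ : K12 ≃* K12) {a : GolayPt} (ha : a ∈ S dod0) : ∃ b, ∀ g ∈ stImg K12 φ a, g b = b := by
  obtain ⟨u, hu, hua⟩ := K12_D_trans ha (D_mem (i := 0) (by norm_num))
  have he := e8_m
  rw [band_iff] at he
  have hp := checkM24_perm he.1
  have hK : toPerm e8 ∈ K12 := mem_of_mask_check e8_m
  have h0 : toPerm e8 (D 0) = D 0 := by
    show toPerm e8 (pt (lookW 5 31 g12B 0)) = pt (lookW 5 31 g12B 0)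
    rw [toPerm_pt hp (g12_base' (by norm_num)), beq_iff.1 e8_0]
  have h8 : toPerm e8 ^ 8 = 1 := (powOK_iff hp).1 e8_8
  have h4 : toPerm e8 ^ 4 ≠ 1 := by
    intro h
    have := (powOK_iff hp).2 h
    rw [e8_4] at this
    exact absurd this (by simp)
  set x : K12 := ⟨u⁻¹ * toPerm e8 * u, K12.mul_mem (K12.mul_mem (K12.inv_mem hu) hK) hu⟩ with hx
  have hxp : ∀ n, x ^ n = ⟨u⁻¹ * toPerm e8 ^ n * u, K12.mul_mem (K12.mul_mem (K12.inv_mem hu) (K12.pow_mem hK n)) hu⟩ := by
    intro n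
    apply Subtype.ext
    have := conj_pow (i := n) (a := u⁻¹) (b := toPerm e8)
    rwa [inv_inv] at this
  have hxa : (x : Equiv.Perm GolayPt) a = a := back_pt hua h0
  refine idx12 stImg_le (by rw [card_stImg, card_st_K12]) (h := (φ x : Equiv.Perm GolayPt)) ((mem_stImg x).2 hxa) ?_ ?_
  · have : φ x ^ 8 = 1 := by
      rw [← map_pow, hxp]
      have e : (⟨u⁻¹ * toPerm e8 ^ 8 * u, K12.mul_mem (K12.mul_mem (K12.inv_mem hu) (K12.pow_mem hK 8)) hu⟩ : K12) = 1 := by
        apply Subtype.ext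
        show u⁻¹ * toPerm e8 ^ 8 * u = 1
        rw [h8]; group
      rw [e, map_one]
    exact congrArg Subtype.val this
  · intro h
    have h5 : φ x ^ 4 = 1 := Subtype.ext h
    rw [← map_pow, map_eq_one_iff _ φ.injective, hxp] at h5
    apply h4
    have h6 : u⁻¹ * toPerm e8 ^ 4 * u = 1 := congrArg Subtype.val h5
    have : toPerm e8 ^ 4 = u * (u⁻¹ * toPerm e8 ^ 4 * u) * u⁻¹ := by group
    rw [this, h6]; group

theorem img12' (φ : K12 ≃* K12) {a : GolayPt} (ha : a ∈ S dod0) :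
    ∃ b, ∀ g : K12, (g : Equiv.Perm GolayPt) a = a ↔ (φ g : Equiv.Perm GolayPt) b = b := by
  obtain ⟨b, hb⟩ := img12 φ ha
  exact ⟨b, st_match (by rw [card_st_K12, card_st_K12]) hb⟩

theorem img12_all (φ : K12 ≃* K12) (a : GolayPt) :
    ∃ b, ∀ g : K12, (g : Equiv.Perm GolayPt) a = a ↔ (φ g : Equiv.Perm GolayPt) b = b := by
  by_cases ha : a ∈ S dod0
  · exact img12' φ ha
  · obtain ⟨s, hs, h1, h2⟩ := exists_swap12
    have hn := swap12_norm hs h1 h2
    have hsa : s a ∈ S dod0 := by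
      rw [← h2, mem_smul_iff', Finset.mem_compl]; exact ha
    obtain ⟨b, hb⟩ := img12' ((cj K12 s hn).symm.trans φ) hsa
    refine ⟨b, fun g => ?_⟩
    have h3 := hb (cj K12 s hn g)
    have h4 : ((cj K12 s hn).symm.trans φ) (cj K12 s hn g) = φ g := by
      show φ ((cj K12 s hn).symm (cj K12 s hn g)) = φ g
      rw [MulEquiv.symm_apply_apply]
    rw [h4, cj_apply] at h3
    rw [← h3, Equiv.Perm.mul_apply, Equiv.Perm.mul_apply]
    have h5 : s⁻¹ (s a) = a := by rw [← Equiv.Perm.mul_apply, inv_mul_cancel, Equiv.Perm.one_apply]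
    rw [h5]
    exact s.injective.eq_iff.symm

theorem aut12 (φ : K12 ≃* K12) : ∃ π ∈ M24, ∀ g : K12, (φ g : Equiv.Perm GolayPt) = π * g * π⁻¹ := by
  obtain ⟨π, -, -, hπ⟩ := exists_pi K12 φ Set.univ (fun _ _ _ _ => Set.mem_univ _) (fun _ _ a ha => absurd (Set.mem_univ a) ha)
    (fun a _ b _ h => K12_sep h) (fun a _ => by
      obtain ⟨b, hb⟩ := img12_all φ a
      exact ⟨b, Set.mem_univ _, hb⟩)
  refine ⟨π, ?_, hπ⟩
  refine mem_M24_of_octads (f := f12) (T := tD) (by decide +kernel) ?_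
  intro k hk hf
  rw [f12, band_iff, beq_iff] at hf
  have h40 : (S dod0 ∩ S (enc k)).card = 4 := by rw [Finset.inter_comm, pc_and]; exact hf.2
  have ho := (mem_octads_node _).2 ⟨k, hk, hf.1, rfl⟩
  obtain ⟨g, hg, h2, h1, h3⟩ := dod_octads_invol ho h40
  rw [← h3]
  apply pi_octad K12_le hπ hg h2 h1
  rw [h3, ← Finset.card_pos, octad_card ho]; norm_num

theorem aut12_halves {φ : K12 ≃* K12} {π : Equiv.Perm GolayPt} (hπ : ∀ g : K12, (φ g : Equiv.Perm GolayPt) = π * g * π⁻¹) :
    π • S dod0 = S dod0 ∨ π • S dod0 = (S dod0)ᶜ := by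
  have hD0 : D 0 ∈ S dod0 := D_mem (by norm_num)
  have key : ∀ q ∈ S dod0, ∃ k ∈ K12, π q = k (π (D 0)) := by
    intro q hq
    obtain ⟨g, hg, rfl⟩ := K12_D_trans hD0 hq
    refine ⟨φ ⟨g, hg⟩, (φ ⟨g, hg⟩).2, ?_⟩
    rw [hπ, Equiv.Perm.mul_apply, Equiv.Perm.mul_apply, ← Equiv.Perm.mul_apply π⁻¹, inv_mul_cancel, Equiv.Perm.one_apply]
  by_cases h : π (D 0) ∈ S dod0
  · left
    apply Finset.eq_of_subset_of_card_le
    · intro q hq
      rw [Finset.mem_smul_finset] at hq
      obtain ⟨r, hr, rfl⟩ := hq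
      obtain ⟨k, hk, h1⟩ := key r hr
      show π r ∈ _
      rw [h1, K12_inv hk]; exact h
    · rw [Finset.card_smul_finset]
  · right
    apply Finset.eq_of_subset_of_card_le
    · intro q hq
      rw [Finset.mem_smul_finset] at hq
      obtain ⟨r, hr, rfl⟩ := hq
      obtain ⟨k, hk, h1⟩ := key r hr
      show π r ∈ _
      rw [h1, Finset.mem_compl, K12_inv hk]; exact h
    · rw [Finset.card_smul_finset, Finset.card_compl, card_pt, card_S, dod0_pc]

theorem K12_noninner {s : Equiv.Perm GolayPt} (h1 : s • S dod0 = (S dod0)ᶜ) :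
    ¬ ∃ h ∈ K12, ∀ g ∈ K12, s * g * s⁻¹ = h * g * h⁻¹ := by
  rintro ⟨h, hh, hc⟩
  have hD0 : D 0 ∈ S dod0 := D_mem (by norm_num)
  have hcomm : ∀ g ∈ K12, g (h⁻¹ (s (D 0))) = h⁻¹ (s (g (D 0))) := by
    intro g hg
    have h2 := hc g hg
    have h3 : g * (h⁻¹ * s) = h⁻¹ * s * g := by
      have : h⁻¹ * (s * g * s⁻¹) * s = h⁻¹ * (h * g * h⁻¹) * s := by rw [h2]
      calc g * (h⁻¹ * s) = h⁻¹ * (h * g * h⁻¹) * s := by group
        _ = h⁻¹ * (s * g * s⁻¹) * s := this.symm
        _ = h⁻¹ * s * g := by group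
    have := congrArg (fun f : Equiv.Perm GolayPt => f (D 0)) h3
    exact this
  have hx : h⁻¹ (s (D 0)) ∉ S dod0 := by
    rw [K12_inv (K12.inv_mem hh), ← Finset.mem_compl, ← h1, mem_smul_iff']
    exact hD0
  obtain ⟨c, hc', hcb⟩ : ∃ c, c ∉ S dod0 ∧ c ≠ h⁻¹ (s (D 0)) := by
    by_contra hcon
    push Not at hcon
    have : (S dod0)ᶜ ⊆ {h⁻¹ (s (D 0))} := by
      intro c hc
      rw [Finset.mem_compl] at hc
      rw [Finset.mem_singleton]
      exact hcon c hc
    have h2 := Finset.card_le_card this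
    rw [Finset.card_compl, card_pt, card_S, dod0_pc, Finset.card_singleton] at h2
    omega
  obtain ⟨g, hg, h4⟩ := K11_comp_trans [h⁻¹ (s (D 0))] [c] (by simp) (by simp) rfl (by simp) (by simpa using hx)
    (by simpa using hc')
  simp only [List.map_cons, List.map_nil, List.cons.injEq, and_true] at h4
  have hg0 : g (D 0) = D 0 := (mem_chn.1 hg).2 0 (by norm_num)
  have h5 := hcomm g (mem_chn.1 hg).1
  rw [h4, hg0] at h5
  exact hcb h5

theorem out_K12 : Nat.card (Out ↥K12) = 2 := by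
  obtain ⟨s, hs, h1, h2⟩ := exists_swap12
  apply out_two' (swap12_norm hs h1 h2) (K12_noninner h1)
  intro φ
  obtain ⟨π, hπM, hπ⟩ := aut12 φ
  refine ⟨π, ?_, hπ⟩
  rcases aut12_halves hπ with h | h
  · left; exact ⟨hπM, h⟩
  · right
    refine ⟨M24.mul_mem hπM hs, ?_⟩
    show (π * s) • S dod0 = S dod0
    rw [mul_smul, h1, smul_compl, h, compl_compl]

end Cfsg.Agent.H9
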