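import Cfsg.Agent.H9.Out
import Cfsg.Agent.H9.DodComp
set_option autoImplicit false

/-! Automorphisms of the smaller Mathieu groups. -/

namespace Cfsg.Agent.H9
open Cfsg
open scoped Pointwise

theorem Hc_le (n : ℕ) : Hc n ≤ M24 := fun _ hg => (mem_Hc.1 hg).1

theorem orbF_eq {K : Subgroup (Equiv.Perm GolayPt)} {a b : GolayPt} (h : ∃ g ∈ K, g a = b) : orbF K a = orbF K b := by
  obtain ⟨g, hg, rfl⟩ := h
  ext q
  rw [mem_orbF, mem_orbF]
  constructor
  · rintro ⟨k, hk, rfl⟩
    exact ⟨k * g⁻¹, K.mul_mem hk (K.inv_mem hg), by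
      rw [Equiv.Perm.mul_apply, ← Equiv.Perm.mul_apply g⁻¹, inv_mul_cancel, Equiv.Perm.one_apply]⟩
  · rintro ⟨k, hk, rfl⟩
    exact ⟨k * g, K.mul_mem hk hg, rfl⟩

theorem card_st_eq {K : Subgroup (Equiv.Perm GolayPt)} {a b : GolayPt} (h : ∃ g ∈ K, g a = b) :
    Nat.card (st K a) = Nat.card (st K b) := by
  have h1 := card_orbF K a
  have h2 := card_orbF K b
  rw [← orbF_eq h] at h2
  exact Nat.eq_of_mul_eq_mul_left (orbF_pos K a) (h1.symm.trans h2)

theorem card_st_Hc {n : ℕ} (hn : n < 5) {a : GolayPt} (ha : ∀ j < n, a ≠ B j) :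
    Nat.card (st (Hc n) a) = Nat.card (Hc (n+1)) := by
  obtain ⟨g, hg, h⟩ := trans_step (by omega) (mem_orb_small hn ha)
  rw [← card_st_eq ⟨g, hg, h⟩]; rfl

/-- transitivity of the pointwise stabilizers of base points -/
theorem Hc_trans {n : ℕ} {l l' : List GolayPt} (hl : ((List.range n).map B ++ l).Nodup)
    (hl' : ((List.range n).map B ++ l').Nodup) (hlen : l.length = l'.length) (h5 : n + l.length ≤ 5) :
    ∃ g ∈ Hc n, l.map g = l' := by
  obtain ⟨g, hg, h⟩ := m24_transOn _ _ hl hl' (by simp [hlen]) (by simpa using h5) (by simp) (by simp)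
  rw [List.map_append] at h
  have h1 := List.append_inj h (by simp)
  refine ⟨g, mem_Hc.2 ⟨hg, fun j hj => ?_⟩, h1.2⟩
  have h2 := congrArg (fun l => l[j]?) h1.1
  simpa [hj] using h2

theorem Hc_sep {n : ℕ} (hn : n ≤ 2) {a b : GolayPt} (ha : ∀ j < n, a ≠ B j) (hb : ∀ j < n, b ≠ B j)
    (h : ∀ g ∈ Hc n, g a = a → g b = b) : a = b := by
  by_contra hab
  set F : Finset GolayPt := insert a (insert b ((Finset.range n).image B)) with hF
  have hFc : F.card ≤ 4 := by
    have h1 : ((Finset.range n).image B).card ≤ n := by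
      calc _ ≤ (Finset.range n).card := Finset.card_image_le
        _ = n := Finset.card_range n
    have h2 := Finset.card_insert_le b ((Finset.range n).image B)
    have h3 := Finset.card_insert_le a (insert b ((Finset.range n).image B))
    rw [← hF] at h3
    omega
  obtain ⟨c, hc⟩ : ∃ c, c ∉ F := by
    by_contra hcon
    push Not at hcon
    have := Finset.card_le_card (fun q _ => hcon q : (Finset.univ : Finset GolayPt) ⊆ F)
    rw [Finset.card_univ, card_pt] at this
    omega
  rw [hF, Finset.mem_insert, Finset.mem_insert, not_or, not_or, Finset.mem_image] at hc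
  push Not at hc
  obtain ⟨hca, hcb, hcB⟩ := hc
  have hB := Bl_nodup n (by omega)
  have nd : ∀ x, x ≠ a → (∀ j < n, x ≠ B j) → ((List.range n).map B ++ [a, x]).Nodup := by
    intro x hx hxB
    rw [List.nodup_append]
    refine ⟨hB, by simp [Ne.symm hx], ?_⟩
    intro y hy z hz
    rw [List.mem_map] at hy
    obtain ⟨j, hj, rfl⟩ := hy
    rw [List.mem_range] at hj
    simp only [List.mem_cons, List.not_mem_nil, or_false] at hz
    rcases hz with rfl | rfl
    · exact (ha j hj).symm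
    · exact (hxB j hj).symm
  obtain ⟨g, hg, h1⟩ := Hc_trans (l := [a, b]) (l' := [a, c]) (nd b (Ne.symm hab) hb)
    (nd c hca (fun j hj h => hcB j (Finset.mem_range.2 hj) h.symm)) rfl (by simp; omega)
  simp only [List.map_cons, List.map_nil, List.cons.injEq, and_true] at h1
  rw [h g hg h1.1] at h1
  exact hcb h1.2.symm

/-! ### degree 23 -/

/-- octads through the first base point -/
noncomputable def f23 (k : ℕ) : Bool := band (octF k) (Nat.beq (bt (enc k) 23) 1)
/-- pair table -/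
def tPt : ℕ := 0x800000400201001103003081001000040000020000010009001000004003001000001

theorem out_Hc1 : Nat.card (Out ↥(Hc 1)) = 1 := by
  apply out_one
  intro φ
  obtain ⟨π, hπ1, hπ2, hπ⟩ := exists_pi (Hc 1) φ {a | a ≠ B 0} (fun g hg a ha h => by
      have h0 := (mem_Hc.1 hg).2 0 (by norm_num)
      exact ha (g.injective (h.trans h0.symm)))
    (fun g hg a ha => by
      have : a = B 0 := by_contra fun h => ha h
      rw [this]; exact (mem_Hc.1 hg).2 0 (by norm_num))
    (fun a ha b hb h => Hc_sep (n := 1) (by norm_num) (fun j hj => by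
        have : j = 0 := by omega
        rw [this]; exact ha) (fun j hj => by
        have : j = 0 := by omega
        rw [this]; exact hb) h) (by
      intro a ha
      have e : ∀ c : GolayPt, c ≠ B 0 → Nat.card (st (Hc 1) c) = 443520 := by
        intro c hc
        rw [card_st_Hc (by norm_num) (fun j hj => by
          have : j = 0 := by omega
          rw [this]; exact hc)]
        exact card_Hc2
      obtain ⟨b, hb0, hb⟩ := idx23 (K := stImg (Hc 1) φ a) stImg_le (by rw [card_stImg, e a ha])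
      exact ⟨b, hb0, fun g => st_match (by rw [e a ha, e b hb0]) hb g⟩)
  have hπ0 : π (B 0) = B 0 := hπ2 _ (fun h => h rfl)
  have hM : π ∈ M24 := by
    refine mem_M24_of_octads (f := f23) (T := tPt) (by decide +kernel) ?_
    intro k hk hf
    rw [f23, band_iff] at hf
    obtain ⟨g, hg, h2, h1, h3⟩ := octads_invol ((mem_octads_node _).2 ⟨k, hk, hf.1, rfl⟩)
    have hB0 : B 0 ∈ S (enc k) := by
      rw [B0_pt]; exact (mem_test (by norm_num) k).1 hf.2
    have hg1 : g ∈ Hc 1 := by
      refine mem_Hc.2 ⟨hg, fun j hj => ?_⟩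
      have : j = 0 := by omega
      rw [this]; rw [← h3] at hB0; exact mem_fx.1 hB0
    rw [← h3]
    exact pi_octad (Hc_le 1) hπ hg1 h2 h1 ⟨B 0, by rw [h3]; exact hB0⟩
  exact ⟨π, mem_Hc.2 ⟨hM, fun j hj => by
    have : j = 0 := by omega
    rw [this]; exact hπ0⟩, hπ⟩

/-! ### two-element outer groups -/

/-- conjugation by a normalizing element -/
noncomputable def cj (G : Subgroup (Equiv.Perm GolayPt)) (s : Equiv.Perm GolayPt) (h : ∀ g, g ∈ G ↔ s * g * s⁻¹ ∈ G) :
    MulAut G := conjEquiv G G s h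

theorem cj_apply {G : Subgroup (Equiv.Perm GolayPt)} {s : Equiv.Perm GolayPt} (h : ∀ g, g ∈ G ↔ s * g * s⁻¹ ∈ G) (g : G) :
    (cj G s h g : Equiv.Perm GolayPt) = s * g * s⁻¹ := rfl

theorem out_two' {G : Subgroup (Equiv.Perm GolayPt)} {s : Equiv.Perm GolayPt} (hs : ∀ g, g ∈ G ↔ s * g * s⁻¹ ∈ G)
    (hn : ¬ ∃ h ∈ G, ∀ g ∈ G, s * g * s⁻¹ = h * g * h⁻¹)
    (h : ∀ φ : MulAut G, ∃ r, (r ∈ G ∨ r * s ∈ G) ∧ ∀ g : G, (φ g : Equiv.Perm GolayPt) = r * g * r⁻¹) :
    Nat.card (Out G) = 2 := by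
  apply out_two (cj G s hs)
  · rintro ⟨⟨k, hk⟩, hk2⟩
    apply hn
    refine ⟨k, hk, fun g hg => ?_⟩
    have := congrArg (fun ψ : MulAut G => ((ψ ⟨g, hg⟩ : G) : Equiv.Perm GolayPt)) hk2
    exact this.symm
  · intro φ
    obtain ⟨r, hr, h1⟩ := h φ
    rcases hr with hr | hr
    · left
      refine ⟨⟨r, hr⟩, ?_⟩
      ext1 g
      apply Subtype.ext
      rw [h1 g]; rfl
    · right
      refine ⟨⟨r * s, hr⟩, ?_⟩
      ext1 g
      apply Subtype.ext
      show r * s * g * (r * s)⁻¹ = ((φ (cj G s hs g) : G) : Equiv.Perm GolayPt)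
      rw [h1, cj_apply]; group

end Cfsg.Agent.H9
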