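import Cfsg.Agent.H9.Out2
set_option autoImplicit false

/-! Automorphisms of the two-point stabilizer. -/

namespace Cfsg.Agent.H9
open Cfsg
open scoped Pointwise

theorem even_inter {m n : ℕ} (hm : isCW m = true) (hn : isCW n = true) : pc (m &&& n) % 2 = 0 := by
  have h1 := pc_xor m n
  have h2 := cw_weight hm
  have h3 := cw_weight hn
  have h4 := cw_weight (isCW_xor hm hn)
  have e : ∀ m : ℕ, (m = 0 ∨ pc m = 8 ∨ pc m = 12 ∨ pc m = 16 ∨ pc m = 24) → pc m % 4 = 0 := by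
    intro m h
    rcases h with rfl | h | h | h | h
    · rw [pc_zero]
    · rw [h]
    · rw [h]
    · rw [h]
    · rw [h]
  have h5 := e _ h2
  have h6 := e _ h3
  have h7 := e _ h4
  omega

theorem par_xor (a b c : ℕ) : pc ((a ^^^ b) &&& c) % 2 = (pc (a &&& c) + pc (b &&& c)) % 2 := by
  have h := pc_xor (a &&& c) (b &&& c)
  rw [← Nat.and_xor_distrib_right] at h
  omega

theorem par_xor' (a b c : ℕ) : pc (a &&& (b ^^^ c)) % 2 = (pc (a &&& b) + pc (a &&& c)) % 2 := by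
  rw [Nat.and_comm, par_xor, Nat.and_comm b, Nat.and_comm c]

theorem dual_ok : allR (fun t => kif (allN (fun i => Nat.beq (Nat.land (pc (Nat.land (Nat.shiftLeft t 12) (enc (Nat.pow 2 i)))) 1) 0) 12)
    (Nat.beq t 0) true) 12 0 = true := by decide +kernel

/-- the code is self-dual -/
theorem dual_mem {m : ℕ} (hm : m < 2 ^ 24) (h : ∀ i < 12, pc (m &&& enc (2 ^ i)) % 2 = 0) : isCW m = true := by
  set k := m % 4096 with hk
  have hk1 : k < 4096 := Nat.mod_lt _ (by norm_num)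
  have hlow : (m ^^^ enc k) % 4096 = 0 := by
    have e : (m ^^^ enc k) % 2 ^ 12 = (m % 2 ^ 12) ^^^ (enc k % 2 ^ 12) := Nat.xor_mod_two_pow
    have e2 : enc k % 2 ^ 12 = k := enc_mod hk1
    rw [e2] at e
    have e3 : m % 2 ^ 12 = k := hk.symm
    rw [e3, Nat.xor_self] at e
    exact e
  have hlt : m ^^^ enc k < 2 ^ 24 := Nat.xor_lt_two_pow hm (enc_lt k)
  set t := (m ^^^ enc k) / 4096 with ht
  have ht1 : t < 4096 := Nat.div_lt_of_lt_mul (by rw [show 4096 * 4096 = 2 ^ 24 by norm_num]; exact hlt)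
  have ht2 : m ^^^ enc k = Nat.shiftLeft t 12 := by
    show _ = t <<< 12
    rw [Nat.shiftLeft_eq]
    omega
  have h1 := allR_spec dual_ok t (by norm_num) (by norm_num; exact ht1)
  have h2 : t = 0 := by
    rw [← beq_iff]
    apply kif_imp h1
    rw [allN_iff]
    intro i hi
    rw [beq_iff]
    show Nat.land (pc ((Nat.shiftLeft t 12) &&& (enc (2 ^ i)))) 1 = 0
    rw [← ht2]
    have h3 := par_xor m (enc k) (enc (2 ^ i))
    have h4 := h i hi
    have h5 := even_inter (isCW_iff.2 ⟨k, hk1, rfl⟩) (isCW_iff.2 ⟨2 ^ i, by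
      calc 2 ^ i ≤ 2 ^ 11 := Nat.pow_le_pow_right (by norm_num) (by omega)
        _ < 4096 := by norm_num, rfl⟩)
    have h6 : Nat.land (pc ((m ^^^ enc k) &&& enc (2 ^ i))) 1 = pc ((m ^^^ enc k) &&& enc (2 ^ i)) % 2 :=
      Nat.and_two_pow_sub_one_eq_mod _ 1
    rw [h6]
    omega
  have h3 : m ^^^ enc k = 0 := by rw [ht2, h2]; rfl
  have h4 : m = enc k := by
    have := congrArg (fun x => x ^^^ enc k) h3
    simpa [Nat.xor_assoc] using this
  exact isCW_iff.2 ⟨k, hk1, h4⟩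

theorem swap_smul_same {a b : GolayPt} {s : Finset GolayPt} (h : a ∈ s ↔ b ∈ s) : Equiv.swap a b • s = s := by
  ext q
  have e : q ∈ Equiv.swap a b • s ↔ Equiv.swap a b q ∈ s := by
    rw [← mem_smul_iff' (Equiv.swap a b) (Equiv.swap a b q), Equiv.swap_apply_self]
  rw [e, Equiv.swap_apply_def]
  split_ifs with h1 h2
  · rw [h1]; exact h.symm
  · rw [h2]; exact h
  · rfl

theorem swap_smul_diff {a b : GolayPt} {s : Finset GolayPt} (hab : a ≠ b) (h : a ∈ s ↔ b ∉ s) :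
    Equiv.swap a b • s = symmDiff s {a, b} := by
  ext q
  have e : q ∈ Equiv.swap a b • s ↔ Equiv.swap a b q ∈ s := by
    rw [← mem_smul_iff' (Equiv.swap a b) (Equiv.swap a b q), Equiv.swap_apply_self]
  rw [e, Equiv.swap_apply_def, Finset.mem_symmDiff, Finset.mem_insert, Finset.mem_singleton]
  split_ifs with h1 h2
  · subst h1
    have : q ≠ b := hab
    by_cases h3 : b ∈ s <;> simp [h3, h]
  · subst h2
    by_cases h3 : q ∈ s <;> simp [h3, h]
  · simp [h1, h2]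

/-- octads through the first two base points -/
noncomputable def f22 (k : ℕ) : Bool := band (octF k) (band (Nat.beq (bt (enc k) 23) 1) (Nat.beq (bt (enc k) 0) 1))
/-- pair table -/
def t22 : ℕ := 0x80500140500120100110300308100104d009025001015001009001000000003001000001
/-- targets -/
def u22T : ℕ := 0x804404200100080044024014008000002001
/-- targets -/
def u22 (i : ℕ) : ℕ := lookW 12 4095 u22T i

theorem t22_ok : pairT f22 t22 u22 12 = true := by decide +kernel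
theorem u22_ok : allN (fun i => band (kif (Nat.beq (u22 i) (Nat.pow 2 i)) true (Nat.beq (Nat.xor (u22 i) 4) (Nat.pow 2 i)))
    (band (Nat.beq (Nat.land (pc (Nat.land 8388609 (enc (u22 i)))) 1) 0) (Nat.beq (bt (enc (u22 i)) 23) (bt (enc (u22 i)) 0)))) 12 = true := by
  decide +kernel
theorem enc4_bits : band (Nat.beq (bt (enc 4) 23) 0) (Nat.beq (bt (enc 4) 0) 0) = false := by decide +kernel

theorem u22_cases {i : ℕ} (hi : i < 12) : u22 i = 2 ^ i ∨ u22 i ^^^ 4 = 2 ^ i := by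
  have h := (band_iff.1 ((allN_iff _ _).1 u22_ok i hi)).1
  rw [kif_spec] at h
  split_ifs at h with h1
  · exact Or.inl (beq_iff.1 h1)
  · exact Or.inr (beq_iff.1 h)

theorem u22_par {i : ℕ} (hi : i < 12) : pc (8388609 &&& enc (u22 i)) % 2 = 0 := by
  have h := (band_iff.1 (band_iff.1 ((allN_iff _ _).1 u22_ok i hi)).2).1
  rw [beq_iff] at h
  rw [← h]
  exact (Nat.and_two_pow_sub_one_eq_mod _ 1).symm

theorem B_mem_bt (m : ℕ) : (B 0 ∈ S m ↔ bt m 23 = 1) ∧ (B 1 ∈ S m ↔ bt m 0 = 1) := by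
  rw [B0_pt, B1_pt, mem_S_pt (by norm_num), mem_S_pt (by norm_num), bt_eq, bt_eq]
  constructor
  · cases m.testBit 23 <;> simp
  · cases m.testBit 0 <;> simp

theorem u22_bits {i : ℕ} (hi : i < 12) : B 0 ∈ S (enc (u22 i)) ↔ B 1 ∈ S (enc (u22 i)) := by
  have h := (band_iff.1 (band_iff.1 ((allN_iff _ _).1 u22_ok i hi)).2).2
  rw [(B_mem_bt _).1, (B_mem_bt _).2, beq_iff.1 h]

theorem enc4_mem : B 0 ∈ S (enc 4) ↔ B 1 ∉ S (enc 4) := by
  rw [(B_mem_bt _).1, (B_mem_bt _).2]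
  have h1 : bt (enc 4) 23 = 1 := by decide +kernel
  have h2 : bt (enc 4) 0 = 0 := by decide +kernel
  rw [h1, h2]; simp

theorem S_pair : S 8388609 = {B 0, B 1} := by
  have h : (8388609 : ℕ) = 2 ^ 23 ||| 2 ^ 0 := by decide +kernel
  rw [h, S_or, S_two_pow (by norm_num), S_two_pow (by norm_num), ← B0_pt, ← B1_pt]; rfl

theorem enc4_par : pc (8388609 &&& enc 4) % 2 = 1 := by decide +kernel

theorem enc_u22_lt {i : ℕ} : u22 i < 4096 := land_mask_lt _ 12

/-- words through both or neither point, under a permutation fixing the points and permuting the special octads -/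
theorem pull_u22 {π : Equiv.Perm GolayPt} (h : ∀ k < 4096, f22 k = true → π • S (enc k) ∈ octads) {i : ℕ} (hi : i < 12) :
    wd (enc (u22 i)) ∈ pull π :=
  pairT_mem t22_ok (fun k hk hf => by
    rw [mem_pull_support, support_wd]; exact (h k hk hf).1) hi

theorem supports_mask22 {s : Finset GolayPt} (h : s ∈ supports (golayCode : Set (GolayPt → ZMod 2))) :
    ∃ c, isCW c = true ∧ s = S c := by
  obtain ⟨k, hk, h1⟩ := mem_supports_iff.1 h
  exact ⟨enc k, isCW_iff.2 ⟨k, hk, rfl⟩, h1⟩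

theorem extend22 {π : Equiv.Perm GolayPt} (h0 : π (B 0) = B 0) (h1 : π (B 1) = B 1)
    (h : ∀ k < 4096, f22 k = true → π • S (enc k) ∈ octads) (h' : ∀ k < 4096, f22 k = true → π⁻¹ • S (enc k) ∈ octads) :
    π ∈ M24 ∨ Equiv.swap (B 0) (B 1) * π ∈ M24 := by
  have hB : B 0 ≠ B 1 := fun h => B_ne (i := 1) (j := 0) (by norm_num) (by norm_num) h.symm
  obtain ⟨m, hm, hmS⟩ := exists_mask (π • S (enc 4))
  have hpar : ∀ i < 12, pc (m &&& enc (u22 i)) % 2 = 0 := by
    intro i hi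
    have h2 := pull_u22 h' hi
    rw [mem_pull_support, support_wd] at h2
    obtain ⟨c, hc, h3⟩ := supports_mask22 h2
    have h4 : (S m ∩ S (enc (u22 i))).card = (S (enc 4) ∩ S c).card := by
      rw [← hmS, ← h3]
      have : π • S (enc 4) ∩ S (enc (u22 i)) = π • (S (enc 4) ∩ π⁻¹ • S (enc (u22 i))) := by
        rw [Finset.smul_finset_inter, smul_inv_smul]
      rw [this, Finset.card_smul_finset]
    rw [pc_and, pc_and] at h4
    rw [h4]
    exact even_inter (isCW_iff.2 ⟨4, by norm_num, rfl⟩) hc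
  have hbit : B 0 ∈ S m ↔ B 1 ∉ S m := by
    rw [← hmS]
    have e0 : B 0 ∈ π • S (enc 4) ↔ B 0 ∈ S (enc 4) := by
      have := mem_smul_iff' π (B 0) (S (enc 4)); rwa [h0] at this
    have e1 : B 1 ∈ π • S (enc 4) ↔ B 1 ∈ S (enc 4) := by
      have := mem_smul_iff' π (B 1) (S (enc 4)); rwa [h1] at this
    rw [e0, e1]; exact enc4_mem
  have hpow : ∀ i < 12, enc (2 ^ i) = enc (u22 i) ∨ enc (2 ^ i) = enc (u22 i) ^^^ enc 4 := by
    intro i hi
    rcases u22_cases hi with h2 | h2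
    · left; rw [h2]
    · right; rw [← h2, enc_xor]
  rcases Nat.mod_two_eq_zero_or_one (pc (m &&& enc 4)) with hε | hε
  · left
    have hcw : isCW m = true := by
      apply dual_mem hm
      intro i hi
      rcases hpow i hi with h2 | h2
      · rw [h2]; exact hpar i hi
      · rw [h2, par_xor']
        have := hpar i hi
        omega
    have h4 : wd (enc 4) ∈ pull π := by
      rw [mem_pull_support, support_wd, hmS, S_mem_supports_iff hm]; exact hcw
    rw [mem_M24_iff]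
    intro w hw
    obtain ⟨k, hk, rfl⟩ := mem_golay_iff.1 hw
    refine enc_mem_of (pull π) (fun i hi => ?_) hk
    rcases hpow i hi with h2 | h2
    · rw [h2]; exact pull_u22 h hi
    · rw [h2, wd_xor]; exact (pull π).add_mem (pull_u22 h hi) h4
  · right
    have hlt : m ^^^ 8388609 < 2 ^ 24 := Nat.xor_lt_two_pow hm (by norm_num)
    have hcw : isCW (m ^^^ 8388609) = true := by
      apply dual_mem hlt
      intro i hi
      rcases hpow i hi with h2 | h2
      · rw [h2, par_xor]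
        have := hpar i hi
        have := u22_par hi
        omega
      · rw [h2, par_xor', Nat.add_mod, par_xor, par_xor]
        have := hpar i hi
        have := u22_par hi
        have := enc4_par
        omega
    have hsm : (Equiv.swap (B 0) (B 1) * π) • S (enc 4) = S (m ^^^ 8388609) := by
      rw [mul_smul, hmS, swap_smul_diff hB hbit, S_xor, S_pair]
    have h4 : wd (enc 4) ∈ pull (Equiv.swap (B 0) (B 1) * π) := by
      rw [mem_pull_support, support_wd, hsm, S_mem_supports_iff hlt]; exact hcw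
    have h5 : ∀ i < 12, wd (enc (u22 i)) ∈ pull (Equiv.swap (B 0) (B 1) * π) := by
      intro i hi
      have h6 := pull_u22 h hi
      rw [mem_pull_support, support_wd] at h6 ⊢
      rw [mul_smul, swap_smul_same]
      · exact h6
      · have e0 : B 0 ∈ π • S (enc (u22 i)) ↔ B 0 ∈ S (enc (u22 i)) := by
          have := mem_smul_iff' π (B 0) (S (enc (u22 i))); rwa [h0] at this
        have e1 : B 1 ∈ π • S (enc (u22 i)) ↔ B 1 ∈ S (enc (u22 i)) := by
          have := mem_smul_iff' π (B 1) (S (enc (u22 i))); rwa [h1] at this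
        rw [e0, e1]; exact u22_bits hi
    rw [mem_M24_iff]
    intro w hw
    obtain ⟨k, hk, rfl⟩ := mem_golay_iff.1 hw
    refine enc_mem_of (pull (Equiv.swap (B 0) (B 1) * π)) (fun i hi => ?_) hk
    rcases hpow i hi with h2 | h2
    · rw [h2]; exact h5 i hi
    · rw [h2, wd_xor]; exact (pull _).add_mem (h5 i hi) h4

theorem mem_Hc2 {g : Equiv.Perm GolayPt} : g ∈ Hc 2 ↔ g ∈ M24 ∧ g (B 0) = B 0 ∧ g (B 1) = B 1 := by
  rw [mem_Hc]
  constructor
  · rintro ⟨h, h2⟩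
    exact ⟨h, h2 0 (by norm_num), h2 1 (by norm_num)⟩
  · rintro ⟨h, h2, h3⟩
    refine ⟨h, fun j hj => ?_⟩
    have : j = 0 ∨ j = 1 := by omega
    rcases this with rfl | rfl
    · exact h2
    · exact h3

theorem forall_lt_two {P : ℕ → Prop} (h0 : P 0) (h1 : P 1) : ∀ j < 2, P j := by
  intro j hj
  have : j = 0 ∨ j = 1 := by omega
  rcases this with rfl | rfl
  · exact h0
  · exact h1

theorem swap22_norm {s : Equiv.Perm GolayPt} (hs : s ∈ M24) (h1 : s (B 0) = B 1) (h2 : s (B 1) = B 0) :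
    ∀ g, g ∈ Hc 2 ↔ s * g * s⁻¹ ∈ Hc 2 := by
  have i0 : s⁻¹ (B 0) = B 1 := by rw [Equiv.Perm.inv_eq_iff_eq, h2]
  have i1 : s⁻¹ (B 1) = B 0 := by rw [Equiv.Perm.inv_eq_iff_eq, h1]
  intro g
  rw [mem_Hc2, mem_Hc2]
  simp only [Equiv.Perm.mul_apply, i0, i1]
  constructor
  · rintro ⟨a, b, c⟩
    exact ⟨conj_mem a hs, by rw [c, h2], by rw [b, h1]⟩
  · rintro ⟨a, b, c⟩
    refine ⟨?_, ?_, ?_⟩
    · have : g = s⁻¹ * (s * g * s⁻¹) * s := by group
      rw [this]; exact M24.mul_mem (M24.mul_mem (M24.inv_mem hs) a) hs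
    · apply s.injective; rw [c, h1]
    · apply s.injective; rw [b, h2]

theorem Hc2_noninner {s : Equiv.Perm GolayPt} (hs : s ∈ M24) (h1 : s (B 0) = B 1) (h2 : s (B 1) = B 0) :
    ¬ ∃ h ∈ Hc 2, ∀ g ∈ Hc 2, s * g * s⁻¹ = h * g * h⁻¹ := by
  rintro ⟨h, hh, hc⟩
  have hB : B 0 ≠ B 1 := fun h => B_ne (i := 1) (j := 0) (by norm_num) (by norm_num) h.symm
  have hh' := mem_Hc2.1 ((Hc 2).inv_mem hh)
  set c := h⁻¹ * s with hcdef
  have hcM : c ∈ M24 := M24.mul_mem hh'.1 hs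
  have hc0 : c (B 0) = B 1 := by rw [hcdef, Equiv.Perm.mul_apply, h1, hh'.2.2]
  have hc1 : c (B 1) = B 0 := by rw [hcdef, Equiv.Perm.mul_apply, h2, hh'.2.1]
  have hcomm : ∀ g ∈ Hc 2, ∀ a, g (c a) = c (g a) := by
    intro g hg a
    have h2 := hc g hg
    have h3 : g * c = c * g := by
      rw [hcdef]
      calc g * (h⁻¹ * s) = h⁻¹ * (h * g * h⁻¹) * s := by group
        _ = h⁻¹ * (s * g * s⁻¹) * s := by rw [h2]
        _ = h⁻¹ * s * g := by group
    exact congrArg (fun f : Equiv.Perm GolayPt => f a) h3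
  have hfix : ∀ a, a ≠ B 0 → a ≠ B 1 → c a = a := by
    intro a ha0 ha1
    have hc0' : c a ≠ B 0 := fun e => ha1 (c.injective (e.trans hc1.symm))
    have hc1' : c a ≠ B 1 := fun e => ha0 (c.injective (e.trans hc0.symm))
    exact (Hc_sep (n := 2) (a := a) (b := c a) (by norm_num) (forall_lt_two ha0 ha1) (forall_lt_two hc0' hc1')
      (fun g hg hga => by rw [hcomm g hg, hga])).symm
  have hne : c ≠ 1 := by
    intro e
    rw [e, Equiv.Perm.one_apply] at hc0
    exact hB hc0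
  have h8 := fx_le hcM hne
  have h9 : ({B 0, B 1} : Finset GolayPt)ᶜ ⊆ fx c := by
    intro q hq
    rw [Finset.mem_compl, Finset.mem_insert, Finset.mem_singleton, not_or] at hq
    exact mem_fx.2 (hfix q hq.1 hq.2)
  have h10 := Finset.card_le_card h9
  rw [Finset.card_compl, card_pt, Finset.card_pair hB] at h10
  omega

theorem exists_swap22 : ∃ s ∈ M24, s (B 0) = B 1 ∧ s (B 1) = B 0 := by
  have hB : B 0 ≠ B 1 := fun h => B_ne (i := 1) (j := 0) (by norm_num) (by norm_num) h.symm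
  obtain ⟨g, hg, h⟩ := m24_transOn [B 0, B 1] [B 1, B 0] (by simp [hB]) (by simp [hB.symm]) (by simp) (by simp)
    (by simp) (by simp)
  simp only [List.map_cons, List.map_nil, List.cons.injEq, and_true] at h
  exact ⟨g, hg, h⟩

theorem octs22 {k : ℕ} (hk : k < 4096) (hf : f22 k = true) : ∃ g ∈ Hc 2, g ^ 2 = 1 ∧ g ≠ 1 ∧ fx g = S (enc k) ∧ B 0 ∈ fx g := by
  rw [f22, band_iff, band_iff] at hf
  obtain ⟨g, hg, h2, h1, h3⟩ := octads_invol ((mem_octads_node _).2 ⟨k, hk, hf.1, rfl⟩)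
  have hB0 : B 0 ∈ S (enc k) := by
    rw [B0_pt]; exact (mem_test (by norm_num) k).1 hf.2.1
  have hB1 : B 1 ∈ S (enc k) := by
    rw [B1_pt]; exact (mem_test (by norm_num) k).1 hf.2.2
  rw [← h3] at hB0 hB1
  exact ⟨g, mem_Hc2.2 ⟨hg, mem_fx.1 hB0, mem_fx.1 hB1⟩, h2, h1, h3, hB0⟩

theorem pi22 (φ : Hc 2 ≃* Hc 2) : ∃ π : Equiv.Perm GolayPt, π (B 0) = B 0 ∧ π (B 1) = B 1 ∧
    ∀ g : Hc 2, (φ g : Equiv.Perm GolayPt) = π * g * π⁻¹ := by
  obtain ⟨π, -, hπ2, hπ⟩ := exists_pi (Hc 2) φ {a | a ≠ B 0 ∧ a ≠ B 1} (fun g hg a ha => by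
      have h0 := (mem_Hc2.1 hg).2
      exact ⟨fun h => ha.1 (g.injective (h.trans h0.1.symm)), fun h => ha.2 (g.injective (h.trans h0.2.symm))⟩)
    (fun g hg a ha => by
      have h0 := (mem_Hc2.1 hg).2
      by_cases h : a = B 0
      · rw [h]; exact h0.1
      · have : a = B 1 := by_contra fun h' => ha ⟨h, h'⟩
        rw [this]; exact h0.2)
    (fun a ha b hb h => Hc_sep (n := 2) (by norm_num) (forall_lt_two ha.1 ha.2) (forall_lt_two hb.1 hb.2) h) (by
      intro a ha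
      have e : ∀ c : GolayPt, (c ≠ B 0 ∧ c ≠ B 1) → Nat.card (st (Hc 2) c) = 20160 := by
        intro c hc
        rw [card_st_Hc (by norm_num) (forall_lt_two hc.1 hc.2)]
        exact card_Hc3
      obtain ⟨b, hb0, hb1, hb⟩ := idx22 (K := stImg (Hc 2) φ a) stImg_le (by rw [card_stImg, e a ha])
      exact ⟨b, ⟨hb0, hb1⟩, fun g => st_match (by rw [e a ha, e b ⟨hb0, hb1⟩]) hb g⟩)
  exact ⟨π, hπ2 _ (fun h => h.1 rfl), hπ2 _ (fun h => h.2 rfl), hπ⟩

theorem out_Hc2 : Nat.card (Out ↥(Hc 2)) = 2 := by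
  obtain ⟨s, hs, h1, h2⟩ := exists_swap22
  apply out_two' (swap22_norm hs h1 h2) (Hc2_noninner hs h1 h2)
  intro φ
  obtain ⟨π, hπ0, hπ1, hπ⟩ := pi22 φ
  have hπi : ∀ g : Hc 2, (φ.symm g : Equiv.Perm GolayPt) = π⁻¹ * g * (π⁻¹)⁻¹ := by
    intro g
    have := hπ (φ.symm g)
    rw [MulEquiv.apply_symm_apply] at this
    rw [this]; group
  have hA : ∀ k < 4096, f22 k = true → π • S (enc k) ∈ octads := by
    intro k hk hf
    obtain ⟨g, hg, g2, g1, g3, g4⟩ := octs22 hk hf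
    rw [← g3]
    exact pi_octad (Hc_le 2) hπ hg g2 g1 ⟨B 0, g4⟩
  have hA' : ∀ k < 4096, f22 k = true → π⁻¹ • S (enc k) ∈ octads := by
    intro k hk hf
    obtain ⟨g, hg, g2, g1, g3, g4⟩ := octs22 hk hf
    rw [← g3]
    exact pi_octad (Hc_le 2) hπi hg g2 g1 ⟨B 0, g4⟩
  rcases extend22 hπ0 hπ1 hA hA' with h | h
  · exact ⟨π, Or.inl (mem_Hc2.2 ⟨h, hπ0, hπ1⟩), hπ⟩
  · refine ⟨Equiv.swap (B 0) (B 1) * π, Or.inr (mem_Hc2.2 ⟨M24.mul_mem h hs, ?_, ?_⟩), fun g => ?_⟩
    · simp only [Equiv.Perm.mul_apply, h1, hπ1, Equiv.swap_apply_right]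
    · simp only [Equiv.Perm.mul_apply, h2, hπ0, Equiv.swap_apply_left]
    · have hg := mem_Hc2.1 (φ g).2
      have e : (Equiv.swap (B 0) (B 1)) * (φ g : Equiv.Perm GolayPt) = (φ g : Equiv.Perm GolayPt) * Equiv.swap (B 0) (B 1) := by
        rw [Equiv.mul_swap_eq_swap_mul, hg.2.1, hg.2.2]
      calc (φ g : Equiv.Perm GolayPt) = (φ g : Equiv.Perm GolayPt) * Equiv.swap (B 0) (B 1) * (Equiv.swap (B 0) (B 1))⁻¹ := by group
        _ = Equiv.swap (B 0) (B 1) * (φ g : Equiv.Perm GolayPt) * (Equiv.swap (B 0) (B 1))⁻¹ := by rw [e]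
        _ = Equiv.swap (B 0) (B 1) * π * g * (Equiv.swap (B 0) (B 1) * π)⁻¹ := by rw [hπ g]; group

end Cfsg.Agent.H9
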