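import Cfsg.Agent.H9.Oct
set_option autoImplicit false

/-! Packed permutations of the 24 points acting on masks; membership in the group of the code. -/

namespace Cfsg.Agent.H9
open Cfsg
open scoped Pointwise

/-- image of index `i` under the packed permutation `P` -/
def im (P i : ℕ) : ℕ := Nat.land (Nat.shiftRight P (Nat.mul i 5)) 31

/-- `P` packs a permutation of `0..23` -/
noncomputable def isPerm (P : ℕ) : Bool := Nat.beq (orB (fun i => Nat.shiftLeft 1 (im P i)) 24) 16777215

theorem testBit_one_shl (a j : ℕ) : (Nat.shiftLeft 1 a).testBit j = true ↔ a = j := by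
  have : Nat.shiftLeft 1 a = 2 ^ a := by
    have h : Nat.shiftLeft 1 a = 1 <<< a := rfl
    rw [h, Nat.shiftLeft_eq, one_mul]
  rw [this, Nat.testBit_two_pow]; simp

theorem isPerm_surj {P : ℕ} (h : isPerm P = true) {j : ℕ} (hj : j < 24) : ∃ i < 24, im P i = j := by
  have h1 := Nat.eq_of_beq_eq_true h
  have h2 : (orB (fun i => Nat.shiftLeft 1 (im P i)) 24).testBit j = true := by
    rw [h1]; exact testBit_full hj
  rw [testBit_orB] at h2
  obtain ⟨i, hi, h3⟩ := h2
  exact ⟨i, hi, (testBit_one_shl _ _).1 h3⟩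

theorem im_lt {P : ℕ} (h : isPerm P = true) {i : ℕ} (hi : i < 24) : im P i < 24 := by
  have h1 := Nat.eq_of_beq_eq_true h
  by_contra hc
  have h2 : (orB (fun i => Nat.shiftLeft 1 (im P i)) 24).testBit (im P i) = true := by
    rw [testBit_orB]; exact ⟨i, hi, (testBit_one_shl _ _).2 rfl⟩
  rw [h1] at h2
  have h3 : (16777215 : ℕ) < 2 ^ (im P i) := lt_of_lt_of_le (by norm_num : (16777215:ℕ) < 2 ^ 24)
    (Nat.pow_le_pow_right (by norm_num) (by omega))
  rw [Nat.testBit_lt_two_pow h3] at h2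
  exact absurd h2 (by simp)

theorem isPerm_bij {P : ℕ} (h : isPerm P = true) :
    Function.Bijective (fun p : GolayPt => pt (im P (idx p))) := by
  apply Function.Surjective.bijective_of_finite
  intro q
  obtain ⟨i, hi, h1⟩ := isPerm_surj h (idx_lt q)
  exact ⟨pt i, by simp only [idx_pt hi, h1, pt_idx]⟩

open Classical in
/-- the permutation packed by `P` (identity if invalid) -/
noncomputable def toPerm (P : ℕ) : Equiv.Perm GolayPt :=
  if h : Function.Bijective (fun p : GolayPt => pt (im P (idx p))) then Equiv.ofBijective _ h else 1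

theorem toPerm_apply {P : ℕ} (h : isPerm P = true) (p : GolayPt) : toPerm P p = pt (im P (idx p)) := by
  rw [toPerm, dif_pos (isPerm_bij h)]; rfl

theorem toPerm_pt {P : ℕ} (h : isPerm P = true) {i : ℕ} (hi : i < 24) : toPerm P (pt i) = pt (im P i) := by
  rw [toPerm_apply h, idx_pt hi]

theorem idx_toPerm {P : ℕ} (h : isPerm P = true) (p : GolayPt) : idx (toPerm P p) = im P (idx p) := by
  rw [toPerm_apply h, idx_pt (im_lt h (idx_lt p))]

/-- image of a mask -/
noncomputable def imgM (P m : ℕ) : ℕ := orB (fun i => Nat.shiftLeft (bt m i) (im P i)) 24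

theorem testBit_bt_shl (m i a j : ℕ) : (Nat.shiftLeft (bt m i) a).testBit j = true ↔
    m.testBit i = true ∧ a = j := by
  rw [bt_eq]
  cases h : m.testBit i
  · have : Nat.shiftLeft (false.toNat) a = 0 := by
      have h : Nat.shiftLeft 0 a = 0 <<< a := rfl
      rw [Bool.toNat_false, h, Nat.zero_shiftLeft]
    rw [this]; simp
  · rw [Bool.toNat_true, testBit_one_shl]; simp

theorem testBit_imgM (P m j : ℕ) : (imgM P m).testBit j = true ↔ ∃ i < 24, m.testBit i = true ∧ im P i = j := by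
  rw [imgM, testBit_orB]
  exact exists_congr fun i => and_congr_right fun _ => testBit_bt_shl _ _ _ _

theorem smul_S {P : ℕ} (h : isPerm P = true) (m : ℕ) : toPerm P • S m = S (imgM P m) := by
  ext q
  rw [Finset.mem_smul_finset, mem_S, testBit_imgM]
  constructor
  · rintro ⟨p, hp, rfl⟩
    refine ⟨idx p, idx_lt p, mem_S.1 hp, ?_⟩
    rw [Equiv.Perm.smul_def, idx_toPerm h]
  · rintro ⟨i, hi, h1, h2⟩
    refine ⟨pt i, (mem_S_pt hi).2 h1, ?_⟩
    rw [Equiv.Perm.smul_def]
    apply idx_inj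
    rw [idx_toPerm h, idx_pt hi, h2]

theorem imgM_lt {P : ℕ} (h : isPerm P = true) (m : ℕ) : imgM P m < 2 ^ 24 := by
  apply Nat.lt_pow_two_of_testBit
  intro j hj
  by_contra hc
  have : (imgM P m).testBit j = true := by simpa using hc
  rw [testBit_imgM] at this
  obtain ⟨i, hi, _, h2⟩ := this
  have := im_lt h hi
  omega

/-! ### the group of the code acting on words -/

theorem support_comp (g : Equiv.Perm GolayPt) (w : GolayPt → ZMod 2) :
    support₂ (fun p => w (g.symm p)) = g • support₂ w := by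
  ext q
  rw [Finset.mem_smul_finset]
  simp only [support₂, Finset.mem_filter, Finset.mem_univ, true_and, Equiv.Perm.smul_def]
  constructor
  · intro h; exact ⟨g.symm q, h, by simp⟩
  · rintro ⟨p, hp, rfl⟩; simpa using hp

theorem mem_M24_iff {g : Equiv.Perm GolayPt} :
    g ∈ M24 ↔ ∀ w ∈ golayCode, (fun p => w (g.symm p)) ∈ golayCode := by
  rw [MulAction.mem_stabilizer_iff]
  constructor
  · intro h w hw
    have h1 : g • support₂ w ∈ g • supports (golayCode : Set (GolayPt → ZMod 2)) :=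
      Set.smul_mem_smul_set ⟨w, hw, rfl⟩
    rw [h] at h1
    obtain ⟨v, hv, h2⟩ := h1
    rw [← support_comp] at h2
    rw [← support_inj h2]; exact hv
  · intro h
    have hsub : g • supports (golayCode : Set (GolayPt → ZMod 2)) ⊆ supports (golayCode : Set (GolayPt → ZMod 2)) := by
      rintro s ⟨t, ⟨w, hw, rfl⟩, rfl⟩
      exact ⟨_, h w hw, support_comp g w⟩
    apply Set.eq_of_subset_of_ncard_le hsub _ (Set.toFinite _)
    rw [Set.ncard_smul_set]

/-- the group of the code preserves supports -/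
theorem smul_mem_supports {g : Equiv.Perm GolayPt} (hg : g ∈ M24) {s : Finset GolayPt}
    (hs : s ∈ supports (golayCode : Set (GolayPt → ZMod 2))) :
    g • s ∈ supports (golayCode : Set (GolayPt → ZMod 2)) := by
  have h := MulAction.mem_stabilizer_iff.1 hg
  rw [← h]; exact Set.smul_mem_smul_set hs

theorem smul_mem_weight {g : Equiv.Perm GolayPt} (hg : g ∈ M24) {s : Finset GolayPt} {n : ℕ}
    (hs : s ∈ wordsOfWeight (golayCode : Set (GolayPt → ZMod 2)) n) :
    g • s ∈ wordsOfWeight (golayCode : Set (GolayPt → ZMod 2)) n :=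
  ⟨smul_mem_supports hg hs.1, by rw [Finset.card_smul_finset]; exact hs.2⟩

theorem smul_mem_octads {g : Equiv.Perm GolayPt} (hg : g ∈ M24) {s : Finset GolayPt} (hs : s ∈ octads) :
    g • s ∈ octads := smul_mem_weight hg hs

theorem smul_mem_dodecads {g : Equiv.Perm GolayPt} (hg : g ∈ M24) {s : Finset GolayPt} (hs : s ∈ dodecads) :
    g • s ∈ dodecads := smul_mem_weight hg hs

theorem wd_comp {P : ℕ} (h : isPerm P = true) (m : ℕ) :
    (fun p => wd m ((toPerm P).symm p)) = wd (imgM P m) := by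
  apply support_inj
  rw [support_comp, support_wd, support_wd, smul_S h]

/-- certificate: `P` is a permutation preserving the code -/
noncomputable def checkM24 (P : ℕ) : Bool :=
  @Bool.rec (fun _ => Bool) false (allN (fun i => isCW (imgM P (enc (Nat.pow 2 i)))) 12) (isPerm P)

theorem checkM24_perm {P : ℕ} (h : checkM24 P = true) : isPerm P = true := ((brec_false _ _).1 h).1

theorem checkM24_mem {P : ℕ} (h : checkM24 P = true) : toPerm P ∈ M24 := by
  obtain ⟨h1, h2⟩ := (brec_false _ _).1 h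
  rw [mem_M24_iff]
  intro w hw
  obtain ⟨k, hk, rfl⟩ := mem_golay_iff.1 hw
  have := enc_mem_of (golayCode.comap (LinearMap.funLeft (ZMod 2) (ZMod 2) (toPerm P).symm)) ?_ hk
  · exact this
  · intro i hi
    show (fun p => wd (enc (2 ^ i)) ((toPerm P).symm p)) ∈ golayCode
    rw [wd_comp h1]
    have h3 := (allN_iff _ _).1 h2 i hi
    obtain ⟨k, hk, h4⟩ := isCW_iff.1 h3
    have h5 : Nat.pow 2 i = 2 ^ i := rfl
    rw [h5] at h4
    rw [h4]; exact enc_mem hk

/-! ### fixing certificates -/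

theorem octad_fixed {g : Equiv.Perm GolayPt} (hg : g ∈ M24) {o : Finset GolayPt} (ho : o ∈ octads)
    {F : Finset GolayPt} (hF : ∀ p ∈ F, g p = p) (h5 : 5 ≤ (o ∩ F).card) : g • o = o := by
  apply octad_eq_of_inter (smul_mem_octads hg ho) ho
  apply le_trans h5
  apply Finset.card_le_card
  intro p hp
  rw [Finset.mem_inter] at hp ⊢
  refine ⟨Finset.mem_smul_finset.2 ⟨p, hp.1, hF p hp.2⟩, hp.1⟩

/-- one fixing step: the octads `a b c` have at least 5 points in `F` and meet outside `F` in the single point `x`. -/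
noncomputable def fixStep (F a b c x : ℕ) : Bool :=
  @Bool.rec (fun _ => Bool) false
    (@Bool.rec (fun _ => Bool) false
      (@Bool.rec (fun _ => Bool) false
        (@Bool.rec (fun _ => Bool) false
          (@Bool.rec (fun _ => Bool) false
            (@Bool.rec (fun _ => Bool) false
              (Nat.beq (Nat.land (Nat.land a (Nat.land b c)) (Nat.xor F 16777215)) (Nat.pow 2 x))
              (Nat.ble 5 (pc (Nat.land c F))))
            (Nat.ble 5 (pc (Nat.land b F))))
          (Nat.ble 5 (pc (Nat.land a F))))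
        (Nat.beq (pc c) 8 && isCW c))
      (Nat.beq (pc b) 8 && isCW b))
    (Nat.beq (pc a) 8 && isCW a && Nat.blt x 24)

/-- run the fixing steps, `none`-free version: returns the final fixed mask, 0 on failure -/
noncomputable def fixRun (F : ℕ) (l : List (ℕ × ℕ × ℕ × ℕ)) : ℕ :=
  @List.rec (ℕ × ℕ × ℕ × ℕ) (fun _ => ℕ → ℕ) (fun F => F)
    (fun s _ ih F => @Bool.rec (fun _ => ℕ) 0 (ih (Nat.lor F (Nat.pow 2 s.2.2.2)))
      (fixStep F s.1 s.2.1 s.2.2.1 s.2.2.2)) l F

theorem fixStep_spec {g : Equiv.Perm GolayPt} (hg : g ∈ M24) {F a b c x : ℕ}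
    (h : fixStep F a b c x = true) (hF : ∀ p ∈ S F, g p = p) : ∀ p ∈ S (Nat.lor F (Nat.pow 2 x)), g p = p := by
  obtain ⟨ha, h⟩ := (brec_false _ _).1 h
  obtain ⟨hb, h⟩ := (brec_false _ _).1 h
  obtain ⟨hc, h⟩ := (brec_false _ _).1 h
  obtain ⟨h1, h⟩ := (brec_false _ _).1 h
  obtain ⟨h2, h⟩ := (brec_false _ _).1 h
  obtain ⟨h3, h4⟩ := (brec_false _ _).1 h
  rw [Bool.and_eq_true, Bool.and_eq_true] at ha
  rw [Bool.and_eq_true] at hb hc
  have hx : x < 24 := by simpa [Nat.blt] using ha.2
  have oa := S_mem_octads ha.1.2 (Nat.eq_of_beq_eq_true ha.1.1)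
  have ob := S_mem_octads hb.2 (Nat.eq_of_beq_eq_true hb.1)
  have oc := S_mem_octads hc.2 (Nat.eq_of_beq_eq_true hc.1)
  have key : ∀ m, Nat.ble 5 (pc (Nat.land m F)) = true → 5 ≤ (S m ∩ S F).card := by
    intro m hm; rw [pc_and]; exact Nat.le_of_ble_eq_true hm
  have fa := octad_fixed hg oa hF (key a h1)
  have fb := octad_fixed hg ob hF (key b h2)
  have fc := octad_fixed hg oc hF (key c h3)
  have h5 := Nat.eq_of_beq_eq_true h4
  have h6 : S (Nat.land (Nat.land a (Nat.land b c)) (Nat.xor F 16777215)) = {pt x} := by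
    rw [h5]; exact S_two_pow hx
  have h7 : (S a ∩ (S b ∩ S c)) ∩ (S F)ᶜ = {pt x} := by
    rw [← h6]
    have e1 : Nat.land (Nat.land a (Nat.land b c)) (Nat.xor F 16777215) =
      (a &&& (b &&& c)) &&& (F ^^^ 16777215) := rfl
    rw [e1, S_and, S_and, S_and, S_compl]
  intro p hp
  have hp' : p ∈ S F ∪ S (2 ^ x) := by rw [← S_or]; exact hp
  rw [Finset.mem_union, S_two_pow hx, Finset.mem_singleton] at hp'
  rcases hp' with hp' | rfl
  · exact hF p hp'
  · have hxm : pt x ∈ (S a ∩ (S b ∩ S c)) ∩ (S F)ᶜ := by rw [h7]; exact Finset.mem_singleton_self _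
    simp only [Finset.mem_inter, Finset.mem_compl] at hxm
    have hm : ∀ m, g • S m = S m → pt x ∈ S m → g (pt x) ∈ S m := by
      intro m h8 h9
      rw [← h8]; exact Finset.mem_smul_finset.2 ⟨_, h9, rfl⟩
    have h10 : g (pt x) ∉ S F := by
      intro h11
      have := hF _ h11
      have := g.injective this
      rw [this] at h11
      exact hxm.2 h11
    have : g (pt x) ∈ (S a ∩ (S b ∩ S c)) ∩ (S F)ᶜ := by
      simp only [Finset.mem_inter, Finset.mem_compl]
      exact ⟨⟨hm a fa hxm.1.1, hm b fb hxm.1.2.1, hm c fc hxm.1.2.2⟩, h10⟩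
    rw [h7, Finset.mem_singleton] at this
    exact this

theorem fixRun_spec {g : Equiv.Perm GolayPt} (hg : g ∈ M24) (l : List (ℕ × ℕ × ℕ × ℕ)) :
    ∀ F : ℕ, (∀ p ∈ S F, g p = p) → ∀ p ∈ S (fixRun F l), g p = p := by
  induction l with
  | nil => intro F hF; exact hF
  | cons s l ih =>
    intro F hF
    have h : fixRun F (s :: l) = @Bool.rec (fun _ => ℕ) 0 (fixRun (Nat.lor F (Nat.pow 2 s.2.2.2)) l)
      (fixStep F s.1 s.2.1 s.2.2.1 s.2.2.2) := rfl
    rw [h]
    cases hs : fixStep F s.1 s.2.1 s.2.2.1 s.2.2.2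
    · intro p hp
      exact absurd hp (by show p ∉ S 0; rw [S_zero]; simp)
    · exact ih _ (fixStep_spec hg hs hF)

theorem eq_one_of_fixRun {g : Equiv.Perm GolayPt} (hg : g ∈ M24) {F : ℕ} {l : List (ℕ × ℕ × ℕ × ℕ)}
    (h : fixRun F l = 16777215) (hF : ∀ p ∈ S F, g p = p) : g = 1 := by
  ext1 p
  have := fixRun_spec hg l F hF p (by rw [h, S_full]; exact Finset.mem_univ _)
  simpa using this

end Cfsg.Agent.H9
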