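import Cfsg.Agent.H9.Orb
set_option autoImplicit false

/-! Syndromes and sextets. -/

namespace Cfsg.Agent.H9
open Cfsg
open scoped Pointwise

/-- syndrome of a mask (12 bits) -/
def syn (m : ℕ) : ℕ := Nat.shiftRight (Nat.xor (enc (Nat.land m 4095)) m) 12

theorem land4095 (x : ℕ) : Nat.land x 4095 = x % 4096 := Nat.and_two_pow_sub_one_eq_mod x 12

theorem syn_xor (a b : ℕ) : syn (a ^^^ b) = syn a ^^^ syn b := by
  have hX : ∀ x y, Nat.xor x y = x ^^^ y := fun _ _ => rfl
  have h : (a ^^^ b) % 4096 = (a % 4096) ^^^ (b % 4096) := by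
    have : (4096 : ℕ) = 2 ^ 12 := by norm_num
    rw [this]; exact Nat.xor_mod_two_pow
  unfold syn
  rw [hX, hX, hX, land4095, land4095, land4095, h, enc_xor, ← shiftRight_xor']
  congr 1
  ac_rfl

theorem syn_lt {m : ℕ} (hm : m < 2 ^ 24) : syn m < 4096 := by
  have h : Nat.xor (enc (Nat.land m 4095)) m < 2 ^ 24 := Nat.xor_lt_two_pow (enc_lt _) hm
  have : syn m = Nat.xor (enc (Nat.land m 4095)) m / 2 ^ 12 := Nat.shiftRight_eq_div_pow _ _
  rw [this]
  exact Nat.div_lt_of_lt_mul (by rw [show 2 ^ 12 * 4096 = 2 ^ 24 by norm_num]; exact h)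

theorem syn_eq_zero {m : ℕ} : syn m = 0 ↔ isCW m = true := by
  have hX : ∀ x y, Nat.xor x y = x ^^^ y := fun _ _ => rfl
  constructor
  · intro h
    have h1 : Nat.xor (enc (Nat.land m 4095)) m / 2 ^ 12 = 0 := by
      rw [← h]; exact (Nat.shiftRight_eq_div_pow _ _).symm
    have h2 : Nat.xor (enc (Nat.land m 4095)) m % 2 ^ 12 = 0 := by
      rw [hX, Nat.xor_mod_two_pow, land4095]
      have h3 : enc (m % 4096) % 2 ^ 12 = m % 4096 := enc_mod (Nat.mod_lt _ (by norm_num))
      rw [h3]; exact Nat.xor_self _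
    have h3 : enc (Nat.land m 4095) ^^^ m = 0 := by
      have := Nat.div_add_mod (Nat.xor (enc (Nat.land m 4095)) m) (2 ^ 12)
      rw [h1, h2] at this
      rw [← hX]; omega
    rw [Nat.xor_eq_zero_iff] at h3
    rw [isCW, h3]; exact Nat.beq_refl _
  · intro h
    have h1 := Nat.eq_of_beq_eq_true h
    show Nat.shiftRight (Nat.xor (enc (Nat.land m 4095)) m) 12 = 0
    rw [h1, hX, Nat.xor_self]; rfl

/-- syndrome of a set -/
noncomputable def sy (t : Finset GolayPt) : ℕ := syn (mk t)

theorem sy_S {m : ℕ} (hm : m < 2 ^ 24) : sy (S m) = syn m := by rw [sy, mk_S hm]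

theorem sy_lt (t : Finset GolayPt) : sy t < 4096 := syn_lt (mk_lt t)

theorem mem_supports_mask {m : ℕ} (hm : m < 2 ^ 24) :
    S m ∈ supports (golayCode : Set (GolayPt → ZMod 2)) ↔ isCW m = true := by
  rw [mem_supports_iff, isCW_iff]
  constructor
  · rintro ⟨k, hk, h⟩; exact ⟨k, hk, S_inj hm (enc_lt _) h⟩
  · rintro ⟨k, hk, h⟩; exact ⟨k, hk, by rw [h]⟩

theorem mk_symmDiff (t u : Finset GolayPt) : mk (symmDiff t u) = mk t ^^^ mk u := by
  have : symmDiff t u = S (mk t ^^^ mk u) := by rw [S_xor, S_mk, S_mk]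
  rw [this, mk_S (Nat.xor_lt_two_pow (mk_lt _) (mk_lt _))]

theorem sy_symmDiff (t u : Finset GolayPt) : sy (symmDiff t u) = sy t ^^^ sy u := by
  rw [sy, mk_symmDiff, syn_xor]; rfl

theorem sy_eq_zero {t : Finset GolayPt} : sy t = 0 ↔ t ∈ supports (golayCode : Set (GolayPt → ZMod 2)) := by
  rw [sy, syn_eq_zero, ← mem_supports_mask (mk_lt t), S_mk]

theorem sy_eq_iff {t u : Finset GolayPt} :
    sy t = sy u ↔ symmDiff t u ∈ supports (golayCode : Set (GolayPt → ZMod 2)) := by
  rw [← sy_eq_zero, sy_symmDiff, Nat.xor_eq_zero_iff]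

/-- the sextet with a given syndrome -/
noncomputable def Sx (s : ℕ) : Finset (Finset GolayPt) := Finset.univ.filter fun t => t.card = 4 ∧ sy t = s

theorem mem_Sx {s : ℕ} {t : Finset GolayPt} : t ∈ Sx s ↔ t.card = 4 ∧ sy t = s := by simp [Sx]

theorem support_card8 {t : Finset GolayPt} (h : t ∈ supports (golayCode : Set (GolayPt → ZMod 2))) (hc : t.card ≤ 8)
    (hne : t ≠ ∅) : t ∈ octads := by
  obtain ⟨k, hk, rfl⟩ := mem_supports_iff.1 h
  have h1 : isCW (enc k) = true := isCW_iff.2 ⟨k, hk, rfl⟩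
  rw [card_S] at hc
  rcases lt_or_ge (pc (enc k)) 8 with h2 | h2
  · exact absurd (by rw [cw_eq_zero h1 h2, S_zero]) hne
  · exact S_mem_octads h1 (le_antisymm hc h2)

theorem octads_supports {o : Finset GolayPt} (ho : o ∈ octads) :
    o ∈ supports (golayCode : Set (GolayPt → ZMod 2)) := ho.1

/-- two tetrads of a sextet -/
theorem tetrads_disjoint {t u : Finset GolayPt} (ht : t.card = 4) (hu : u.card = 4) (h : sy t = sy u) (hne : t ≠ u) :
    Disjoint t u ∧ t ∪ u ∈ octads := by
  rw [sy_eq_iff] at h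
  have h1 : (symmDiff t u).card + 2 * (t ∩ u).card = 8 := by
    have h2 := pc_xor (mk t) (mk u)
    rw [← card_S, ← card_S, ← card_S, ← card_S, S_xor, S_and, S_mk, S_mk, ht, hu] at h2
    omega
  have h3 : symmDiff t u ≠ ∅ := fun h4 => hne (symmDiff_eq_bot.1 h4)
  have h5 := support_card8 h (by omega) h3
  have h6 := octad_card h5
  have h7 : (t ∩ u).card = 0 := by omega
  have h8 : Disjoint t u := by
    rw [Finset.disjoint_iff_inter_eq_empty]; exact Finset.card_eq_zero.1 h7
  refine ⟨h8, ?_⟩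
  have : symmDiff t u = t ∪ u := h8.symmDiff_eq_sup
  rw [← this]; exact h5

theorem Sx_card {s : ℕ} {t : Finset GolayPt} (ht : t ∈ Sx s) : (Sx s).card = 6 := by
  classical
  have ht' := mem_Sx.1 ht
  have h5 := octads_through4 ht'.1
  have key : {o | o ∈ octads ∧ t ⊆ o} = (fun u => t ∪ u) '' (((Sx s).erase t : Finset (Finset GolayPt)) : Set (Finset GolayPt)) := by
    ext o
    constructor
    · rintro ⟨h1, h2⟩
      refine ⟨o \ t, ?_, Finset.union_sdiff_of_subset h2⟩
      rw [Finset.mem_coe, Finset.mem_erase, mem_Sx]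
      have hc : (o \ t).card = 4 := by
        rw [Finset.card_sdiff_of_subset h2, octad_card h1, ht'.1]
      have hd : Disjoint t (o \ t) := Finset.disjoint_sdiff
      refine ⟨?_, hc, ?_⟩
      · intro he
        rw [he, disjoint_self] at hd
        have hd' : t = ∅ := hd
        rw [hd'] at ht'; simp at ht'
      · rw [← ht'.2]
        symm
        rw [sy_eq_iff, hd.symmDiff_eq_sup]
        have : t ⊔ (o \ t) = o := Finset.union_sdiff_of_subset h2
        rw [this]; exact octads_supports h1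
    · rintro ⟨u, hu, rfl⟩
      rw [Finset.mem_coe, Finset.mem_erase, mem_Sx] at hu
      exact ⟨(tetrads_disjoint ht'.1 hu.2.1 (by rw [ht'.2, hu.2.2]) hu.1.symm).2, Finset.subset_union_left⟩
  rw [key, Set.ncard_image_of_injOn, Set.ncard_coe_finset, Finset.card_erase_of_mem ht] at h5
  · omega
  · intro u hu v hv huv
    rw [Finset.mem_coe, Finset.mem_erase, mem_Sx] at hu hv
    have d1 := (tetrads_disjoint ht'.1 hu.2.1 (by rw [ht'.2, hu.2.2]) hu.1.symm).1
    have d2 := (tetrads_disjoint ht'.1 hv.2.1 (by rw [ht'.2, hv.2.2]) hv.1.symm).1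
    have huv' : t ∪ u = t ∪ v := huv
    rw [← Finset.union_sdiff_cancel_left d1, huv', Finset.union_sdiff_cancel_left d2]

theorem Sx_mem_sextets {s : ℕ} {t : Finset GolayPt} (ht : t ∈ Sx s) : Sx s ∈ sextets := by
  refine ⟨Sx_card ht, fun u hu => (mem_Sx.1 hu).1, fun u hu v hv huv => ?_⟩
  rw [mem_Sx] at hu hv
  exact (tetrads_disjoint hu.1 hv.1 (by rw [hu.2, hv.2]) huv).2

theorem sextet_eq {X : Finset (Finset GolayPt)} (hX : X ∈ sextets) {t : Finset GolayPt} (ht : t ∈ X) :
    X = Sx (sy t) := by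
  obtain ⟨h1, h2, h3⟩ := hX
  have htS : t ∈ Sx (sy t) := mem_Sx.2 ⟨h2 t ht, rfl⟩
  apply Finset.eq_of_subset_of_card_le
  · intro u hu
    rw [mem_Sx]
    refine ⟨h2 u hu, ?_⟩
    by_cases hut : u = t
    · rw [hut]
    · have h4 := h3 u hu t ht hut
      have h5 : Disjoint u t := by
        rw [← Finset.card_union_eq_card_add_card, octad_card h4, h2 u hu, h2 t ht]
      rw [sy_eq_iff, h5.symmDiff_eq_sup]
      exact octads_supports h4
  · rw [h1, Sx_card htS]

theorem mem_sextets_iff {X : Finset (Finset GolayPt)} :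
    X ∈ sextets ↔ ∃ t : Finset GolayPt, t.card = 4 ∧ X = Sx (sy t) := by
  constructor
  · intro h
    obtain ⟨t, ht⟩ : X.Nonempty := by rw [← Finset.card_pos, h.1]; norm_num
    exact ⟨t, h.2.1 t ht, sextet_eq h ht⟩
  · rintro ⟨t, ht, rfl⟩
    exact Sx_mem_sextets (t := t) (mem_Sx.2 ⟨ht, rfl⟩)

/-! ### the weight 4 syndromes -/

/-- bit table of the syndromes of tetrads -/
def sTab : ℕ := 0x9469699669168669698616699669699269969629966861969269699449969669699686618669088692696996699486699249699669968669209292699269691629969668966961969661699668969649964961966196106169968669962961969649699669928669699694291669699649049649964961969249699669969668699696299269699496616896499696699629290249969629499696290449499616686996699686696996964996296196699694299661699692696996499696689661499669869669611096619661299668969629966961969661699649969668699692699469691686616996699696689649699629969668699616689668688069869661926969968608698669869469166968966996964969869669966129969661611069968661698696611669699669969661942969969269499669969668966949966994962969869269166969966992966986696196946969166996966868969661166969961669699601161668964929966996966869969668166868809269499620929269698696699269691669949629926969969669619649969668699696619249699694692996699696688669699669961668691696689668688049960449926949969661499669969668966949966916966829969668966868809629499669969668699696681668688061969668966868809668688068808000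

/-- syndromes of single points -/
def synTab : ℕ := 0x800400200100080040020010008004002001e3ab1d7b43da1edeccb669b36e3d4b49fc75

/-- test -/
def sF (s : ℕ) : Bool := Nat.beq (bt sTab s) 1

theorem synTab_ok : allN (fun i => Nat.beq (lookW 12 4095 synTab i) (syn (Nat.pow 2 i))) 24 = true := by
  decide +kernel

theorem sF_all : allN (fun a => allN (fun b => allN (fun c => allN (fun d =>
    sF (Nat.xor (Nat.xor (lookW 12 4095 synTab a) (lookW 12 4095 synTab b))
      (Nat.xor (lookW 12 4095 synTab c) (lookW 12 4095 synTab d)))) c) b) a) 24 = true := by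
  decide +kernel

theorem cnt_eq (f : ℕ → Bool) : cnt f = ((Finset.range 4096).filter fun k => f k = true).card := by
  rw [cnt, sumR_spec, Finset.card_filter, Finset.range_eq_Ico]
  refine Finset.sum_congr rfl fun k _ => ?_
  cases h : f k <;> simp

theorem sF_count : cnt sF = 1771 := by decide +kernel

theorem four_mask {t : Finset GolayPt} (ht : t.card = 4) : ∃ a < 24, ∃ b < a, ∃ c < b, ∃ d < c,
    t = S ((2 ^ a ^^^ 2 ^ b) ^^^ (2 ^ c ^^^ 2 ^ d)) := by
  have hc : (t.image idx).card = 4 := by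
    rw [Finset.card_image_of_injective _ (fun _ _ h => idx_inj h), ht]
  obtain ⟨f, hf⟩ : ∃ f : Fin 4 ↪o ℕ, Set.range f = (t.image idx : Set ℕ) := ⟨(t.image idx).orderEmbOfFin hc, by simp⟩
  have hmem : ∀ i, f i ∈ t.image idx := fun i => by
    have : f i ∈ Set.range f := ⟨i, rfl⟩
    rw [hf] at this; exact this
  have hlt : ∀ i, f i < 24 := fun i => by
    obtain ⟨p, _, h⟩ := Finset.mem_image.1 (hmem i)
    rw [← h]; exact idx_lt p
  have h01 : f 0 < f 1 := f.strictMono (by decide)
  have h12 : f 1 < f 2 := f.strictMono (by decide)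
  have h23 : f 2 < f 3 := f.strictMono (by decide)
  refine ⟨f 3, hlt 3, f 2, h23, f 1, h12, f 0, h01, ?_⟩
  ext p
  have hp : p ∈ t ↔ ∃ i, f i = idx p := by
    have h1 : p ∈ t ↔ idx p ∈ (t.image idx : Set ℕ) := by
      rw [Finset.mem_coe, Finset.mem_image]
      exact ⟨fun h => ⟨p, h, rfl⟩, fun ⟨q, hq, h⟩ => by rwa [← idx_inj h]⟩
    rw [h1, ← hf]; exact Iff.rfl
  rw [hp, mem_S]
  simp only [Nat.testBit_xor, Nat.testBit_two_pow]
  constructor
  · rintro ⟨i, hi⟩
    rw [← hi]
    fin_cases i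
    · have e1 : f 1 ≠ f 0 := by omega
      have e2 : f 2 ≠ f 0 := by omega
      have e3 : f 3 ≠ f 0 := by omega
      simp [e1, e2, e3]
    · have e1 : f 0 ≠ f 1 := by omega
      have e2 : f 2 ≠ f 1 := by omega
      have e3 : f 3 ≠ f 1 := by omega
      simp [e1, e2, e3]
    · have e1 : f 0 ≠ f 2 := by omega
      have e2 : f 1 ≠ f 2 := by omega
      have e3 : f 3 ≠ f 2 := by omega
      simp [e1, e2, e3]
    · have e1 : f 0 ≠ f 3 := by omega
      have e2 : f 1 ≠ f 3 := by omega
      have e3 : f 2 ≠ f 3 := by omega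
      simp [e1, e2, e3]
  · intro h
    by_contra hcon
    push_neg at hcon
    have c0 := hcon 0
    have c1 := hcon 1
    have c2 := hcon 2
    have c3 := hcon 3
    simp [c0, c1, c2, c3] at h

theorem sF_of_card {t : Finset GolayPt} (ht : t.card = 4) : sF (sy t) = true := by
  obtain ⟨a, ha, b, hb, c, hc, d, hd, rfl⟩ := four_mask ht
  have hp : ∀ i < 24, (2 : ℕ) ^ i < 2 ^ 24 := fun i hi => Nat.pow_lt_pow_right (by norm_num) hi
  rw [sy_S (Nat.xor_lt_two_pow (Nat.xor_lt_two_pow (hp a ha) (hp b (by omega)))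
    (Nat.xor_lt_two_pow (hp c (by omega)) (hp d (by omega)))), syn_xor, syn_xor, syn_xor]
  have h := (allN_iff _ _).1 ((allN_iff _ _).1 ((allN_iff _ _).1 ((allN_iff _ _).1 sF_all a ha) b hb) c hc) d hd
  have e : ∀ i < 24, syn (2 ^ i) = lookW 12 4095 synTab i := fun i hi =>
    (Nat.eq_of_beq_eq_true ((allN_iff _ _).1 synTab_ok i hi)).symm
  rw [e a ha, e b (by omega), e c (by omega), e d (by omega)]
  exact h

/-- the finset of syndromes of tetrads -/
noncomputable def sFs : Finset ℕ := (Finset.range 4096).filter fun s => sF s = true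

theorem sFs_card : sFs.card = 1771 := by
  have h := sF_count
  rw [cnt_eq] at h
  exact h

theorem sF_iff {s : ℕ} (hs : s < 4096) : sF s = true ↔ ∃ t : Finset GolayPt, t.card = 4 ∧ sy t = s := by
  classical
  constructor
  · intro h
    set U : Finset (Finset GolayPt) := Finset.powersetCard 4 Finset.univ with hU
    have hUm : ∀ t, t ∈ U ↔ t.card = 4 := fun t => by simp [hU, Finset.mem_powersetCard]
    have hUc : U.card = 10626 := by
      rw [hU, Finset.card_powersetCard, Finset.card_univ, card_pt]; decide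
    have h1 : U.card = ∑ s ∈ U.image sy, (U.filter fun t => sy t = s).card :=
      Finset.card_eq_sum_card_image sy U
    have h2 : ∀ s ∈ U.image sy, (U.filter fun t => sy t = s).card = 6 := by
      intro s hs
      obtain ⟨t, ht, rfl⟩ := Finset.mem_image.1 hs
      rw [hUm] at ht
      have : (U.filter fun u => sy u = sy t) = Sx (sy t) := by
        ext u; rw [Finset.mem_filter, hUm, mem_Sx]
      rw [this]; exact Sx_card (t := t) (mem_Sx.2 ⟨ht, rfl⟩)
    rw [Finset.sum_congr rfl h2, Finset.sum_const, hUc, smul_eq_mul] at h1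
    have h3 : U.image sy ⊆ sFs := by
      intro s hs
      obtain ⟨t, ht, rfl⟩ := Finset.mem_image.1 hs
      rw [hUm] at ht
      exact Finset.mem_filter.2 ⟨Finset.mem_range.2 (sy_lt t), sF_of_card ht⟩
    have h4 : U.image sy = sFs := Finset.eq_of_subset_of_card_le h3 (by rw [sFs_card]; omega)
    have h5 : s ∈ sFs := Finset.mem_filter.2 ⟨Finset.mem_range.2 hs, h⟩
    rw [← h4] at h5
    obtain ⟨t, ht, h6⟩ := Finset.mem_image.1 h5
    exact ⟨t, (hUm t).1 ht, h6⟩
  · rintro ⟨t, ht, rfl⟩; exact sF_of_card ht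

theorem mem_sextets_node (X : Finset (Finset GolayPt)) :
    X ∈ sextets ↔ ∃ s < 4096, sF s = true ∧ Sx s = X := by
  rw [mem_sextets_iff]
  constructor
  · rintro ⟨t, ht, rfl⟩; exact ⟨sy t, sy_lt t, sF_of_card ht, rfl⟩
  · rintro ⟨s, hs, h, rfl⟩
    obtain ⟨t, ht, h1⟩ := (sF_iff hs).1 h
    exact ⟨t, ht, by rw [h1]⟩

theorem Sx_inj {s s' : ℕ} (hs : s < 4096) (h : sF s = true) (he : Sx s = Sx s') : s = s' := by
  obtain ⟨t, ht, h1⟩ := (sF_iff hs).1 h
  have : t ∈ Sx s := mem_Sx.2 ⟨ht, h1⟩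
  rw [he, mem_Sx] at this
  rw [← h1, this.2]

theorem sextets_ncard : sextets.ncard = 1771 := by
  have : sextets = Sx '' (sFs : Set ℕ) := by
    ext X
    rw [mem_sextets_node]
    constructor
    · rintro ⟨s, hs, h, rfl⟩; exact ⟨s, Finset.mem_coe.2 (Finset.mem_filter.2 ⟨Finset.mem_range.2 hs, h⟩), rfl⟩
    · rintro ⟨s, hs, rfl⟩
      have := Finset.mem_filter.1 (Finset.mem_coe.1 hs)
      exact ⟨s, Finset.mem_range.1 this.1, this.2, rfl⟩
  rw [this, Set.ncard_image_of_injOn, Set.ncard_coe_finset, sFs_card]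
  intro a ha b _ hab
  have := Finset.mem_filter.1 (Finset.mem_coe.1 ha)
  exact Sx_inj (Finset.mem_range.1 this.1) this.2 hab

theorem sextet_through {t : Finset GolayPt} (ht : t.card = 4) : ∃! X : Finset (Finset GolayPt), X ∈ sextets ∧ t ∈ X := by
  refine ⟨Sx (sy t), ⟨mem_sextets_iff.2 ⟨t, ht, rfl⟩, mem_Sx.2 ⟨ht, rfl⟩⟩, ?_⟩
  rintro X ⟨h1, h2⟩
  exact sextet_eq h1 h2

/-! ### the action -/

theorem sy_smul {g : Equiv.Perm GolayPt} (hg : g ∈ M24) {t u : Finset GolayPt} (h : sy t = sy u) :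
    sy (g • t) = sy (g • u) := by
  rw [sy_eq_iff] at h ⊢
  rw [← Finset.smul_finset_symmDiff]
  exact smul_mem_supports hg h

theorem smul_Sx {g : Equiv.Perm GolayPt} (hg : g ∈ M24) (t : Finset GolayPt) : g • Sx (sy t) = Sx (sy (g • t)) := by
  ext u
  rw [Finset.mem_smul_finset]
  constructor
  · rintro ⟨v, hv, rfl⟩
    rw [mem_Sx] at hv ⊢
    exact ⟨by rw [Finset.card_smul_finset, hv.1], sy_smul hg hv.2⟩
  · intro hu
    rw [mem_Sx] at hu
    refine ⟨g⁻¹ • u, mem_Sx.2 ⟨by rw [Finset.card_smul_finset, hu.1], ?_⟩, smul_inv_smul _ _⟩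
    have := sy_smul (M24.inv_mem hg) hu.2
    rwa [inv_smul_smul] at this

theorem smul_mem_sextets {g : Equiv.Perm GolayPt} (hg : g ∈ M24) {X : Finset (Finset GolayPt)} (hX : X ∈ sextets) :
    g • X ∈ sextets := by
  obtain ⟨t, ht, rfl⟩ := mem_sextets_iff.1 hX
  rw [smul_Sx hg]
  exact mem_sextets_iff.2 ⟨g • t, by rw [Finset.card_smul_finset, ht], rfl⟩

theorem sextet_trans {X Y : Finset (Finset GolayPt)} (hX : X ∈ sextets) (hY : Y ∈ sextets) : ∃ g ∈ M24, g • X = Y := by
  obtain ⟨t, ht, rfl⟩ := mem_sextets_iff.1 hX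
  obtain ⟨u, hu, rfl⟩ := mem_sextets_iff.1 hY
  obtain ⟨g, hg, h1⟩ := exists_toBaseSet (s := t) (by omega)
  obtain ⟨k, hk, h2⟩ := exists_toBaseSet (s := u) (by omega)
  refine ⟨k⁻¹ * g, M24.mul_mem (M24.inv_mem hk) hg, ?_⟩
  rw [smul_Sx (M24.mul_mem (M24.inv_mem hk) hg), mul_smul, h1, ht, ← hu, ← h2, inv_smul_smul]

/-- validity of the syndrome tables -/
noncomputable def genSOK (PP A g : ℕ) : Bool :=
  @Bool.rec (fun _ => Bool) false
    (@Bool.rec (fun _ => Bool) false
      (@Bool.rec (fun _ => Bool) false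
        (allN (fun i => Nat.beq (syn (imgM (pk PP g) (Nat.pow 2 i))) (act A g (syn (Nat.pow 2 i)))) 24)
        (allN (fun c => Nat.beq (lookA A g (Nat.add 64 c))
          (xorB (fun i => Nat.mul (lookA A g (Nat.add 64 (Nat.pow 2 i))) (bt c i)) 6)) 64))
      (allN (fun c => Nat.beq (lookA A g c) (xorB (fun i => Nat.mul (lookA A g (Nat.pow 2 i)) (bt c i)) 6)) 64))
    (checkM24 (pk PP g))

theorem actS_xor {PP A g : ℕ} (h : genSOK PP A g = true) {j k : ℕ} (hj : j < 4096) (hk : k < 4096) :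
    act A g (j ^^^ k) = act A g j ^^^ act A g k := by
  obtain ⟨-, h⟩ := (brec_false _ _).1 h
  obtain ⟨h1, h⟩ := (brec_false _ _).1 h
  obtain ⟨h2, -⟩ := (brec_false _ _).1 h
  have k1 : ∀ a < 64, ∀ b < 64, lookA A g (a ^^^ b) = lookA A g a ^^^ lookA A g b := by
    intro a ha b hb
    have hab : a ^^^ b < 64 := Nat.xor_lt_two_pow (n := 6) ha hb
    rw [Nat.eq_of_beq_eq_true ((allN_iff _ _).1 h1 _ hab), Nat.eq_of_beq_eq_true ((allN_iff _ _).1 h1 _ ha),
      Nat.eq_of_beq_eq_true ((allN_iff _ _).1 h1 _ hb), ← xorB_xor]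
    congr 1; funext i; exact bt_xor_mul _ _ _ _
  have k2 : ∀ a < 64, ∀ b < 64, lookA A g (Nat.add 64 (a ^^^ b)) =
      lookA A g (Nat.add 64 a) ^^^ lookA A g (Nat.add 64 b) := by
    intro a ha b hb
    have hab : a ^^^ b < 64 := Nat.xor_lt_two_pow (n := 6) ha hb
    rw [Nat.eq_of_beq_eq_true ((allN_iff _ _).1 h2 _ hab), Nat.eq_of_beq_eq_true ((allN_iff _ _).1 h2 _ ha),
      Nat.eq_of_beq_eq_true ((allN_iff _ _).1 h2 _ hb), ← xorB_xor]
    congr 1; funext i; exact bt_xor_mul _ _ _ _
  have hX : ∀ x y, Nat.xor x y = x ^^^ y := fun _ _ => rfl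
  unfold act
  rw [hX, hX, hX, land63_xor, shiftRight_xor', k1 _ (land63_lt _) _ (land63_lt _),
    k2 _ (shr6_lt hj) _ (shr6_lt hk)]
  ac_rfl

theorem genS_mem {PP A g : ℕ} (h : genSOK PP A g = true) : toPerm (pk PP g) ∈ M24 :=
  checkM24_mem ((brec_false _ _).1 h).1

theorem genS_isPerm {PP A g : ℕ} (h : genSOK PP A g = true) : isPerm (pk PP g) = true :=
  checkM24_perm ((brec_false _ _).1 h).1

/-- induction over bits -/
theorem set_induction {Q : Finset GolayPt → Prop} (h0 : Q ∅) (h1 : ∀ i < 24, Q {pt i})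
    (hx : ∀ s t, Q s → Q t → Q (symmDiff s t)) : ∀ s, Q s := by
  intro s
  induction s using Finset.induction_on with
  | empty => exact h0
  | insert a s ha ih =>
    have e : insert a s = symmDiff {a} s := by
      have : Disjoint {a} s := Finset.disjoint_singleton_left.2 ha
      rw [this.symmDiff_eq_sup]; rfl
    rw [e]
    apply hx _ _ _ ih
    have := h1 (idx a) (idx_lt a)
    rwa [pt_idx] at this

theorem genS_sy {PP A g : ℕ} (h : genSOK PP A g = true) (t : Finset GolayPt) :
    sy (toPerm (pk PP g) • t) = act A g (sy t) := by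
  have hp := genS_isPerm h
  refine set_induction (Q := fun t => sy (toPerm (pk PP g) • t) = act A g (sy t)) ?_ ?_ ?_ t
  · show sy (toPerm (pk PP g) • (∅ : Finset GolayPt)) = act A g (sy ∅)
    have h0 := actS_xor h (j := 0) (k := 0) (by norm_num) (by norm_num)
    rw [Nat.xor_self, Nat.xor_self] at h0
    have e : sy (∅ : Finset GolayPt) = 0 := by
      rw [← S_zero, sy_S (by norm_num)]; decide +kernel
    rw [Finset.smul_finset_empty, e, h0]
  · intro i hi
    show sy (toPerm (pk PP g) • ({pt i} : Finset GolayPt)) = act A g (sy {pt i})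
    obtain ⟨-, h⟩ := (brec_false _ _).1 h
    obtain ⟨-, h⟩ := (brec_false _ _).1 h
    obtain ⟨-, h3⟩ := (brec_false _ _).1 h
    have := Nat.eq_of_beq_eq_true ((allN_iff _ _).1 h3 i hi)
    rw [← S_two_pow hi, smul_S hp, sy_S (imgM_lt hp _), sy_S (Nat.pow_lt_pow_right (by norm_num) hi)]
    exact this
  · intro s t hs ht
    show sy (toPerm (pk PP g) • symmDiff s t) = act A g (sy (symmDiff s t))
    rw [Finset.smul_finset_symmDiff, sy_symmDiff, sy_symmDiff, actS_xor h (sy_lt s) (sy_lt t), hs, ht]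

theorem genS_smul {PP A g : ℕ} (h : genSOK PP A g = true) {s : ℕ} (hs : s < 4096) (hF : sF s = true) :
    toPerm (pk PP g) • Sx s = Sx (act A g s) := by
  obtain ⟨t, ht, rfl⟩ := (sF_iff hs).1 hF
  rw [smul_Sx (genS_mem h), genS_sy h]

end Cfsg.Agent.H9
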