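import Cfsg.Agent.H9.OrbTools
set_option autoImplicit false

/-! Six-point transitivity and counts of octads through points. -/

namespace Cfsg.Agent.H9
open Cfsg
open scoped Pointwise

theorem Bl_nodup : ∀ n ≤ 5, ((List.range n).map B).Nodup := by
  intro n hn
  rw [List.nodup_map_iff_inj_on List.nodup_range]
  intro i hi j hj h
  rw [List.mem_range] at hi hj
  by_contra hne
  rcases lt_or_gt_of_ne hne with h1 | h1
  · exact B_ne (by omega) h1 h.symm
  · exact B_ne (by omega) h1 h

/-- list version of `exists_to_base` -/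
theorem to_base_list (l : List GolayPt) (hl : l.Nodup) (h5 : l.length ≤ 5) :
    ∃ g ∈ M24, l.map g = (List.range l.length).map B :=
  m24_transOn l _ hl (Bl_nodup _ h5) (by simp) h5 (by simp) (by simp)

/-- move six points of an octad to the standard ones -/
theorem six_in {a b c d e f : GolayPt} (hl : [a, b, c, d, e, f].Nodup) {o : Finset GolayPt} (ho : o ∈ octads)
    (hm : ∀ x ∈ [a, b, c, d, e, f], x ∈ o) :
    ∃ g ∈ M24, g a = B 0 ∧ g b = B 1 ∧ g c = B 2 ∧ g d = B 3 ∧ g e = B 4 ∧ g f = B 5 := by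
  obtain ⟨g, hg, h⟩ := to_base_list [a, b, c, d, e] (by
    have : [a, b, c, d, e, f] = [a, b, c, d, e] ++ [f] := rfl
    rw [this, List.nodup_append] at hl; exact hl.1) (by simp)
  simp only [List.length_cons, List.length_nil, List.range, List.range.loop, List.map_cons, List.map_nil,
    List.cons.injEq, and_true] at h
  obtain ⟨h0, h1, h2, h3, h4⟩ := h
  -- the octad goes to the standard octad
  have hgo : g • o = S oct0 := by
    apply octad_eq_of_inter (smul_mem_octads hg ho) oct0_mem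
    have : S (bsMask 5) ⊆ g • o ∩ S oct0 := by
      intro p hp
      rw [Finset.mem_inter]
      constructor
      · obtain ⟨i, hi, rfl⟩ := (mem_bsMask (by norm_num)).1 hp
        interval_cases i
        · rw [← h0, mem_smul_iff']; exact hm a (by simp)
        · rw [← h1, mem_smul_iff']; exact hm b (by simp)
        · rw [← h2, mem_smul_iff']; exact hm c (by simp)
        · rw [← h3, mem_smul_iff']; exact hm d (by simp)
        · rw [← h4, mem_smul_iff']; exact hm e (by simp)
      · have h6 : S (bsMask 5) ⊆ S oct0 := by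
          rw [subset_S_iff (by decide +kernel)]; decide +kernel
        exact h6 hp
    calc 5 = (S (bsMask 5)).card := by rw [card_S]; decide +kernel
      _ ≤ _ := Finset.card_le_card this
  have hgf : g f ∈ S (orb 5) := by
    have e1 : S (orb 5) = S oct0 ∩ (S (bsMask 5))ᶜ := by
      rw [orb5_eq, ← S_compl, ← S_and]; rfl
    rw [e1, Finset.mem_inter, Finset.mem_compl]
    refine ⟨by rw [← hgo, mem_smul_iff']; exact hm f (by simp), fun hh => ?_⟩
    obtain ⟨i, hi, h6⟩ := (mem_bsMask (by norm_num)).1 hh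
    simp only [List.nodup_cons, List.mem_cons, List.not_mem_nil, or_false, not_or] at hl
    interval_cases i
    · rw [← h0] at h6; exact hl.1.2.2.2.2 (g.injective h6).symm
    · rw [← h1] at h6; exact hl.2.1.2.2.2 (g.injective h6).symm
    · rw [← h2] at h6; exact hl.2.2.1.2.2 (g.injective h6).symm
    · rw [← h3] at h6; exact hl.2.2.2.1.2 (g.injective h6).symm
    · rw [← h4] at h6; exact hl.2.2.2.2.1 (g.injective h6).symm
  obtain ⟨u, hu, h6⟩ := trans_step (by norm_num) hgf
  rw [mem_Hc] at hu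
  have key : ∀ x i, i < 5 → g x = B i → (u⁻¹ * g) x = B i := by
    intro x i hi hx
    rw [Equiv.Perm.mul_apply, hx, Equiv.Perm.inv_eq_iff_eq, hu.2 i hi]
  refine ⟨u⁻¹ * g, M24.mul_mem (M24.inv_mem hu.1) hg, key _ 0 (by norm_num) h0, key _ 1 (by norm_num) h1,
    key _ 2 (by norm_num) h2, key _ 3 (by norm_num) h3, key _ 4 (by norm_num) h4, ?_⟩
  rw [Equiv.Perm.mul_apply, Equiv.Perm.inv_eq_iff_eq, h6]

/-- move six points not contained in an octad to the standard ones -/
theorem six_out {a b c d e f : GolayPt} (hl : [a, b, c, d, e, f].Nodup)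
    (hm : ¬ ∃ o ∈ octads, ∀ x ∈ [a, b, c, d, e, f], x ∈ o) :
    ∃ g ∈ M24, g a = B 0 ∧ g b = B 1 ∧ g c = B 2 ∧ g d = B 3 ∧ g e = B 4 ∧ g f = B 6 := by
  obtain ⟨g, hg, h⟩ := to_base_list [a, b, c, d, e] (by
    have : [a, b, c, d, e, f] = [a, b, c, d, e] ++ [f] := rfl
    rw [this, List.nodup_append] at hl; exact hl.1) (by simp)
  simp only [List.length_cons, List.length_nil, List.range, List.range.loop, List.map_cons, List.map_nil,
    List.cons.injEq, and_true] at h
  obtain ⟨h0, h1, h2, h3, h4⟩ := h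
  have hgf : g f ∈ S (orb 6) := by
    have e1 : S (orb 6) = (S oct0)ᶜ := by rw [orb6_eq, ← S_compl]; rfl
    rw [e1, Finset.mem_compl]
    intro hh
    apply hm
    refine ⟨g⁻¹ • S oct0, smul_mem_octads (M24.inv_mem hg) oct0_mem, ?_⟩
    intro x hx
    rw [Finset.mem_inv_smul_finset_iff, Equiv.Perm.smul_def]
    simp only [List.mem_cons, List.not_mem_nil, or_false] at hx
    rcases hx with rfl | rfl | rfl | rfl | rfl | rfl
    · rw [h0]; exact B_mem_oct0 (by norm_num)
    · rw [h1]; exact B_mem_oct0 (by norm_num)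
    · rw [h2]; exact B_mem_oct0 (by norm_num)
    · rw [h3]; exact B_mem_oct0 (by norm_num)
    · rw [h4]; exact B_mem_oct0 (by norm_num)
    · exact hh
  obtain ⟨u, hu, h6⟩ := trans_step (by norm_num) hgf
  rw [mem_Hc] at hu
  have key : ∀ x i, i < 5 → g x = B i → (u⁻¹ * g) x = B i := by
    intro x i hi hx
    rw [Equiv.Perm.mul_apply, hx, Equiv.Perm.inv_eq_iff_eq, hu.2 i (by omega)]
  refine ⟨u⁻¹ * g, M24.mul_mem (M24.inv_mem hu.1) hg, key _ 0 (by norm_num) h0, key _ 1 (by norm_num) h1,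
    key _ 2 (by norm_num) h2, key _ 3 (by norm_num) h3, key _ 4 (by norm_num) h4, ?_⟩
  rw [Equiv.Perm.mul_apply, Equiv.Perm.inv_eq_iff_eq, h6]

/-- six-point transitivity -/
theorem six_trans {a b c d e f a' b' c' d' e' f' : GolayPt} (hl : [a, b, c, d, e, f].Nodup)
    (hl' : [a', b', c', d', e', f'].Nodup)
    (h : (∃ o ∈ octads, ∀ x ∈ [a, b, c, d, e, f], x ∈ o) ↔ (∃ o ∈ octads, ∀ x ∈ [a', b', c', d', e', f'], x ∈ o)) :
    ∃ g ∈ M24, g a = a' ∧ g b = b' ∧ g c = c' ∧ g d = d' ∧ g e = e' ∧ g f = f' := by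
  have key : ∃ z, (∃ g ∈ M24, g a = B 0 ∧ g b = B 1 ∧ g c = B 2 ∧ g d = B 3 ∧ g e = B 4 ∧ g f = z) ∧
      ∃ g ∈ M24, g a' = B 0 ∧ g b' = B 1 ∧ g c' = B 2 ∧ g d' = B 3 ∧ g e' = B 4 ∧ g f' = z := by
    by_cases hh : ∃ o ∈ octads, ∀ x ∈ [a, b, c, d, e, f], x ∈ o
    · obtain ⟨o, ho, h1⟩ := hh
      obtain ⟨o', ho', h1'⟩ := h.1 ⟨o, ho, h1⟩
      exact ⟨B 5, six_in hl ho h1, six_in hl' ho' h1'⟩
    · exact ⟨B 6, six_out hl hh, six_out hl' (fun h' => hh (h.2 h'))⟩
  obtain ⟨z, ⟨g, hg, h0, h1, h2, h3, h4, h5⟩, k, hk, k0, k1, k2, k3, k4, k5⟩ := key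
  have fin : ∀ {x y w}, g x = w → k y = w → (k⁻¹ * g) x = y := by
    intro x y w hx hy
    rw [Equiv.Perm.mul_apply, Equiv.Perm.inv_eq_iff_eq, hx, hy]
  exact ⟨k⁻¹ * g, M24.mul_mem (M24.inv_mem hk) hg, fin h0 k0, fin h1 k1, fin h2 k2, fin h3 k3, fin h4 k4, fin h5 k5⟩

/-! ### octads through given points -/

theorem smul_insert_set (g : Equiv.Perm GolayPt) (a : GolayPt) (s : Finset GolayPt) :
    g • (insert a s) = insert (g a) (g • s) := by
  rw [Finset.smul_finset_insert]; rfl

theorem smul_single_set (g : Equiv.Perm GolayPt) (a : GolayPt) : g • ({a} : Finset GolayPt) = {g a} := by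
  rw [Finset.smul_finset_singleton]; rfl

theorem exists_toBaseSet {s : Finset GolayPt} (h5 : s.card ≤ 5) : ∃ g ∈ M24, g • s = S (bsMask s.card) := by
  classical
  obtain ⟨g, hg, h⟩ := to_base_list s.toList s.nodup_toList (by rw [Finset.length_toList]; exact h5)
  refine ⟨g, hg, ?_⟩
  rw [Finset.length_toList] at h
  ext p
  rw [mem_bsMask (by omega)]
  constructor
  · intro hp
    obtain ⟨q, hq, rfl⟩ := Finset.mem_smul_finset.1 hp
    have : g q ∈ s.toList.map g := List.mem_map_of_mem (Finset.mem_toList.2 hq)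
    rw [h, List.mem_map] at this
    obtain ⟨i, hi, h1⟩ := this
    exact ⟨i, List.mem_range.1 hi, h1.symm⟩
  · rintro ⟨i, hi, rfl⟩
    have : B i ∈ (List.range s.card).map B := List.mem_map_of_mem (List.mem_range.2 hi)
    rw [← h, List.mem_map] at this
    obtain ⟨q, hq, h1⟩ := this
    exact Finset.mem_smul_finset.2 ⟨q, Finset.mem_toList.1 hq, h1⟩

theorem octads_through_card {s : Finset GolayPt} (h5 : s.card ≤ 5) :
    {o | o ∈ octads ∧ s ⊆ o}.ncard = cnt (fun k => band (Nat.beq (pc (enc k)) 8)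
      (Nat.beq (Nat.land (bsMask s.card) (enc k)) (bsMask s.card))) := by
  obtain ⟨g, hg, h⟩ := exists_toBaseSet h5
  have hlt : bsMask s.card < 2 ^ 24 := by
    have : s.card ∈ Finset.range 6 := Finset.mem_range.2 (by omega)
    revert this; generalize s.card = n; intro hn
    rw [Finset.mem_range] at hn
    interval_cases n <;> decide +kernel
  rw [← ncard_words (w := 8) _ (fun x => S (bsMask s.card) ⊆ x) (by
    intro k hk
    rw [subset_S_iff hlt, beq_iff]; rfl)]
  apply ncard_transport g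
  intro x
  show (_ ∧ _) ↔ (_ ∧ _)
  rw [words_iff hg, ← h, Finset.smul_finset_subset_smul_finset_iff]
  exact Iff.rfl

theorem octads_through3 {s : Finset GolayPt} (h3 : s.card = 3) : {o | o ∈ octads ∧ s ⊆ o}.ncard = 21 := by
  rw [octads_through_card (by omega), h3]; decide +kernel

theorem octads_through4 {s : Finset GolayPt} (h3 : s.card = 4) : {o | o ∈ octads ∧ s ⊆ o}.ncard = 5 := by
  rw [octads_through_card (by omega), h3]; decide +kernel

open Classical in
/-- number of `j`-sets `U` disjoint from `T` such that `T ∪ U` (with at least 5 points) lies in an octad -/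
theorem count_in_octad {T : Finset GolayPt} {j : ℕ} (h5 : 5 ≤ T.card + j) :
    ((Finset.univ.powersetCard j).filter fun U : Finset GolayPt => Disjoint T U ∧ ∃ o ∈ octads, T ∪ U ⊆ o).card =
      {o | o ∈ octads ∧ T ⊆ o}.ncard * (8 - T.card).choose j := by
  set OT : Finset (Finset GolayPt) := (wF 8).filter fun o => T ⊆ o with hOT
  have hmem : ∀ o, o ∈ OT ↔ o ∈ octads ∧ T ⊆ o := by
    intro o; rw [hOT, Finset.mem_filter, mem_wF]; exact Iff.rfl
  have hcard : OT.card = {o | o ∈ octads ∧ T ⊆ o}.ncard := by rw [hOT, filter_wF]; rfl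
  have h1 : ((Finset.univ.powersetCard j).filter fun U : Finset GolayPt => Disjoint T U ∧ ∃ o ∈ octads, T ∪ U ⊆ o) =
      OT.biUnion fun o => (o \ T).powersetCard j := by
    ext U
    rw [Finset.mem_filter, Finset.mem_biUnion, Finset.mem_powersetCard]
    constructor
    · rintro ⟨⟨-, h2⟩, h3, o, ho, h4⟩
      refine ⟨o, (hmem o).2 ⟨ho, Finset.union_subset_left h4⟩, Finset.mem_powersetCard.2 ⟨?_, h2⟩⟩
      intro x hx
      exact Finset.mem_sdiff.2 ⟨h4 (Finset.mem_union_right _ hx), fun h => Finset.disjoint_left.1 h3 h hx⟩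
    · rintro ⟨o, ho, h2⟩
      rw [Finset.mem_powersetCard] at h2
      rw [hmem] at ho
      refine ⟨⟨Finset.subset_univ _, h2.2⟩, ?_, o, ho.1, Finset.union_subset ho.2 (h2.1.trans Finset.sdiff_subset)⟩
      rw [Finset.disjoint_left]
      intro x hx hx'
      exact (Finset.mem_sdiff.1 (h2.1 hx')).2 hx
  rw [h1, Finset.card_biUnion, Finset.sum_congr rfl (g := fun _ => (8 - T.card).choose j), Finset.sum_const, hcard,
    smul_eq_mul]
  · intro o ho
    rw [hmem] at ho
    rw [Finset.card_powersetCard, Finset.card_sdiff_of_subset ho.2, octad_card ho.1]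
  · intro o ho o' ho' hne
    rw [Function.onFun, Finset.disjoint_left]
    intro U hU hU'
    rw [Finset.mem_powersetCard] at hU hU'
    rw [Finset.mem_coe, hmem] at ho ho'
    apply hne
    apply octad_eq_of_inter ho.1 ho'.1
    have hd : Disjoint T U := by
      rw [Finset.disjoint_left]
      intro x hx hx'
      exact (Finset.mem_sdiff.1 (hU.1 hx')).2 hx
    calc 5 ≤ (T ∪ U).card := by rw [Finset.card_union_of_disjoint hd]; omega
      _ ≤ _ := Finset.card_le_card (Finset.subset_inter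
        (Finset.union_subset ho.2 (hU.1.trans Finset.sdiff_subset))
        (Finset.union_subset ho'.2 (hU'.1.trans Finset.sdiff_subset)))

end Cfsg.Agent.H9
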