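import Cfsg.Agent.H9.Act
set_option autoImplicit false

/-! Straight-line programs of packed permutations, and a simplicity criterion. -/

namespace Cfsg.Agent.H9
open Cfsg
open scoped Pointwise

/-- `P = Q * R` on packed permutations -/
noncomputable def mulOK (P Q R : ℕ) : Bool := allN (fun x => Nat.beq (im P x) (im Q (im R x))) 24

/-- `P * Q = 1` on packed permutations -/
noncomputable def invOK (P Q : ℕ) : Bool := allN (fun x => Nat.beq (im P (im Q x)) x) 24

theorem isPerm_of_mul {P Q R : ℕ} (hQ : isPerm Q = true) (hR : isPerm R = true) (h : mulOK P Q R = true) :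
    isPerm P = true := by
  have key : orB (fun i => Nat.shiftLeft 1 (im P i)) 24 = 16777215 := by
    apply Nat.eq_of_testBit_eq
    intro j
    have e : (16777215 : ℕ) = 2 ^ 24 - 1 := by norm_num
    rw [e, Nat.testBit_two_pow_sub_one]
    have hP : ∀ i < 24, im P i = im Q (im R i) := fun i hi => Nat.eq_of_beq_eq_true ((allN_iff _ _).1 h i hi)
    by_cases hj : j < 24
    · obtain ⟨a, ha, h1⟩ := isPerm_surj hQ hj
      obtain ⟨b, hb, h2⟩ := isPerm_surj hR ha
      have : (orB (fun i => Nat.shiftLeft 1 (im P i)) 24).testBit j = true := by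
        rw [testBit_orB]
        exact ⟨b, hb, (testBit_one_shl _ _).2 (by rw [hP b hb, h2, h1])⟩
      rw [this]; simp [hj]
    · have : ¬ (orB (fun i => Nat.shiftLeft 1 (im P i)) 24).testBit j = true := by
        rw [testBit_orB]
        rintro ⟨i, hi, h3⟩
        rw [testBit_one_shl, hP i hi] at h3
        have := im_lt hQ (im_lt hR hi)
        omega
      have h2 : (orB (fun i => Nat.shiftLeft 1 (im P i)) 24).testBit j = false := by simpa using this
      rw [h2]; simp [hj]
  unfold isPerm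
  rw [key]; exact Nat.beq_refl _

theorem toPerm_mul {P Q R : ℕ} (hQ : isPerm Q = true) (hR : isPerm R = true) (h : mulOK P Q R = true) :
    toPerm P = toPerm Q * toPerm R := by
  have hP := isPerm_of_mul hQ hR h
  ext1 p
  rw [Equiv.Perm.mul_apply]
  apply idx_inj
  rw [idx_toPerm hP, idx_toPerm hQ, idx_toPerm hR]
  exact Nat.eq_of_beq_eq_true ((allN_iff _ _).1 h _ (idx_lt p))

theorem isPerm_of_inv {P Q : ℕ} (hQ : isPerm Q = true) (h : invOK P Q = true) : isPerm P = true := by
  have hP : ∀ i < 24, im P (im Q i) = i := fun i hi => Nat.eq_of_beq_eq_true ((allN_iff _ _).1 h i hi)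
  have key : orB (fun i => Nat.shiftLeft 1 (im P i)) 24 = 16777215 := by
    apply Nat.eq_of_testBit_eq
    intro j
    have e : (16777215 : ℕ) = 2 ^ 24 - 1 := by norm_num
    rw [e, Nat.testBit_two_pow_sub_one]
    by_cases hj : j < 24
    · have : (orB (fun i => Nat.shiftLeft 1 (im P i)) 24).testBit j = true := by
        rw [testBit_orB]
        exact ⟨im Q j, im_lt hQ hj, (testBit_one_shl _ _).2 (hP j hj)⟩
      rw [this]; simp [hj]
    · have : ¬ (orB (fun i => Nat.shiftLeft 1 (im P i)) 24).testBit j = true := by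
        rw [testBit_orB]
        rintro ⟨i, hi, h3⟩
        rw [testBit_one_shl] at h3
        obtain ⟨a, ha, rfl⟩ := isPerm_surj hQ hi
        rw [hP a ha] at h3
        omega
      have h2 : (orB (fun i => Nat.shiftLeft 1 (im P i)) 24).testBit j = false := by simpa using this
      rw [h2]; simp [hj]
  unfold isPerm
  rw [key]; exact Nat.beq_refl _

theorem toPerm_inv {P Q : ℕ} (hQ : isPerm Q = true) (h : invOK P Q = true) : toPerm P = (toPerm Q)⁻¹ := by
  have hP := isPerm_of_inv hQ h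
  rw [eq_comm, inv_eq_iff_mul_eq_one]
  have hQP : toPerm P * toPerm Q = 1 := by
    ext1 p
    rw [Equiv.Perm.mul_apply]
    apply idx_inj
    rw [idx_toPerm hP, idx_toPerm hQ]
    exact Nat.eq_of_beq_eq_true ((allN_iff _ _).1 h _ (idx_lt p))
  exact mul_eq_one_iff_eq_inv.2 (eq_inv_of_mul_eq_one_right hQP)

/-- straight-line program: node `t` (for `n0 ≤ t < n0+n`) is the product of nodes `i`, `j` or the inverse
of node `i` (`j = 4095`); the instructions are packed in `I` as 24 bits `i + 4096 j`. -/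
noncomputable def slpOK (T I n0 n : ℕ) : Bool :=
  allN (fun s => @Bool.rec (fun _ => Bool) false
    (@Bool.rec (fun _ => Bool)
      (@Bool.rec (fun _ => Bool) false
        (mulOK (pk T (Nat.add n0 s)) (pk T (Nat.land (look24 I s) 4095)) (pk T (Nat.shiftRight (look24 I s) 12)))
        (Nat.blt (Nat.shiftRight (look24 I s) 12) (Nat.add n0 s)))
      (invOK (pk T (Nat.add n0 s)) (pk T (Nat.land (look24 I s) 4095)))
      (Nat.beq (Nat.shiftRight (look24 I s) 12) 4095))
    (Nat.blt (Nat.land (look24 I s) 4095) (Nat.add n0 s))) n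

theorem slp_spec {T I n0 n : ℕ} {K : Subgroup (Equiv.Perm GolayPt)} (h : slpOK T I n0 n = true)
    (h0 : ∀ i < n0, isPerm (pk T i) = true ∧ toPerm (pk T i) ∈ K) :
    ∀ t < n0 + n, isPerm (pk T t) = true ∧ toPerm (pk T t) ∈ K := by
  intro t
  induction t using Nat.strong_induction_on with
  | _ t ih =>
    intro ht
    by_cases h1 : t < n0
    · exact h0 t h1
    · obtain ⟨s, rfl⟩ : ∃ s, t = n0 + s := ⟨t - n0, by omega⟩
      have h2 := (allN_iff _ _).1 h s (by omega)
      obtain ⟨h3, h4⟩ := (brec_false _ _).1 h2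
      have h3' : Nat.land (look24 I s) 4095 < n0 + s := by simpa [Nat.blt] using h3
      obtain ⟨p1, m1⟩ := ih _ h3' (by omega)
      cases h5 : Nat.beq (Nat.shiftRight (look24 I s) 12) 4095
      · rw [h5] at h4
        obtain ⟨h6, h7⟩ := (brec_false _ _).1 h4
        have h6' : Nat.shiftRight (look24 I s) 12 < n0 + s := by simpa [Nat.blt] using h6
        obtain ⟨p2, m2⟩ := ih _ h6' (by omega)
        refine ⟨isPerm_of_mul p1 p2 h7, ?_⟩
        have := toPerm_mul p1 p2 h7
        show toPerm (pk T (Nat.add n0 s)) ∈ K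
        rw [this]; exact K.mul_mem m1 m2
      · rw [h5] at h4
        refine ⟨isPerm_of_inv p1 h4, ?_⟩
        have := toPerm_inv p1 h4
        show toPerm (pk T (Nat.add n0 s)) ∈ K
        rw [this]; exact K.inv_mem m1

/-- transversal check: for each level `i < m` and index `x` in the orbit mask `look24 Orb i`, node
`lookW 12 4095 J (24 i + x)` fixes base points `0..i-1` and sends base point `i` to `x`. -/
noncomputable def trvOK (T J Orb Bs m N : ℕ) : Bool :=
  allN (fun i => allN (fun x => @Bool.rec (fun _ => Bool) true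
    (@Bool.rec (fun _ => Bool) false
      (@Bool.rec (fun _ => Bool) false
        (allN (fun j => Nat.beq (im (pk T (lookW 12 4095 J (Nat.add (Nat.mul i 24) x))) (lookW 5 31 Bs j))
          (lookW 5 31 Bs j)) i)
        (Nat.beq (im (pk T (lookW 12 4095 J (Nat.add (Nat.mul i 24) x))) (lookW 5 31 Bs i)) x))
      (Nat.blt (lookW 12 4095 J (Nat.add (Nat.mul i 24) x)) N))
    (Nat.beq (bt (look24 Orb i) x) 1)) 24) m

/-- chain of pointwise stabilizers of base points packed in `Bs` -/
def chn (K : Subgroup (Equiv.Perm GolayPt)) (Bs : ℕ) : ℕ → Subgroup (Equiv.Perm GolayPt)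
  | 0 => K
  | i+1 => chn K Bs i ⊓ MulAction.stabilizer (Equiv.Perm GolayPt) (pt (lookW 5 31 Bs i))

theorem mem_chn {K : Subgroup (Equiv.Perm GolayPt)} {Bs i : ℕ} {g : Equiv.Perm GolayPt} :
    g ∈ chn K Bs i ↔ g ∈ K ∧ ∀ j < i, g (pt (lookW 5 31 Bs j)) = pt (lookW 5 31 Bs j) := by
  induction i with
  | zero => simp [chn]
  | succ i ih =>
    rw [chn, Subgroup.mem_inf, ih]
    have e : g ∈ MulAction.stabilizer (Equiv.Perm GolayPt) (pt (lookW 5 31 Bs i)) ↔
      g (pt (lookW 5 31 Bs i)) = pt (lookW 5 31 Bs i) := Iff.rfl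
    rw [e]
    constructor
    · rintro ⟨⟨h1, h2⟩, h3⟩
      refine ⟨h1, fun j hj => ?_⟩
      rcases Nat.lt_succ_iff_lt_or_eq.1 hj with h | rfl
      · exact h2 j h
      · exact h3
    · rintro ⟨h1, h2⟩
      exact ⟨⟨h1, fun j hj => h2 j (by omega)⟩, h2 i (by omega)⟩

theorem trv_step {T J Orb Bs m N : ℕ} {K : Subgroup (Equiv.Perm GolayPt)}
    (h : trvOK T J Orb Bs m N = true) (hB : ∀ j < m, lookW 5 31 Bs j < 24)
    (hN : ∀ t < N, isPerm (pk T t) = true ∧ toPerm (pk T t) ∈ K) {i : ℕ} (hi : i < m) {q : GolayPt}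
    (hq : q ∈ S (look24 Orb i)) : ∃ g ∈ chn K Bs i, g (pt (lookW 5 31 Bs i)) = q := by
  have h1 := (allN_iff _ _).1 ((allN_iff _ _).1 h i hi) (idx q) (idx_lt q)
  rw [bt_eq_one (mem_S.1 hq)] at h1
  obtain ⟨h2, h1⟩ := (brec_false _ _).1 h1
  obtain ⟨h3, h4⟩ := (brec_false _ _).1 h1
  have h2' : lookW 12 4095 J (Nat.add (Nat.mul i 24) (idx q)) < N := by simpa [Nat.blt] using h2
  obtain ⟨hp, hK⟩ := hN _ h2'
  refine ⟨toPerm (pk T (lookW 12 4095 J (Nat.add (Nat.mul i 24) (idx q)))), mem_chn.2 ⟨hK, fun j hj => ?_⟩, ?_⟩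
  · rw [toPerm_pt hp (hB j (by omega)), Nat.eq_of_beq_eq_true ((allN_iff _ _).1 h4 j hj)]
  · rw [toPerm_pt hp (hB i hi), Nat.eq_of_beq_eq_true h3, pt_idx]

/-- product of orbit sizes -/
def prodOrb (Orb m : ℕ) : ℕ := ∏ i ∈ Finset.range m, pc (look24 Orb i)

/-- lower bound for the order -/
theorem card_ge_of_trv {T J Orb Bs m N : ℕ} {K : Subgroup (Equiv.Perm GolayPt)}
    (h : trvOK T J Orb Bs m N = true) (hB : ∀ j < m, lookW 5 31 Bs j < 24)
    (hN : ∀ t < N, isPerm (pk T t) = true ∧ toPerm (pk T t) ∈ K) : prodOrb Orb m ≤ Nat.card K := by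
  have key : ∀ i ≤ m, (∏ j ∈ Finset.range i, pc (look24 Orb j)) * Nat.card (chn K Bs i) ≤ Nat.card K := by
    intro i
    induction i with
    | zero => intro _; simp [chn]
    | succ i ih =>
      intro hi
      rw [Finset.prod_range_succ, mul_assoc]
      refine le_trans (Nat.mul_le_mul_left _ ?_) (ih (by omega))
      rw [card_inf_stab (chn K Bs i) (pt (lookW 5 31 Bs i)), chn]
      apply Nat.mul_le_mul_right
      rw [← card_S, ← Set.ncard_coe_finset]
      apply Set.ncard_le_ncard _ (Set.toFinite _)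
      intro q hq
      obtain ⟨g, hg, h2⟩ := trv_step h hB hN (by omega) (Finset.mem_coe.1 hq)
      exact ⟨⟨g, hg⟩, h2⟩
  have := key m le_rfl
  calc prodOrb Orb m = prodOrb Orb m * 1 := (mul_one _).symm
    _ ≤ prodOrb Orb m * Nat.card (chn K Bs m) := Nat.mul_le_mul_left _ Nat.card_pos
    _ ≤ _ := this

/-- generation: if the generators lie in `G` and the order bound is reached then they generate `G`. -/
theorem closure_eq_of_slp {T I J Orb Bs m n0 n : ℕ} {G : Subgroup (Equiv.Perm GolayPt)}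
    (hslp : slpOK T I n0 n = true) (htrv : trvOK T J Orb Bs m (n0 + n) = true)
    (hB : ∀ j < m, lookW 5 31 Bs j < 24) (hp : ∀ i < n0, isPerm (pk T i) = true)
    (hG : ∀ i < n0, toPerm (pk T i) ∈ G) (hcard : Nat.card G ≤ prodOrb Orb m) : genG T n0 = G := by
  apply Subgroup.eq_of_le_of_card_ge (genG_le hG)
  exact hcard.trans (card_ge_of_trv htrv hB (slp_spec hslp fun i hi => ⟨hp i hi, gen_mem_genG hi⟩))

/-- Simplicity from a maximal core-free subgroup of order prime to `p` and generation by `p`-elements. -/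
theorem simple_of_max {G : Type*} [Group G] [Finite G] [Nontrivial G] (H : Subgroup G) (hH : IsCoatom H)
    (hcore : ∀ x, (∀ g : G, g * x * g⁻¹ ∈ H) → x = 1) (p : ℕ) (hp : p.Prime) (hpH : ¬ p ∣ Nat.card H)
    (s : Set G) (hs : Subgroup.closure s = ⊤) (hsp : ∀ x ∈ s, ∃ k, x ^ (p ^ k) = 1) : IsSimpleGroup G := by
  refine ⟨fun N hN => ?_⟩
  by_cases hbot : N = ⊥
  · exact Or.inl hbot
  right
  have hNH : ¬ N ≤ H := by
    intro h
    apply hbot
    rw [eq_bot_iff]
    intro x hx
    rw [Subgroup.mem_bot]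
    exact hcore x fun g => h (hN.conj_mem x hx g)
  have hsup : H ⊔ N = ⊤ := hH.2 _ (lt_of_le_of_ne le_sup_left (fun h => hNH (by rw [h]; exact le_sup_right)))
  have hidx : N.index ∣ Nat.card H := by
    have h1 : N.relIndex (H ⊔ N) = N.index := by rw [hsup, Subgroup.relIndex_top_right]
    rw [← h1, Subgroup.relIndex_sup_right]
    exact Subgroup.relIndex_dvd_card _ _
  have h2 : ¬ p ∣ N.index := fun h => hpH (h.trans hidx)
  rw [eq_top_iff, ← hs, Subgroup.closure_le]
  intro x hx
  obtain ⟨k, hk⟩ := hsp x hx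
  exact mem_of_pow_prime N hp h2 hk

theorem simple_of_max' {A : Type*} [Group A] (G : Subgroup A) [Finite G] [Nontrivial G] (H : Subgroup G)
    (hH : IsCoatom H) (hcore : ∀ x : G, (∀ g : G, g * x * g⁻¹ ∈ H) → x = 1) (p : ℕ) (hp : p.Prime)
    (hpH : ¬ p ∣ Nat.card H) (s : Set A) (hs : Subgroup.closure s = G)
    (hsp : ∀ x ∈ s, ∃ k, x ^ (p ^ k) = 1) : IsSimpleGroup G := by
  refine simple_of_max H hH hcore p hp hpH (G.subtype ⁻¹' s) ?_ ?_
  · have hsG : s ⊆ G := by rw [← hs]; exact Subgroup.subset_closure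
    have h1 : (Subgroup.closure (G.subtype ⁻¹' s)).map G.subtype = G := by
      rw [MonoidHom.map_closure, Set.image_preimage_eq_of_subset, hs]
      intro x hx; exact ⟨⟨x, hsG hx⟩, rfl⟩
    apply Subgroup.map_injective G.subtype_injective
    rw [h1, ← MonoidHom.range_eq_map, Subgroup.range_subtype]
  · intro x hx
    obtain ⟨k, hk⟩ := hsp _ hx
    exact ⟨k, Subtype.ext hk⟩

end Cfsg.Agent.H9
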