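import Cfsg.Agent.H9.Out2
set_option autoImplicit false

/-! Certified Sylow 2-subgroups of permutation groups on the 24 points. -/

namespace Cfsg.Agent.H9
open Cfsg
open scoped Pointwise

/-! ### polycyclic words -/

/-- packed product of the generators selected by the bits of `e` -/
noncomputable def prodW (PP e n : ℕ) : ℕ :=
  @Nat.rec (fun _ => ℕ) idP (fun i acc => @Bool.rec (fun _ => ℕ) acc (mulP (pk PP i) acc) (Nat.beq (bt e i) 1)) n

theorem genG_mono {PP m n : ℕ} (h : m ≤ n) : genG PP m ≤ genG PP n :=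
  Subgroup.closure_mono (fun _ ⟨i, hi, h1⟩ => ⟨i, lt_of_lt_of_le hi h, h1⟩)

theorem prodW_spec {PP e k : ℕ} (hP : ∀ i < k, isPerm (pk PP i) = true) {n : ℕ} (hn : n ≤ k) :
    isPerm (prodW PP e n) = true ∧ toPerm (prodW PP e n) ∈ genG PP n := by
  induction n with
  | zero => exact ⟨checkM24_perm idP_m, by show toPerm idP ∈ _; rw [idP_one]; exact Subgroup.one_mem _⟩
  | succ n ih =>
    obtain ⟨h1, h2⟩ := ih (by omega)
    have e1 : prodW PP e (n+1) = @Bool.rec (fun _ => ℕ) (prodW PP e n) (mulP (pk PP n) (prodW PP e n)) (Nat.beq (bt e n) 1) := rfl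
    rw [e1]
    cases Nat.beq (bt e n) 1
    · exact ⟨h1, genG_mono (Nat.le_succ n) h2⟩
    · refine ⟨isPerm_mulP (hP n (by omega)) h1, ?_⟩
      show toPerm (mulP (pk PP n) (prodW PP e n)) ∈ _
      rw [toPerm_mulP (hP n (by omega)) h1]
      exact Subgroup.mul_mem _ (gen_mem_genG (Nat.lt_succ_self n)) (genG_mono (Nat.le_succ n) h2)

/-- words for the polycyclic relations -/
def wd2 (WT j i : ℕ) : ℕ := lookW 10 1023 WT (Nat.add (Nat.mul 16 j) i)

/-- polycyclic check -/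
noncomputable def pcOK (PP WT k : ℕ) : Bool :=
  allN (fun j => band (isPerm (pk PP j)) (band
    (Nat.beq (mulP (pk PP j) (pk PP j)) (prodW PP (wd2 WT j j) j))
    (allN (fun i => Nat.beq (mulP (pk PP j) (pk PP i)) (mulP (prodW PP (wd2 WT j i) j) (pk PP j))) j))) k

theorem conj_back {Γ : Type*} [Group Γ] [Finite Γ] {K : Subgroup Γ} {s : Γ} (h : ∀ g ∈ K, s * g * s⁻¹ ∈ K) : ∀ g ∈ K, s⁻¹ * g * s ∈ K := by
  intro g hg
  let f : K → K := fun g => ⟨s * g * s⁻¹, h g g.2⟩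
  have hinj : Function.Injective f := by
    intro a b hab
    have : s * (a : Γ) * s⁻¹ = s * b * s⁻¹ := congrArg Subtype.val hab
    exact Subtype.ext (mul_left_cancel (mul_right_cancel this))
  obtain ⟨a, ha⟩ := (Finite.injective_iff_surjective.1 hinj) ⟨g, hg⟩
  have h1 : s * (a : Γ) * s⁻¹ = g := congrArg Subtype.val ha
  rw [← h1]
  have : s⁻¹ * (s * (a : Γ) * s⁻¹) * s = a := by group
  rw [this]; exact a.2

theorem pc_cases {Γ : Type*} [Group Γ] {K : Subgroup Γ} {s : Γ} (h1 : ∀ g ∈ K, s * g * s⁻¹ ∈ K) (h2 : ∀ g ∈ K, s⁻¹ * g * s ∈ K)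
    (h3 : s * s ∈ K) {X : Set Γ} (hX : ∀ x ∈ X, x ∈ K ∨ x = s) {g : Γ} (hg : g ∈ Subgroup.closure X) : g ∈ K ∨ g * s ∈ K := by
  induction hg using Subgroup.closure_induction with
  | mem x hx =>
    rcases hX x hx with h | rfl
    · exact Or.inl h
    · exact Or.inr h3
  | one => exact Or.inl K.one_mem
  | mul a b _ _ ha hb =>
    rcases ha with ha | ha <;> rcases hb with hb | hb
    · exact Or.inl (K.mul_mem ha hb)
    · right; rw [mul_assoc]; exact K.mul_mem ha hb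
    · right
      have : a * b * s = a * s * (s⁻¹ * b * s) := by group
      rw [this]; exact K.mul_mem ha (h2 b hb)
    · left
      have : a * b = a * s * (s⁻¹ * (b * s) * s) * (s * s)⁻¹ := by group
      rw [this]; exact K.mul_mem (K.mul_mem ha (h2 _ hb)) (K.inv_mem h3)
  | inv a _ ha =>
    rcases ha with ha | ha
    · exact Or.inl (K.inv_mem ha)
    · right
      have : a⁻¹ * s = s * (a * s)⁻¹ * s⁻¹ * (s * s) := by group
      rw [this]; exact K.mul_mem (h1 _ (K.inv_mem ha)) h3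

section pc
variable {PP WT k : ℕ} (h : pcOK PP WT k = true)
include h

theorem pc_perm {j : ℕ} (hj : j < k) : isPerm (pk PP j) = true := (band_iff.1 ((allN_iff _ _).1 h j hj)).1

theorem pc_sq {j : ℕ} (hj : j < k) : toPerm (pk PP j) * toPerm (pk PP j) ∈ genG PP j := by
  have h1 := (band_iff.1 (band_iff.1 ((allN_iff _ _).1 h j hj)).2).1
  have hp := pc_perm h hj
  rw [← toPerm_mulP hp hp, beq_iff.1 h1]
  exact (prodW_spec (fun i hi => pc_perm h hi) hj.le).2

theorem pc_conj {j : ℕ} (hj : j < k) : ∀ g ∈ genG PP j, toPerm (pk PP j) * g * (toPerm (pk PP j))⁻¹ ∈ genG PP j := by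
  have h1 := (band_iff.1 (band_iff.1 ((allN_iff _ _).1 h j hj)).2).2
  have hp := pc_perm h hj
  have h2 : genG PP j ≤ (genG PP j).comap (MulAut.conj (toPerm (pk PP j))).toMonoidHom := by
    apply genG_le
    intro i hi
    rw [Subgroup.mem_comap]
    show toPerm (pk PP j) * toPerm (pk PP i) * (toPerm (pk PP j))⁻¹ ∈ _
    have h3 := (allN_iff _ _).1 h1 i hi
    have hw := prodW_spec (e := wd2 WT j i) (fun i hi => pc_perm h hi) hj.le
    have hpi := pc_perm h (hi.trans hj)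
    rw [← toPerm_mulP hp hpi, beq_iff.1 h3, toPerm_mulP hw.1 hp, mul_inv_cancel_right]
    exact hw.2
  exact fun g hg => h2 hg

theorem pc_conj' {j : ℕ} (hj : j < k) : ∀ g ∈ genG PP j, (toPerm (pk PP j))⁻¹ * g * toPerm (pk PP j) ∈ genG PP j :=
  conj_back (pc_conj h hj)

theorem pc_split {j : ℕ} (hj : j < k) {g : Equiv.Perm GolayPt} (hg : g ∈ genG PP (j+1)) :
    g ∈ genG PP j ∨ g * toPerm (pk PP j) ∈ genG PP j := by
  apply pc_cases (pc_conj h hj) (pc_conj' h hj) (pc_sq h hj) _ hg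
  rintro x ⟨i, hi, rfl⟩
  rcases Nat.lt_succ_iff_lt_or_eq.1 hi with hi | rfl
  · exact Or.inl (gen_mem_genG hi)
  · exact Or.inr rfl

theorem pc_card_step {j : ℕ} (hj : j < k) (hs : toPerm (pk PP j) ∉ genG PP j) :
    Nat.card (genG PP (j+1)) = 2 * Nat.card (genG PP j) := by
  have hle : genG PP j ≤ genG PP (j+1) := genG_mono (Nat.le_succ j)
  have h1 : ((genG PP j).subgroupOf (genG PP (j+1))).index = 2 := by
    rw [Subgroup.index_eq_two_iff]
    refine ⟨⟨toPerm (pk PP j), gen_mem_genG (Nat.lt_succ_self j)⟩, fun b => ?_⟩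
    have e1 : (b * ⟨toPerm (pk PP j), gen_mem_genG (Nat.lt_succ_self j)⟩ ∈ (genG PP j).subgroupOf (genG PP (j+1))) ↔
      (b : Equiv.Perm GolayPt) * toPerm (pk PP j) ∈ genG PP j := Iff.rfl
    have e2 : (b ∈ (genG PP j).subgroupOf (genG PP (j+1))) ↔ (b : Equiv.Perm GolayPt) ∈ genG PP j := Iff.rfl
    rw [e1, e2]
    by_cases hb : (b : Equiv.Perm GolayPt) ∈ genG PP j
    · right
      refine ⟨hb, fun h2 => hs ?_⟩
      have := (genG PP j).mul_mem ((genG PP j).inv_mem hb) h2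
      rwa [inv_mul_cancel_left] at this
    · left
      exact ⟨(pc_split h hj b.2).resolve_left hb, hb⟩
  have h2 := Subgroup.card_mul_index ((genG PP j).subgroupOf (genG PP (j+1)))
  rw [h1, Nat.card_congr (Subgroup.subgroupOfEquivOfLe hle).toEquiv] at h2
  omega

end pc

/-! ### masks -/

/-- mask check: `MT` the orbit masks, `BT` the base points -/
noncomputable def mkOK (PP MT BT k : ℕ) : Bool :=
  allN (fun j => band (band (Nat.beq (bt (look24 MT j) (lookW 5 31 BT j)) 1)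
    (Nat.beq (bt (imgM (pk PP j) (look24 MT j)) (lookW 5 31 BT j)) 0))
    (band (Nat.blt (lookW 5 31 BT j) 24) (allN (fun i => Nat.beq (imgM (pk PP i) (look24 MT j)) (look24 MT j)) j))) k

theorem genG_mask {PP n m : ℕ} (hp : ∀ i < n, isPerm (pk PP i) = true) (h : ∀ i < n, imgM (pk PP i) m = m) :
    ∀ g ∈ genG PP n, g • S m = S m := by
  have : genG PP n ≤ MulAction.stabilizer (Equiv.Perm GolayPt) (S m) := by
    apply genG_le
    intro i hi
    rw [MulAction.mem_stabilizer_iff, smul_S (hp i hi), h i hi]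
  exact fun g hg => this hg

section mk
variable {PP WT MT BT k : ℕ} (h : pcOK PP WT k = true) (hm : mkOK PP MT BT k = true)
include h hm

theorem mk_facts {j : ℕ} (hj : j < k) : pt (lookW 5 31 BT j) ∈ S (look24 MT j) ∧
    pt (lookW 5 31 BT j) ∉ toPerm (pk PP j) • S (look24 MT j) ∧ (∀ g ∈ genG PP j, g • S (look24 MT j) = S (look24 MT j)) := by
  have h1 := (allN_iff _ _).1 hm j hj
  rw [band_iff, band_iff, band_iff] at h1
  obtain ⟨⟨a, b⟩, c, d⟩ := h1
  have hlt : lookW 5 31 BT j < 24 := by simpa [Nat.blt] using c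
  refine ⟨?_, ?_, ?_⟩
  · rw [mem_S_pt hlt]; exact bt_eq_one_iff.1 a
  · rw [smul_S (pc_perm h hj), mem_S_pt hlt]
    have := beq_iff.1 b
    rw [bt_eq] at this
    intro h2
    rw [h2] at this
    exact absurd this (by simp)
  · exact genG_mask (fun i hi => pc_perm h (hi.trans hj)) (fun i hi => beq_iff.1 ((allN_iff _ _).1 d i hi))

theorem mk_notMem {j : ℕ} (hj : j < k) : toPerm (pk PP j) ∉ genG PP j := by
  intro h1
  obtain ⟨a, b, c⟩ := mk_facts h hm hj
  rw [c _ h1] at b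
  exact b a

theorem mk_card {n : ℕ} (hn : n ≤ k) : Nat.card (genG PP n) = 2 ^ n := by
  induction n with
  | zero =>
    have : genG PP 0 = ⊥ := by
      rw [eq_bot_iff]
      exact genG_le (fun i hi => absurd hi (Nat.not_lt_zero _))
    rw [this, Subgroup.card_bot, pow_zero]
  | succ n ih =>
    rw [pc_card_step h hn (mk_notMem h hm hn), ih (by omega), pow_succ]; ring

theorem mk_stab {j : ℕ} (hj : j < k) {g : Equiv.Perm GolayPt} (hg : g ∈ genG PP (j+1))
    (hb : g (pt (lookW 5 31 BT j)) = pt (lookW 5 31 BT j)) : g ∈ genG PP j := by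
  rcases pc_split h hj hg with h1 | h1
  · exact h1
  · exfalso
    obtain ⟨a, b, c⟩ := mk_facts h hm hj
    apply b
    have h2 := c _ h1
    rw [mul_smul] at h2
    have h3 : pt (lookW 5 31 BT j) ∈ g • toPerm (pk PP j) • S (look24 MT j) := by rw [h2]; exact a
    rw [← hb] at h3
    exact (mem_smul_iff' _ _ _).1 h3

/-- stabilizer of a base point in a block -/
theorem mk_block {s n b : ℕ} (hn : n ≤ k) (hb : ∀ j, s ≤ j → j < n → lookW 5 31 BT j = b) (hsn : s ≤ n)
    {g : Equiv.Perm GolayPt} (hg : g ∈ genG PP n) (hgb : g (pt b) = pt b) : g ∈ genG PP s := by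
  induction n, hsn using Nat.le_induction with
  | base => exact hg
  | succ n hsn ih =>
    apply ih (by omega) (fun j h1 h2 => hb j h1 (by omega))
    apply mk_stab h hm (by omega) hg
    rw [hb n hsn (by omega)]; exact hgb

end mk

theorem genG_fix {PP n b : ℕ} (hp : ∀ i < n, isPerm (pk PP i) = true) (hb : b < 24)
    (h : allN (fun i => Nat.beq (im (pk PP i) b) b) n = true) : ∀ g ∈ genG PP n, g (pt b) = pt b := by
  have : genG PP n ≤ MulAction.stabilizer (Equiv.Perm GolayPt) (pt b) := by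
    apply genG_le
    intro i hi
    rw [MulAction.mem_stabilizer_iff]
    show toPerm (pk PP i) (pt b) = pt b
    rw [toPerm_pt (hp i hi) hb, beq_iff.1 ((allN_iff _ _).1 h i hi)]
  exact fun g hg => this hg

/-! ### orbits -/

/-- orbit certificate for `genG PP n` on the mask `I` -/
noncomputable def orbsOK (PP n I l Ms Rs Wd : ℕ) : Bool :=
  band (allN (fun j => band (Nat.blt (lookW 5 31 Rs j) 24) (band
      (allN (fun i => Nat.beq (imgM (pk PP i) (look24 Ms j)) (look24 Ms j)) n)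
      (allN (fun q => kif (Nat.beq (bt (look24 Ms j) q) 1) (Nat.beq (im (prodW PP (lookW 10 1023 Wd q) n) (lookW 5 31 Rs j)) q) true) 24))) l)
    (Nat.beq (orB (fun j => look24 Ms j) l) I)

theorem orbs_eq {PP n I l Ms Rs Wd : ℕ} (hp : ∀ i < n, isPerm (pk PP i) = true) (h : orbsOK PP n I l Ms Rs Wd = true)
    {j : ℕ} (hj : j < l) {q : GolayPt} (hq : q ∈ S (look24 Ms j)) : orbF (genG PP n) q = S (look24 Ms j) := by
  rw [orbsOK, band_iff] at h
  have h1 := (allN_iff _ _).1 h.1 j hj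
  rw [band_iff, band_iff] at h1
  obtain ⟨h2, h3, h4⟩ := h1
  have hr : lookW 5 31 Rs j < 24 := by simpa [Nat.blt] using h2
  have hinv := genG_mask hp (fun i hi => beq_iff.1 ((allN_iff _ _).1 h3 i hi))
  have hreach : ∀ q ∈ S (look24 Ms j), ∃ g ∈ genG PP n, g (pt (lookW 5 31 Rs j)) = q := by
    intro q hq
    have h5 := (allN_iff _ _).1 h4 (idx q) (idx_lt q)
    have h6 := kif_imp h5 (bt_eq_one_iff.2 (mem_S.1 hq))
    have hw := prodW_spec (e := lookW 10 1023 Wd (idx q)) (k := n) hp le_rfl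
    refine ⟨_, hw.2, ?_⟩
    rw [toPerm_pt hw.1 hr, beq_iff.1 h6, pt_idx]
  obtain ⟨g0, hg0, hg0q⟩ := hreach q hq
  ext r
  rw [mem_orbF]
  constructor
  · rintro ⟨g, hg, rfl⟩
    rw [← hinv g hg, mem_smul_iff']; exact hq
  · intro hr'
    obtain ⟨g1, hg1, hg1r⟩ := hreach r hr'
    refine ⟨g1 * g0⁻¹, Subgroup.mul_mem _ hg1 (Subgroup.inv_mem _ hg0), ?_⟩
    rw [Equiv.Perm.mul_apply, ← hg0q, ← Equiv.Perm.mul_apply g0⁻¹, inv_mul_cancel, Equiv.Perm.one_apply, hg1r]

theorem orbs_cover {PP n I l Ms Rs Wd : ℕ} (h : orbsOK PP n I l Ms Rs Wd = true) {q : GolayPt} (hq : q ∈ S I) :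
    ∃ j < l, q ∈ S (look24 Ms j) := by
  rw [orbsOK, band_iff, beq_iff] at h
  rw [← h.2, mem_S, testBit_orB] at hq
  obtain ⟨j, hj, h1⟩ := hq
  exact ⟨j, hj, mem_S.2 h1⟩

/-- the orbit number `j0` has a size of its own -/
noncomputable def uniqOK (Ms l j0 : ℕ) : Bool :=
  band (Nat.blt j0 l) (allN (fun j => kif (Nat.beq (pc (look24 Ms j)) (pc (look24 Ms j0))) (Nat.beq j j0) true) l)

theorem orbs_unique {PP n I l Ms Rs Wd j0 : ℕ} (hp : ∀ i < n, isPerm (pk PP i) = true) (h : orbsOK PP n I l Ms Rs Wd = true)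
    (hu : uniqOK Ms l j0 = true) {a b : GolayPt} (ha : a ∈ S (look24 Ms j0)) (hb : b ∈ S I)
    (hab : (orbF (genG PP n) b).card = (orbF (genG PP n) a).card) : b ∈ S (look24 Ms j0) := by
  rw [uniqOK, band_iff] at hu
  have hj0 : j0 < l := by simpa [Nat.blt] using hu.1
  obtain ⟨j, hj, hbj⟩ := orbs_cover h hb
  rw [orbs_eq hp h hj hbj, orbs_eq hp h hj0 ha, card_S, card_S] at hab
  have := kif_imp ((allN_iff _ _).1 hu.2 j hj) (beq_iff.2 hab)
  rw [beq_iff.1 this] at hbj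
  exact hbj

/-! ### normalizing elements -/

/-- `x` normalizes `K` -/
def NormP (x : Equiv.Perm GolayPt) (K : Subgroup (Equiv.Perm GolayPt)) : Prop := ∀ r, r ∈ K ↔ x * r * x⁻¹ ∈ K

theorem NormP.of_mem {x : Equiv.Perm GolayPt} {K : Subgroup (Equiv.Perm GolayPt)} (hx : x ∈ K) : NormP x K := by
  intro r
  constructor
  · intro hr; exact K.mul_mem (K.mul_mem hx hr) (K.inv_mem hx)
  · intro hr
    have : r = x⁻¹ * (x * r * x⁻¹) * x := by group
    rw [this]; exact K.mul_mem (K.mul_mem (K.inv_mem hx) hr) hx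

theorem NormP.mul {x y : Equiv.Perm GolayPt} {K : Subgroup (Equiv.Perm GolayPt)} (hx : NormP x K) (hy : NormP y K) :
    NormP (x * y) K := by
  intro r
  rw [hy r, hx]
  have : x * (y * r * y⁻¹) * x⁻¹ = x * y * r * (x * y)⁻¹ := by group
  rw [this]

theorem NormP.back {x : Equiv.Perm GolayPt} {K : Subgroup (Equiv.Perm GolayPt)} (hx : NormP x K) {r : Equiv.Perm GolayPt}
    (hr : r ∈ K) : x⁻¹ * r * x ∈ K := by
  rw [hx]
  have : x * (x⁻¹ * r * x) * x⁻¹ = r := by group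
  rw [this]; exact hr

theorem NormP.orb {x : Equiv.Perm GolayPt} {K : Subgroup (Equiv.Perm GolayPt)} (hx : NormP x K) (a : GolayPt) :
    orbF K (x a) = x • orbF K a := by
  ext q
  rw [mem_orbF]
  constructor
  · rintro ⟨k, hk, rfl⟩
    rw [Finset.mem_smul_finset]
    refine ⟨(x⁻¹ * k * x) a, mem_orbF.2 ⟨_, hx.back hk, rfl⟩, ?_⟩
    show x ((x⁻¹ * k * x) a) = k (x a)
    rw [← Equiv.Perm.mul_apply]
    have : x * (x⁻¹ * k * x) = k * x := by group
    rw [this]; rfl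
  · intro hq
    rw [Finset.mem_smul_finset] at hq
    obtain ⟨r, hr, rfl⟩ := hq
    obtain ⟨k, hk, rfl⟩ := mem_orbF.1 hr
    refine ⟨x * k * x⁻¹, (hx k).1 hk, ?_⟩
    show x (k (x⁻¹ (x a))) = x (k a)
    rw [← Equiv.Perm.mul_apply x⁻¹, inv_mul_cancel, Equiv.Perm.one_apply]

theorem NormP.card_orb {x : Equiv.Perm GolayPt} {K : Subgroup (Equiv.Perm GolayPt)} (hx : NormP x K) (a : GolayPt) :
    (orbF K (x a)).card = (orbF K a).card := by rw [hx.orb, Finset.card_smul_finset]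

theorem NormP.st {x : Equiv.Perm GolayPt} {K : Subgroup (Equiv.Perm GolayPt)} (hx : NormP x K) {a : GolayPt} (ha : x a = a) :
    NormP x (st K a) := by
  have hi : x⁻¹ a = a := by rw [Equiv.Perm.inv_eq_iff_eq, ha]
  intro r
  rw [mem_st, mem_st]
  constructor
  · rintro ⟨h1, h2⟩
    exact ⟨(hx r).1 h1, by rw [Equiv.Perm.mul_apply, Equiv.Perm.mul_apply, hi, h2, ha]⟩
  · rintro ⟨h1, h2⟩
    refine ⟨(hx r).2 h1, x.injective ?_⟩
    rw [Equiv.Perm.mul_apply, Equiv.Perm.mul_apply, hi] at h2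
    rw [h2, ha]

/-- elements of unique orbits stay there -/
theorem NormP.inv {x : Equiv.Perm GolayPt} {PP n I l Ms Rs Wd j0 : ℕ} (hp : ∀ i < n, isPerm (pk PP i) = true)
    (h : orbsOK PP n I l Ms Rs Wd = true) (hu : uniqOK Ms l j0 = true) (hx : NormP x (genG PP n)) (hI : ∀ q ∈ S I, x q ∈ S I)
    (hsub : Nat.beq (Nat.land (look24 Ms j0) I) (look24 Ms j0) = true) : ∀ q ∈ S (look24 Ms j0), x q ∈ S (look24 Ms j0) := by
  intro q hq
  have hqI : q ∈ S I := by
    have : S (look24 Ms j0) ⊆ S I := (subset_S_iff (look24_lt _ _)).2 (beq_iff.1 hsub)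
    exact this hq
  exact orbs_unique hp h hu hq (hI q hqI) (hx.card_orb q)

/-- move a base point back -/
theorem NormP.move {x : Equiv.Perm GolayPt} {PP n I l Ms Rs Wd j0 : ℕ} (hp : ∀ i < n, isPerm (pk PP i) = true)
    (h : orbsOK PP n I l Ms Rs Wd = true) (hu : uniqOK Ms l j0 = true) (hx : NormP x (genG PP n)) (hI : ∀ q ∈ S I, x q ∈ S I)
    (hsub : Nat.beq (Nat.land (look24 Ms j0) I) (look24 Ms j0) = true) {a : GolayPt} (ha : a ∈ S (look24 Ms j0)) :
    ∃ k ∈ genG PP n, (k * x) a = a := by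
  have h1 := hx.inv hp h hu hI hsub a ha
  have hj0 : j0 < l := by
    rw [uniqOK, band_iff] at hu
    simpa [Nat.blt] using hu.1
  rw [← orbs_eq hp h hj0 h1, mem_orbF] at ha
  exact ha

theorem NormP.fixF {x : Equiv.Perm GolayPt} {K : Subgroup (Equiv.Perm GolayPt)} {F I : Finset GolayPt} {c : GolayPt} (hx : NormP x K)
    (hI : ∀ q ∈ I, x q ∈ I) (hF : ∀ q ∈ F, x q = q) (hc : c ∈ I) (hcF : c ∉ F) (hKc : ∀ r ∈ K, r c = c)
    (h : ∀ q ∈ I, (∀ r ∈ K, r q = q) → q = c ∨ q ∈ F) : x c = c := by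
  rcases h (x c) (hI c hc) (fun r hr => by
    have := hKc _ (hx.back hr)
    rw [Equiv.Perm.mul_apply, Equiv.Perm.mul_apply, Equiv.Perm.inv_eq_iff_eq] at this
    exact this) with h1 | h1
  · exact h1
  · exact x.injective (hF _ h1)

theorem NormP.fixO {x r : Equiv.Perm GolayPt} {K : Subgroup (Equiv.Perm GolayPt)} {a a2 : GolayPt} (hx : NormP x K)
    (h2 : ∀ k ∈ K, k a = a → k a2 = a2) (hxa2 : x a2 = a2) (hxa : x a = a) (hr : r ∈ K) (hra : x (r a) = r a) : x (r a2) = r a2 := by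
  have hia : x⁻¹ a = a := by rw [Equiv.Perm.inv_eq_iff_eq, hxa]
  have hia2 : x⁻¹ a2 = a2 := by rw [Equiv.Perm.inv_eq_iff_eq, hxa2]
  have h3 := h2 (r⁻¹ * (x * r * x⁻¹)) (K.mul_mem (K.inv_mem hr) ((hx r).1 hr)) (by
    rw [Equiv.Perm.mul_apply, Equiv.Perm.mul_apply, Equiv.Perm.mul_apply, hia, hra, ← Equiv.Perm.mul_apply, inv_mul_cancel,
      Equiv.Perm.one_apply])
  rw [Equiv.Perm.mul_apply, Equiv.Perm.mul_apply, Equiv.Perm.mul_apply, hia2, Equiv.Perm.inv_eq_iff_eq] at h3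
  exact h3

/-! ### centre -/

/-- all elements of the group times `P` -/
noncomputable def allT (PP : ℕ) (f : ℕ → Bool) (n : ℕ) : ℕ → Bool :=
  @Nat.rec (fun _ => ℕ → Bool) f (fun i ih P => band (ih P) (ih (mulP (pk PP i) P))) n

theorem allT_spec {PP WT k : ℕ} (h : pcOK PP WT k = true) {f : ℕ → Bool} {n : ℕ} (hn : n ≤ k) :
    ∀ P, isPerm P = true → allT PP f n P = true → ∀ r ∈ genG PP n, ∃ Q, isPerm Q = true ∧ toPerm Q = r * toPerm P ∧ f Q = true := by
  induction n with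
  | zero =>
    intro P hP hf r hr
    have : genG PP 0 = ⊥ := by
      rw [eq_bot_iff]
      exact genG_le (fun i hi => absurd hi (Nat.not_lt_zero _))
    rw [this, Subgroup.mem_bot] at hr
    exact ⟨P, hP, by rw [hr, one_mul], hf⟩
  | succ n ih =>
    intro P hP hf r hr
    have h1 : band (allT PP f n P) (allT PP f n (mulP (pk PP n) P)) = true := hf
    rw [band_iff] at h1
    rcases pc_split h hn hr with h2 | h2
    · exact ih (by omega) P hP h1.1 r h2
    · have hp := pc_perm h hn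
      have h3 := ih (by omega) (mulP (pk PP n) P) (isPerm_mulP hp hP) h1.2
        (r * toPerm (pk PP n) * (toPerm (pk PP n) * toPerm (pk PP n))⁻¹)
        (Subgroup.mul_mem _ h2 (Subgroup.inv_mem _ (pc_sq h hn)))
      obtain ⟨Q, hQ1, hQ2, hQ3⟩ := h3
      refine ⟨Q, hQ1, ?_, hQ3⟩
      rw [hQ2, toPerm_mulP hp hP]; group

/-- packed commuting test -/
noncomputable def commT (Q P : ℕ) : Bool := allN (fun x => Nat.beq (im Q (im P x)) (im P (im Q x))) 24

theorem commT_of {Q P : ℕ} (hQ : isPerm Q = true) (hP : isPerm P = true) (h : toPerm Q * toPerm P = toPerm P * toPerm Q) :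
    commT Q P = true := by
  rw [commT, allN_iff]
  intro x hx
  rw [beq_iff]
  have h1 := congrArg (fun f : Equiv.Perm GolayPt => f (pt x)) h
  simp only [Equiv.Perm.mul_apply, toPerm_pt hQ hx, toPerm_pt hP hx, toPerm_pt hQ (im_lt hP hx), toPerm_pt hP (im_lt hQ hx)] at h1
  exact pt_inj (im_lt hQ (im_lt hP hx)) (im_lt hP (im_lt hQ hx)) h1

/-- centre check -/
noncomputable def ctrOK (PP z k : ℕ) : Bool :=
  allT PP (fun Q => kif (allN (fun i => commT Q (pk PP i)) k) (@Bool.rec (fun _ => Bool) (Nat.beq Q z) true (Nat.beq Q idP)) true) k idP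

theorem ctr_spec {PP WT k z : ℕ} (h : pcOK PP WT k = true) (hz : ctrOK PP z k = true) {c : Equiv.Perm GolayPt}
    (hc : c ∈ genG PP k) (hcomm : ∀ i < k, c * toPerm (pk PP i) = toPerm (pk PP i) * c) : c = 1 ∨ c = toPerm z := by
  obtain ⟨Q, hQ1, hQ2, hQ3⟩ := allT_spec h le_rfl idP (checkM24_perm idP_m) hz c hc
  rw [idP_one, mul_one] at hQ2
  have h1 := kif_imp hQ3 ((allN_iff _ _).2 (fun i hi => commT_of hQ1 (pc_perm h hi) (by rw [hQ2]; exact hcomm i hi)))
  rcases (brec_true _ _).1 h1 with h2 | h2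
  · left; rw [← hQ2, beq_iff.1 h2, idP_one]
  · right; rw [← hQ2, beq_iff.1 h2]

/-! ### strongly closed subgroups -/

/-- derivation step data: indices of the two factors and of the conjugator -/
def dI (DS n : ℕ) : ℕ := lookW 8 255 DS (Nat.mul 4 n)
/-- second factor -/
def dJ (DS n : ℕ) : ℕ := lookW 8 255 DS (Nat.add (Nat.mul 4 n) 1)
/-- conjugator -/
def dC (DS n : ℕ) : ℕ := lookW 8 255 DS (Nat.add (Nat.mul 4 n) 2)

/-- derivation check -/
noncomputable def derOK (PP k DL DG DS WL : ℕ) (inG : ℕ → Bool) (m : ℕ) : Bool :=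
  allN (fun n => band (band (Nat.ble (dI DS n) n) (Nat.ble (dJ DS n) n))
    (band (inG (pk DG (dC DS n))) (band (Nat.beq (prodW PP (lookW 10 1023 WL n) k) (pk DL (Nat.add n 1)))
      (Nat.beq (mulP (pk DG (dC DS n)) (mulP (pk DL (dI DS n)) (pk DL (dJ DS n))))
        (mulP (pk DL (Nat.add n 1)) (pk DG (dC DS n))))))) m

theorem der_spec {PP WT k DL DG DS WL m : ℕ} {inG : ℕ → Bool} {G T : Subgroup (Equiv.Perm GolayPt)}
    (h : pcOK PP WT k = true) (hin : ∀ P, inG P = true → isPerm P = true ∧ toPerm P ∈ G)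
    (hd : derOK PP k DL DG DS WL inG m = true)
    (hsc : ∀ t ∈ T, ∀ g ∈ G, g * t * g⁻¹ ∈ genG PP k → g * t * g⁻¹ ∈ T)
    (h0 : isPerm (pk DL 0) = true ∧ toPerm (pk DL 0) ∈ T) :
    ∀ n ≤ m, isPerm (pk DL n) = true ∧ toPerm (pk DL n) ∈ T := by
  intro n
  induction n using Nat.strong_induction_on with
  | _ n ih =>
    intro hn
    rcases Nat.eq_zero_or_pos n with rfl | hpos
    · exact h0
    · obtain ⟨n, rfl⟩ : ∃ n', n = n' + 1 := ⟨n - 1, by omega⟩
      have h1 := (allN_iff _ _).1 hd n (by omega)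
      rw [band_iff, band_iff, band_iff, band_iff] at h1
      obtain ⟨⟨a, b⟩, c, d, e⟩ := h1
      have ha : dI DS n ≤ n := Nat.le_of_ble_eq_true a
      have hb : dJ DS n ≤ n := Nat.le_of_ble_eq_true b
      obtain ⟨pa, ta⟩ := ih _ (by omega) (by omega : dI DS n ≤ m)
      obtain ⟨pb, tb⟩ := ih _ (by omega) (by omega : dJ DS n ≤ m)
      obtain ⟨pc, tc⟩ := hin _ c
      have hw := prodW_spec (e := lookW 10 1023 WL n) (fun i hi => pc_perm h hi) (le_refl k)
      rw [beq_iff.1 d] at hw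
      have hw' : isPerm (pk DL (n+1)) = true ∧ toPerm (pk DL (n+1)) ∈ genG PP k := hw
      refine ⟨hw'.1, ?_⟩
      have e1 := congrArg toPerm (beq_iff.1 e)
      rw [toPerm_mulP pc (isPerm_mulP pa pb), toPerm_mulP pa pb] at e1
      have e2 : toPerm (mulP (pk DL (Nat.add n 1)) (pk DG (dC DS n))) = toPerm (pk DL (n+1)) * toPerm (pk DG (dC DS n)) :=
        toPerm_mulP hw'.1 pc
      rw [e2] at e1
      have e3 : toPerm (pk DG (dC DS n)) * (toPerm (pk DL (dI DS n)) * toPerm (pk DL (dJ DS n))) * (toPerm (pk DG (dC DS n)))⁻¹ =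
          toPerm (pk DL (n+1)) := by rw [e1, mul_inv_cancel_right]
      have h2 := hsc _ (T.mul_mem ta tb) _ tc (by rw [e3]; exact hw'.2)
      rw [e3] at h2
      exact h2

/-- all generators are derived -/
noncomputable def genIn (PP k DL GI m : ℕ) : Bool :=
  allN (fun j => band (Nat.ble (lookW 8 255 GI j) m) (Nat.beq (pk PP j) (pk DL (lookW 8 255 GI j)))) k

theorem strong_top {PP WT k DL DG DS WL GI m : ℕ} {inG : ℕ → Bool} {G T : Subgroup (Equiv.Perm GolayPt)}
    (h : pcOK PP WT k = true) (hin : ∀ P, inG P = true → isPerm P = true ∧ toPerm P ∈ G)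
    (hd : derOK PP k DL DG DS WL inG m = true) (hg : genIn PP k DL GI m = true)
    (hsc : ∀ t ∈ T, ∀ g ∈ G, g * t * g⁻¹ ∈ genG PP k → g * t * g⁻¹ ∈ T)
    (h0 : isPerm (pk DL 0) = true ∧ toPerm (pk DL 0) ∈ T) : genG PP k ≤ T := by
  apply genG_le
  intro j hj
  have h1 := (allN_iff _ _).1 hg j hj
  rw [band_iff] at h1
  rw [beq_iff.1 h1.2]
  exact (der_spec h hin hd hsc h0 _ (Nat.le_of_ble_eq_true h1.1)).2

end Cfsg.Agent.H9
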