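import Cfsg.Agent.H9.Syl
import Cfsg.Agent.H9.FusS
set_option autoImplicit false

/-! Certificates for self-normalizing Sylow 2-subgroups. -/

namespace Cfsg.Agent.H9
open Cfsg
open scoped Pointwise

/-- mask of a list of points -/
def ptM (l : List ℕ) : ℕ := l.foldr (fun a m => 2 ^ a ||| m) 0

theorem mem_ptM {l : List ℕ} (hl : ∀ a ∈ l, a < 24) {p : GolayPt} : p ∈ S (ptM l) ↔ ∃ a ∈ l, p = pt a := by
  induction l with
  | nil => rw [ptM, List.foldr_nil, S_zero]; simp
  | cons b l ih =>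
    have e : ptM (b :: l) = 2 ^ b ||| ptM l := rfl
    rw [e, S_or, Finset.mem_union, S_two_pow (hl b (by simp)), Finset.mem_singleton, ih (fun a ha => hl a (by simp [ha]))]
    simp

theorem fix_ptM {l : List ℕ} (hl : ∀ a ∈ l, a < 24) {x : Equiv.Perm GolayPt} (h : ∀ a ∈ l, x (pt a) = pt a) :
    ∀ p ∈ S (ptM l), x p = p := by
  intro p hp
  obtain ⟨a, ha, rfl⟩ := (mem_ptM hl).1 hp
  exact h a ha

theorem NormP.zero (x : Equiv.Perm GolayPt) (PP : ℕ) : NormP x (genG PP 0) := by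
  have : genG PP 0 = ⊥ := by
    rw [eq_bot_iff]
    exact genG_le (fun i hi => absurd hi (Nat.not_lt_zero _))
  rw [this]
  intro r
  rw [Subgroup.mem_bot, Subgroup.mem_bot]
  constructor
  · rintro rfl; group
  · intro h
    have : r = x⁻¹ * (x * r * x⁻¹) * x := by group
    rw [this, h]; group

/-- certificate for a fixed point of a normalizing element -/
noncomputable def fixFOK (PP n I F c : ℕ) : Bool :=
  band (band (Nat.blt c 24) (Nat.beq (bt I c) 1)) (band (allN (fun i => Nat.beq (im (pk PP i) c) c) n)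
    (allN (fun q => kif (Nat.beq (bt I q) 1) (@Bool.rec (fun _ => Bool) (@Bool.rec (fun _ => Bool)
      (anyN (fun i => @Bool.rec (fun _ => Bool) true false (Nat.beq (im (pk PP i) q) q)) n) true (Nat.beq (bt F q) 1))
      true (Nat.beq q c)) true) 24))

theorem NormP.fixFc {x : Equiv.Perm GolayPt} {PP n I F c : ℕ} (hp : ∀ i < n, isPerm (pk PP i) = true) (hx : NormP x (genG PP n))
    (h : fixFOK PP n I F c = true) (hI : ∀ q ∈ S I, x q ∈ S I) (hF : ∀ q ∈ S F, x q = q) : x (pt c) = pt c := by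
  rw [fixFOK, band_iff, band_iff, band_iff] at h
  obtain ⟨⟨a, b⟩, d, e⟩ := h
  have hc : c < 24 := by simpa [Nat.blt] using a
  by_cases hcF : pt c ∈ S F
  · exact hF _ hcF
  refine NormP.fixF hx hI hF ((mem_S_pt hc).2 (bt_eq_one_iff.1 b)) hcF (genG_fix hp hc d) ?_
  intro q hq hfix
  have h1 := kif_imp ((allN_iff _ _).1 e (idx q) (idx_lt q)) (bt_eq_one_iff.2 (mem_S.1 hq))
  rcases (brec_true _ _).1 h1 with h2 | h2
  · left; rw [← beq_iff.1 h2, pt_idx]
  rcases (brec_true _ _).1 h2 with h3 | h3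
  · right; exact mem_S.2 (bt_eq_one_iff.1 h3)
  · exfalso
    obtain ⟨i, hi, h4⟩ := anyN_spec h3
    have h5 := hfix _ (gen_mem_genG hi)
    have h6 : im (pk PP i) (idx q) = idx q := by
      rw [← idx_toPerm (hp i hi), h5]
    rw [beq_iff.2 h6] at h4
    exact absurd h4 (by simp)

theorem NormP.fixOc {x : Equiv.Perm GolayPt} {PP WT MT BT k n s a a2 ra ra2 e : ℕ} (h : pcOK PP WT k = true) (hm : mkOK PP MT BT k = true)
    (hn : n ≤ k) (hsn : s ≤ n) (hb : ∀ j, s ≤ j → j < n → lookW 5 31 BT j = a) (hx : NormP x (genG PP n))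
    (hc : band (allN (fun i => Nat.beq (im (pk PP i) a2) a2) s) (band (Nat.beq (im (prodW PP e n) a) ra)
      (band (Nat.beq (im (prodW PP e n) a2) ra2) (band (Nat.blt a 24) (Nat.blt a2 24)))) = true)
    (h1 : x (pt a) = pt a) (h2 : x (pt a2) = pt a2) (h3 : x (pt ra) = pt ra) : x (pt ra2) = pt ra2 := by
  rw [band_iff, band_iff, band_iff, band_iff] at hc
  obtain ⟨c1, c2, c3, c4, c5⟩ := hc
  have ha : a < 24 := by simpa [Nat.blt] using c4
  have ha2 : a2 < 24 := by simpa [Nat.blt] using c5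
  have hp : ∀ i < n, isPerm (pk PP i) = true := fun i hi => pc_perm h (by omega)
  have hw := prodW_spec (e := e) hp le_rfl
  have e1 : toPerm (prodW PP e n) (pt a) = pt ra := by rw [toPerm_pt hw.1 ha, beq_iff.1 c2]
  have e2 : toPerm (prodW PP e n) (pt a2) = pt ra2 := by rw [toPerm_pt hw.1 ha2, beq_iff.1 c3]
  rw [← e2]
  refine NormP.fixO hx (a := pt a) ?_ h2 h1 hw.2 (by rw [e1]; exact h3)
  intro g hg hga
  exact genG_fix (fun i hi => hp i (by omega)) ha2 c1 g (mk_block h hm hn hb hsn hg hga)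

theorem NormP.step {x : Equiv.Perm GolayPt} {PP WT MT BT k n s b : ℕ} (h : pcOK PP WT k = true) (hm : mkOK PP MT BT k = true)
    (hn : n ≤ k) (hsn : s ≤ n) (hb : ∀ j, s ≤ j → j < n → lookW 5 31 BT j = b) (hb24 : b < 24)
    (hfix : allN (fun i => Nat.beq (im (pk PP i) b) b) s = true) (hx : NormP x (genG PP n)) (hxb : x (pt b) = pt b) :
    NormP x (genG PP s) := by
  have hp : ∀ i < k, isPerm (pk PP i) = true := fun i hi => pc_perm h hi
  have e : genG PP s = H9.st (genG PP n) (pt b) := by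
    ext g
    rw [mem_st]
    constructor
    · intro hg
      exact ⟨genG_mono hsn hg, genG_fix (fun i hi => hp i (by omega)) hb24 hfix g hg⟩
    · rintro ⟨hg, hgb⟩
      exact mk_block h hm hn hb hsn hg hgb
  rw [e]
  exact hx.st hxb

/-- from a certificate to the fusion system statement -/
theorem fusion_cert {G : Subgroup (Equiv.Perm GolayPt)} {PP WT MT BT k m z : ℕ} (h : pcOK PP WT k = true) (hm : mkOK PP MT BT k = true)
    (hk : 1 ≤ k) (hG : Nat.card G = 2 ^ k * m) (hm1 : m % 2 = 1) (hle : genG PP k ≤ G)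
    (hA : ∀ x ∈ G, NormP x (genG PP k) → x ∈ genG PP k)
    (hz : ctrOK PP z k = true)
    (hB : ∀ T ≤ genG PP k, toPerm z ∈ T → (∀ t ∈ T, ∀ g ∈ G, g * t * g⁻¹ ∈ genG PP k → g * t * g⁻¹ ∈ T) → genG PP k ≤ T)
    (S : Sylow 2 G) : (groupFusionSystem (S : Subgroup G)).IsSimple 2 ∧
      Subgroup.normalizer ((S : Subgroup G) : Set G) = (S : Subgroup G) := by
  have hcard : Nat.card ((genG PP k).subgroupOf G) = 2 ^ k := by
    rw [Nat.card_congr (Subgroup.subgroupOfEquivOfLe hle).toEquiv]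
    exact mk_card h hm le_rfl
  refine fusion_simple hk hcard hG hm1 ?_ ?_ S
  · intro x hx
    rw [Subgroup.mem_subgroupOf]
    apply hA x x.2
    intro r
    constructor
    · intro hr
      exact (hx ⟨r, hle hr⟩).1 hr
    · intro hr
      have hrG : r ∈ G := by
        have : r = (x : Equiv.Perm GolayPt)⁻¹ * (x * r * (x : Equiv.Perm GolayPt)⁻¹) * x := by group
        rw [this]; exact G.mul_mem (G.mul_mem (G.inv_mem x.2) (hle hr)) x.2
      exact (hx ⟨r, hrG⟩).2 hr
  · intro T hT hT1 hcl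
    -- a central element in T
    have hpg : IsPGroup 2 ((genG PP k).subgroupOf G) := IsPGroup.of_card hcard
    have : Fact (Nat.Prime 2) := ⟨Nat.prime_two⟩
    have : Group.IsNilpotent ((genG PP k).subgroupOf G) := hpg.isNilpotent
    have hTn : (T.subgroupOf ((genG PP k).subgroupOf G)).Normal := by
      refine ⟨fun t ht g => ?_⟩
      rw [Subgroup.mem_subgroupOf] at ht ⊢
      exact hcl _ ht g (Subgroup.mul_mem _ (Subgroup.mul_mem _ g.2 (hT ht)) (Subgroup.inv_mem _ g.2))
    have hT2 : T.subgroupOf ((genG PP k).subgroupOf G) ≠ ⊥ := by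
      intro h2
      apply hT1
      rw [Subgroup.subgroupOf_eq_bot] at h2
      rw [eq_bot_iff]
      intro t ht
      exact h2.le_bot ⟨ht, hT ht⟩
    have h3 := Cfsg.Agent.H1.inf_center_ne_bot _ hT2
    obtain ⟨c, hc⟩ := Subgroup.ne_bot_iff_exists_ne_one.1 h3
    have hcc := c.2
    rw [Subgroup.mem_inf, Subgroup.mem_center_iff, Subgroup.mem_subgroupOf] at hcc
    have h4 : (((c : ↥((genG PP k).subgroupOf G)) : G) : Equiv.Perm GolayPt) = 1 ∨
        (((c : ↥((genG PP k).subgroupOf G)) : G) : Equiv.Perm GolayPt) = toPerm z := by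
      apply ctr_spec h hz (c : ↥((genG PP k).subgroupOf G)).2
      intro i hi
      have h5 := hcc.2 ⟨⟨toPerm (pk PP i), hle (gen_mem_genG hi)⟩, gen_mem_genG hi⟩
      exact (congrArg (fun y : ↥((genG PP k).subgroupOf G) => ((y : G) : Equiv.Perm GolayPt)) h5).symm
    have h5 : (((c : ↥((genG PP k).subgroupOf G)) : G) : Equiv.Perm GolayPt) = toPerm z := by
      rcases h4 with h4 | h4
      · exfalso
        apply hc
        apply Subtype.ext; apply Subtype.ext; apply Subtype.ext; exact h4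
      · exact h4
    apply le_antisymm hT
    have h6 := hB (T.map G.subtype) (by
        rintro _ ⟨t, ht, rfl⟩; exact hT ht) ⟨_, hcc.1, h5⟩ (by
        rintro _ ⟨t, ht, rfl⟩ g hg h7
        exact ⟨⟨g, hg⟩ * t * ⟨g, hg⟩⁻¹, hcl t ht ⟨g, hg⟩ h7, rfl⟩)
    intro r hr
    obtain ⟨t, ht, h7⟩ := h6 hr
    have : t = r := Subtype.ext h7
    rw [← this]; exact ht

end Cfsg.Agent.H9
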